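import Cfsg.Agent.Lib.Compute.Simple

/-!
# Sharply 4-transitive groups of degree 11 and sharply 5-transitive groups of degree 12
-/

namespace Cfsg.Agent.Lib.Design

open MulAction Cfsg.Agent.Lib.Compute

variable {G α : Type*} [Group G] [MulAction G α] [Finite α]

/-- A sharply `k`-transitive group has as many elements as there are `k`-tuples. -/
theorem card_of_sharp {k : ℕ} [IsMultiplyPretransitive G α k] (x : Fin k ↪ α)
    (hsharp : stabilizer G x = ⊥) : Nat.card G = Nat.card (Fin k ↪ α) := by
  have h := (stabilizer G x).card_mul_index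
  rw [hsharp, Subgroup.card_bot, one_mul] at h
  rw [← h, ← hsharp, MulAction.index_stabilizer_of_transitive]

theorem finite_of_sharp {k : ℕ} [IsMultiplyPretransitive G α k] (x : Fin k ↪ α)
    (hsharp : stabilizer G x = ⊥) : Finite G := by
  refine Finite.of_injective (fun g : G => g • x) fun g h he => ?_
  have : h⁻¹ * g ∈ stabilizer G x := by
    rw [mem_stabilizer_iff, mul_smul]
    exact inv_smul_eq_iff.mpr he
  rw [hsharp, Subgroup.mem_bot] at this
  exact (inv_mul_eq_one.mp this).symm

/-- The Sylow normaliser of a group of degree `p`. -/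
theorem card_normalizer_le [Finite G] [FaithfulSMul G α] {p : ℕ} [hp : Fact p.Prime]
    (hα : Nat.card α = p) (P : Subgroup G) (hP : Nat.card P = p) :
    Nat.card (Subgroup.normalizer (P : Set G)) ≤ (p - 1) * p := by
  haveI : Nontrivial P := Finite.one_lt_card_iff_nontrivial.mp (hP ▸ hp.out.one_lt)
  obtain ⟨c, hc⟩ := exists_ne (1 : P)
  have hc' : (c : G) ≠ 1 := fun e => hc (Subtype.ext e)
  obtain ⟨x₀, hx₀⟩ : ∃ x : α, (c : G) • x ≠ x := by
    by_contra h
    push Not at h
    exact hc' (eq_of_smul_eq_smul fun x : α => by rw [h x, one_smul])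
  have htrans : orbit P x₀ = Set.univ := by
    haveI := Fintype.ofFinite (orbit P x₀)
    have hd : Nat.card (orbit P x₀) ∣ p := by
      rw [← hP]
      exact ⟨Nat.card (stabilizer P x₀), by
        rw [← Nat.card_prod]; exact (Nat.card_congr (MulAction.orbitProdStabilizerEquivGroup P x₀)).symm⟩
    rcases (Nat.dvd_prime hp.out).mp hd with e | e
    · exfalso
      rw [Nat.card_eq_one_iff_unique] at e
      obtain ⟨hs, -⟩ := e
      exact hx₀ (congrArg Subtype.val (hs.elim ⟨c • x₀, mem_orbit x₀ c⟩ ⟨x₀, mem_orbit_self x₀⟩))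
    · refine Set.eq_of_subset_of_ncard_le (Set.subset_univ _) ?_ (Set.toFinite _)
      rw [Set.ncard_univ, hα, ← Nat.card_coe_set_eq, e]
  let f : Subgroup.normalizer (P : Set G) → {q : P // q ≠ 1} × α := fun g =>
    (⟨⟨(g : G) * c * (g : G)⁻¹, (Subgroup.mem_normalizer_iff.mp g.2 c).mp c.2⟩, fun e => hc' <| by
      have e' : (g : G) * c * (g : G)⁻¹ = 1 := congrArg Subtype.val e
      calc (c : G) = (g : G)⁻¹ * ((g : G) * c * (g : G)⁻¹) * g := by group
        _ = 1 := by rw [e']; group⟩, (g : G) • x₀)
  have hf : Function.Injective f := by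
    intro g h e
    simp only [f, Prod.mk.injEq, Subtype.mk.injEq] at e
    obtain ⟨e1, e2⟩ := e
    have hcomm : ((h : G)⁻¹ * g) * c = c * ((h : G)⁻¹ * g) := by
      calc ((h : G)⁻¹ * g) * c = (h : G)⁻¹ * ((g : G) * c * (g : G)⁻¹) * g := by group
        _ = (h : G)⁻¹ * ((h : G) * c * (h : G)⁻¹) * g := by rw [e1]
        _ = c * ((h : G)⁻¹ * g) := by group
    have hfix : ((h : G)⁻¹ * g) • x₀ = x₀ := by rw [mul_smul, e2, inv_smul_smul]
    have hcomm' : ∀ q : P, ((h : G)⁻¹ * g) * (q : G) = (q : G) * ((h : G)⁻¹ * g) := by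
      intro q
      obtain ⟨k, hk⟩ := (mem_zpowers_of_prime_card hP hc : q ∈ Subgroup.zpowers c)
      rw [← hk]
      show _ * ((c ^ k : P) : G) = ((c ^ k : P) : G) * _
      rw [Subgroup.coe_zpow]
      exact (Commute.zpow_right hcomm k).eq
    have : (h : G)⁻¹ * g = 1 := by
      refine eq_of_smul_eq_smul fun x : α => ?_
      obtain ⟨q, rfl⟩ : x ∈ orbit P x₀ := htrans ▸ Set.mem_univ x
      show ((h : G)⁻¹ * g) • ((q : G) • x₀) = (1 : G) • _
      rw [one_smul, ← mul_smul, hcomm', mul_smul, hfix]
      rfl
    exact Subtype.ext (inv_mul_eq_one.mp this).symm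
  have h1 := Nat.card_le_card_of_injective f hf
  rw [Nat.card_prod, hα] at h1
  refine h1.trans (Nat.mul_le_mul_right p ?_)
  haveI := Fintype.ofFinite P
  haveI := Classical.decEq P
  rw [Nat.card_eq_fintype_card, Fintype.card_subtype_compl, Fintype.card_subtype_eq,
    ← Nat.card_eq_fintype_card, hP]

/-- A faithful transitive group of degree 11 and order 7920 is simple. -/
theorem isSimpleGroup_degree_eleven [Finite G] [FaithfulSMul G α] [IsPretransitive G α]
    (hα : Nat.card α = 11) (hG : Nat.card G = 7920) : IsSimpleGroup G := by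
  haveI : Fact (Nat.Prime 11) := ⟨by norm_num⟩
  haveI : IsPreprimitive G α := IsPreprimitive.of_prime_card (hα ▸ (by norm_num : Nat.Prime 11))
  haveI : Nonempty α := Nat.card_pos_iff.mp (by omega) |>.1
  haveI : Nontrivial G := Finite.one_lt_card_iff_nontrivial.mp (by omega)
  let S : Set G := {g | g ^ 11 = 1}
  let K := Subgroup.closure S
  haveI hKn : K.Normal := by
    refine ⟨fun x hx g => ?_⟩
    induction hx using Subgroup.closure_induction with
    | mem y hy =>
      refine Subgroup.subset_closure ?_
      show (g * y * g⁻¹) ^ 11 = 1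
      rw [conj_pow, show y ^ 11 = 1 from hy]
      group
    | one => simp
    | mul y z _ _ h1 h2 => simpa [mul_assoc] using mul_mem h1 h2
    | inv y _ h1 => simpa [mul_assoc] using inv_mem h1
  refine isSimpleGroup_of_pElements (α := α) (p := 11) (a := 1) (by norm_num) (by rw [hα]; norm_num)
    (by rw [hG]; norm_num) (S := S) (fun s hs => ⟨1, by rw [pow_one]; exact orderOf_dvd_of_pow_eq_one hs⟩) ?_
  obtain ⟨P⟩ := (inferInstance : Nonempty (Sylow 11 G))
  have hP : Nat.card P = 11 := by
    rw [P.card_eq_multiplicity, hG]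
    norm_num
    rw [show (7920 : ℕ) = 11 * 720 by norm_num, Nat.factorization_mul (by norm_num) (by norm_num),
      Finsupp.add_apply, Nat.Prime.factorization_self (by norm_num),
      Nat.factorization_eq_zero_of_not_dvd (by norm_num)]
    norm_num
  let N := Subgroup.normalizer ((P : Subgroup G) : Set G)
  have hN : Nat.card N = 55 := by
    have h1 : Nat.card N ≤ 110 := card_normalizer_le hα (P : Subgroup G) hP
    have h2 : 11 ∣ Nat.card N := hP ▸ Subgroup.card_dvd_of_le Subgroup.le_normalizer
    have h3 : N.index ≡ 1 [MOD 11] := by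
      have h := card_sylow_modEq_one 11 G
      rwa [Sylow.card_eq_index_normalizer P] at h
    have h4 := N.card_mul_index
    rw [hG] at h4
    generalize N.index = i at h3 h4
    obtain ⟨q, hq⟩ := h2
    rw [hq] at h1 h4 ⊢
    have h5 : q ≤ 10 := by omega
    unfold Nat.ModEq at h3
    interval_cases q <;> omega
  have hPK : (P : Subgroup G) ≤ K := fun x hx => Subgroup.subset_closure <| by
    show x ^ 11 = 1
    exact orderOf_dvd_iff_pow_eq_one.mp (hP ▸ Subgroup.orderOf_dvd_natCard _ hx)
  have hsup : N ⊔ K = ⊤ := Sylow.normalizer_sup_eq_top' P hPK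
  show K = ⊤
  by_contra hK
  have hd : K.index ∣ 55 := by
    rw [← hN, ← Subgroup.relIndex_top_right K, ← hsup, Subgroup.relIndex_sup_right]
    exact Subgroup.relIndex_dvd_card _ _
  have hnd : ¬ 11 ∣ K.index := fun h => by
    have h' := K.card_mul_index
    have h11 : 11 ∣ Nat.card K := hP ▸ Subgroup.card_dvd_of_le hPK
    have := Nat.mul_dvd_mul h11 h
    rw [h', hG] at this
    norm_num at this
  have hi : K.index = 5 := by
    have : K.index ∈ Nat.divisors 55 := Nat.mem_divisors.mpr ⟨hd, by norm_num⟩
    rw [show Nat.divisors 55 = {1, 5, 11, 55} by decide +kernel] at this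
    simp only [Finset.mem_insert, Finset.mem_singleton] at this
    rcases this with e | e | e | e
    · exact absurd (Subgroup.index_eq_one.mp e) hK
    · exact e
    · exact absurd (by rw [e]) hnd
    · exact absurd (by rw [e]; norm_num) hnd
  have hKc : Nat.card K = 1584 := by
    have := K.card_mul_index
    rw [hi, hG] at this
    omega
  -- all Sylow subgroups lie in K, so the normaliser in K is P
  have hall : ∀ Q : Sylow 11 G, (Q : Subgroup G) ≤ K := fun Q x hx => Subgroup.subset_closure <| by
    show x ^ 11 = 1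
    refine orderOf_dvd_iff_pow_eq_one.mp ?_
    rw [← hP, P.card_eq_multiplicity, ← Q.card_eq_multiplicity]
    exact Subgroup.orderOf_dvd_natCard _ hx
  let Q : Sylow 11 K := P.subtype hPK
  have hn : Nat.card (Sylow 11 G) ≤ Nat.card (Sylow 11 K) :=
    Nat.card_le_card_of_injective (fun R => R.subtype (hall R)) fun R R' e => Sylow.subtype_injective e
  have hnG : Nat.card (Sylow 11 G) = 144 := by
    rw [Sylow.card_eq_index_normalizer P]
    have := N.card_mul_index
    rw [hN, hG] at this
    show N.index = 144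
    omega
  have hQ : Nat.card Q = 11 := by
    have hQ' : ((Q : Subgroup K)) = (P : Subgroup G).subgroupOf K := P.coe_subtype hPK
    show Nat.card (Q : Subgroup K) = 11
    rw [hQ', Nat.card_congr (Subgroup.subgroupOfEquivOfLe hPK).toEquiv, hP]
  have hNQ : Subgroup.normalizer ((Q : Subgroup K) : Set K) = (Q : Subgroup K) := by
    have h1 := (Subgroup.normalizer ((Q : Subgroup K) : Set K)).card_mul_index
    have hq : Nat.card (Sylow 11 K) = (Subgroup.normalizer ((Q : Subgroup K) : Set K)).index :=
      Sylow.card_eq_index_normalizer Q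
    rw [← hq, hKc] at h1
    refine (Subgroup.eq_of_le_of_card_ge Subgroup.le_normalizer ?_).symm
    rw [show Nat.card (Q : Subgroup K) = 11 from hQ]
    by_contra hlt
    push Not at hlt
    have := Nat.mul_le_mul (Nat.succ_le_of_lt hlt) (hnG ▸ hn)
    omega
  have hcomm : Subgroup.normalizer ((Q : Subgroup K) : Set K) ≤
      Subgroup.centralizer ((Q : Subgroup K) : Set K) := by
    rw [hNQ]
    intro x hx
    rw [Subgroup.mem_centralizer_iff]
    intro y hy
    haveI := isCyclic_of_prime_card (α := (Q : Subgroup K)) hQ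
    exact congrArg Subtype.val (IsCyclic.commGroup.mul_comm (⟨y, hy⟩ : (Q : Subgroup K)) ⟨x, hx⟩)
  let L := (MonoidHom.transferSylow Q hcomm).ker
  have hL : Nat.card L = 144 := by
    have h := (MonoidHom.ker_transferSylow_isComplement' Q hcomm).card_mul_card
    rw [show Nat.card (Q : Subgroup K) = 11 from hQ, hKc] at h
    show Nat.card (MonoidHom.transferSylow Q hcomm).ker = 144
    omega
  have hLi : L.index = 11 := by
    have := L.card_mul_index
    rw [hL, hKc] at this
    omega
  let L' := L.map K.subtype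
  haveI hLn : L'.Normal := by
    refine ⟨fun x hx g => ?_⟩
    obtain ⟨y, hy, rfl⟩ := hx
    have hmem : g * (y : G) * g⁻¹ ∈ K := hKn.conj_mem _ y.2 g
    refine ⟨⟨_, hmem⟩, ?_, rfl⟩
    have h144 : orderOf (⟨_, hmem⟩ : K) ∣ 144 := by
      rw [← Subgroup.orderOf_coe]
      show orderOf (g * (y : G) * g⁻¹) ∣ 144
      rw [← SemiconjBy.orderOf_eq g (show g * (y : G) = (g * y * g⁻¹) * g by group),
        Subgroup.orderOf_coe, ← hL]
      exact L.orderOf_dvd_natCard hy
    show (⟨_, hmem⟩ : K) ∈ L
    haveI : L.Normal := MonoidHom.normal_ker _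
    refine (QuotientGroup.eq_one_iff _).mp (orderOf_eq_one_iff.mp
      (Nat.eq_one_of_dvd_coprimes (by norm_num : Nat.Coprime 144 11)
        ((orderOf_map_dvd (QuotientGroup.mk' L) _).trans h144) ?_))
    rw [← hLi]
    exact orderOf_dvd_natCard _
  have hL' : Nat.card L' = 144 := by
    rw [← hL]; exact (Nat.card_congr (L.equivMapOfInjective _ K.subtype_injective).toEquiv).symm
  have hne : L' ≠ ⊥ := fun e => by rw [e, Subgroup.card_bot] at hL'; omega
  haveI := isPretransitive_of_normal_ne_bot (α := α) hne
  have := card_dvd_card_of_isPretransitive (α := α) L'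
  rw [hα, hL'] at this
  norm_num at this

/-- A sharply 4-transitive group of degree 11 is simple of order 7920. -/
theorem sharp_four_eleven [FaithfulSMul G α] [IsMultiplyPretransitive G α 4]
    (hα : Nat.card α = 11) (hsharp : ∀ x : Fin 4 ↪ α, stabilizer G x = ⊥) :
    IsSimpleGroup G ∧ Nat.card G = 7920 := by
  haveI : Fintype α := Fintype.ofFinite α
  obtain ⟨x⟩ : Nonempty (Fin 4 ↪ α) :=
    Function.Embedding.nonempty_of_card_le (by rw [Fintype.card_fin, ← Nat.card_eq_fintype_card, hα]; norm_num)
  haveI := finite_of_sharp x (hsharp x)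
  have hG : Nat.card G = 7920 := by
    rw [card_of_sharp x (hsharp x), Nat.card_eq_fintype_card, Fintype.card_embedding_eq, Fintype.card_fin,
      ← Nat.card_eq_fintype_card, hα]
    decide +kernel
  haveI : IsPretransitive G α := isPretransitive_of_is_two_pretransitive
    (h2 := isMultiplyPretransitive_of_le (n := 4) (by norm_num) (by rw [hα]; norm_num))
  exact ⟨isSimpleGroup_degree_eleven hα hG, hG⟩

/-- A sharply 5-transitive group of degree 12 is simple of order 95040. -/
theorem sharp_five_twelve [FaithfulSMul G α] [IsMultiplyPretransitive G α 5]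
    (hα : Nat.card α = 12) (hsharp : ∀ x : Fin 5 ↪ α, stabilizer G x = ⊥) :
    IsSimpleGroup G ∧ Nat.card G = 95040 := by
  haveI : Fintype α := Fintype.ofFinite α
  obtain ⟨x⟩ : Nonempty (Fin 5 ↪ α) :=
    Function.Embedding.nonempty_of_card_le (by rw [Fintype.card_fin, ← Nat.card_eq_fintype_card, hα]; norm_num)
  haveI := finite_of_sharp x (hsharp x)
  have hG : Nat.card G = 95040 := by
    rw [card_of_sharp x (hsharp x), Nat.card_eq_fintype_card, Fintype.card_embedding_eq, Fintype.card_fin,
      ← Nat.card_eq_fintype_card, hα]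
    decide +kernel
  refine ⟨?_, hG⟩
  have h2 : IsMultiplyPretransitive G α 2 :=
    isMultiplyPretransitive_of_le (n := 5) (by norm_num) (by rw [hα]; norm_num)
  haveI : IsPretransitive G α := isPretransitive_of_is_two_pretransitive (h2 := h2)
  haveI : Nontrivial G := Finite.one_lt_card_iff_nontrivial.mp (by omega)
  let a := x 0
  haveI : IsMultiplyPretransitive (stabilizer G a) (SubMulAction.ofStabilizer G a) 4 :=
    SubMulAction.ofStabilizer.isMultiplyPretransitive.mp (inferInstance : IsMultiplyPretransitive G α 5)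
  have hcard : Nat.card (SubMulAction.ofStabilizer G a) = 11 := by
    rw [SubMulAction.nat_card_ofStabilizer_eq G a, hα]
  haveI : FaithfulSMul (stabilizer G a) (SubMulAction.ofStabilizer G a) := by
    refine ⟨fun {g h} e => Subtype.ext (eq_of_smul_eq_smul fun y : α => ?_)⟩
    rcases eq_or_ne y a with rfl | hy
    · exact (g.2 : (g : G) • a = a).trans (h.2 : (h : G) • a = a).symm
    · exact congrArg Subtype.val (e ⟨y, (SubMulAction.mem_ofStabilizer_iff G a).mpr hy⟩)
  have hsub : ∀ y : Fin 4 ↪ SubMulAction.ofStabilizer G a,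
      stabilizer (stabilizer G a) y = ⊥ := by
    intro y
    rw [eq_bot_iff]
    intro g hg
    have hinj : Function.Injective (Fin.cons a (fun i => (y i : α)) : Fin 5 → α) :=
      Fin.cons_injective_iff.mpr ⟨fun ⟨i, hi⟩ => SubMulAction.neq_of_mem_ofStabilizer G a hi,
        Subtype.val_injective.comp y.injective⟩
    have : (g : G) ∈ stabilizer G (⟨_, hinj⟩ : Fin 5 ↪ α) := by
      refine DFunLike.ext _ _ fun i => ?_
      induction i using Fin.cases with
      | zero => exact g.2
      | succ i => exact congrArg Subtype.val (DFunLike.congr_fun hg i)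
    rw [hsharp, Subgroup.mem_bot] at this
    exact Subgroup.mem_bot.mpr (Subtype.ext this)
  obtain ⟨hs, -⟩ := sharp_four_eleven hcard hsub
  refine isSimpleGroup_of_stabilizer h2 a hs ?_ (by rw [hα]; norm_num)
  rw [hα, isPrimePow_nat_iff_bounded]
  decide +kernel

end Cfsg.Agent.Lib.Design
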