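import Cfsg.Agent.Lib.Design.Extend
import Cfsg.Agent.Lib.Compute.M24Action

/-!
# Masks for the derived systems S(4,7,23) and S(3,6,22) of the octads
-/

namespace Cfsg.Agent.Lib.Design

open Cfsg Finset Cfsg.Agent.Lib.Compute
open scoped Pointwise

/-- Twelve independent octads through the extra point. -/
def gens23 : List ℕ :=
  [0x800c75, 0xc0063a, 0xa0031d, 0x900bc1, 0xc805e0, 0x840d98, 0x8206cc, 0x810366, 0x8081b3,
   0x804a96, 0x80254b, 0x8018ea]

/-- Eleven independent octads through the extra point and the point 0. -/
def gens22 : List ℕ :=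
  [0x800c75, 0xa0031d, 0x900bc1, 0xa800c7, 0xd40063, 0xc20c83, 0xc10929, 0x8081b3, 0xc040d9,
   0x80254b, 0xc012a5]

/-- An echelon basis of their span. -/
def basis22 : List (ℕ × ℕ) :=
  [(0x800c75, 23), (0x401ed0, 22), (0x200f68, 21), (0x1007b4, 20), (0x803da, 19), (0x41572, 18),
   (0x21e26, 17), (0x11b8c, 16), (0x8dc6, 15), (0x527c, 14), (0x293e, 13)]

/-- An echelon basis of the dual of their span. -/
def dual22 : List (ℕ × ℕ) :=
  [(0x800001, 23), (0x40063b, 22), (0x20031c, 21), (0x1007b4, 20), (0x803da, 19), (0x401ed, 18),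
   (0x206cd, 17), (0x10367, 16), (0x81b2, 15), (0x46e3, 14), (0x254a, 13), (0x149f, 12),
   (0xc74, 11)]

/-- Members of the span isolating the non-pivot positions of the dual. -/
def iso22 : List (ℕ × ℕ) :=
  [(0xc75001, 0), (0x49f002, 1), (0x371804, 2), (0x6e3008, 3), (0x789810, 4), (0x55c820, 5),
   (0xf6840, 6), (0x1ed080, 7), (0x3da100, 8), (0x7b4200, 9), (0x527c00, 10)]

/-- An octad through the point 0 missing the extra point. -/
def sep22 : ℕ := 0x400a4f

theorem gens23_facts : ∀ g ∈ gens23, inCode g = true ∧ pop g = 8 ∧ g.testBit 23 = true := by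
  decide +kernel

theorem gens23_span : ∀ b ∈ golayBasis.map Prod.fst, b ∈ spanList gens23 := by decide +kernel

theorem gens22_facts : ∀ g ∈ gens22,
    inCode g = true ∧ pop g = 8 ∧ g.testBit 23 = true ∧ g.testBit 0 = true := by decide +kernel

theorem sep22_facts : inCode sep22 = true ∧ pop sep22 = 8 ∧ sep22.testBit 23 = false ∧
    sep22.testBit 0 = true ∧ sep22 < 2 ^ 24 := by decide +kernel

theorem echOk_dual22 : echOk dual22 = true := by decide +kernel
theorem isoOk_dual22 : isoOk dual22 iso22 = true := by decide +kernel

theorem dual22_orth : ∀ b ∈ dual22.map Prod.fst, ∀ u ∈ iso22, pop (b &&& u.1) % 2 = 0 := by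
  decide +kernel

theorem iso22_span : ∀ u ∈ iso22, red basis22 u.1 = 0 := by decide +kernel
theorem basis22_gen : ∀ b ∈ basis22.map Prod.fst, b ∈ spanList gens22 := by decide +kernel

theorem code_nonseparating22 : (codeList.all fun c =>
    (c.testBit 23 != c.testBit 0) || (red basis22 c == 0)) = true := by decide +kernel

/-- Exchange of the positions 23 and 0 in a mask. -/
def swap230 (m : ℕ) : ℕ := bif m.testBit 23 == m.testBit 0 then m else m ^^^ 8388609

theorem separator_cases22 : ((spanList (dual22.map Prod.fst)).all fun m =>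
    (pop m != 8) || (m.testBit 23 == m.testBit 0) || inCode m || inCode (swap230 m)) = true := by
  decide +kernel

/-- A permutation mapping masks spanning the code into the code is in `M24`. -/
theorem mem_M24_of_gens {σ : Equiv.Perm GolayPt} (L : List ℕ)
    (hL : ∀ b ∈ golayBasis.map Prod.fst, b ∈ spanList L)
    (h : ∀ m ∈ L, wordOf m ∘ σ.symm ∈ golayCode) : σ ∈ M24 := by
  rw [mem_M24_iff]
  intro w hw
  rw [golayCode_eq_span] at hw
  have hle : ∀ m ∈ spanList L, wordOf m ∘ σ.symm ∈ golayCode := by
    clear hw hL
    induction L with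
    | nil =>
      intro m hm
      simp only [spanList, List.mem_singleton] at hm
      subst hm
      rw [wordOf_zero]
      exact zero_mem _
    | cons b L ih =>
      intro m hm
      have h' := fun m hm => h m (List.mem_cons_of_mem b hm)
      simp only [spanList, List.mem_append, List.mem_map] at hm
      rcases hm with hm | ⟨m', hm', rfl⟩
      · exact ih h' m hm
      · rw [wordOf_xor]
        exact add_mem (h b List.mem_cons_self) (ih h' m' hm')
  induction hw using Submodule.span_induction with
  | mem x hx => obtain ⟨b, hb, rfl⟩ := hx; exact hle b (hL b hb)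
  | zero => exact zero_mem _
  | add x y _ _ hx hy => exact add_mem hx hy
  | smul c x _ hx => exact Submodule.smul_mem _ c hx

theorem wordOf_eq_indWord (m : ℕ) : wordOf m = indWord (setOf24 m) :=
  support₂_injective (by rw [support₂_wordOf, support₂_indWord])

theorem comp_symm_mem_of_image_octad {σ : Equiv.Perm GolayPt} {m : ℕ}
    (h : (setOf24 m).image σ ∈ octads) : wordOf m ∘ σ.symm ∈ golayCode := by
  obtain ⟨⟨w, hw, hwe⟩, -⟩ := h
  have : wordOf m ∘ σ.symm = w := by
    refine support₂_injective ?_
    rw [hwe, support₂_comp_symm, support₂_wordOf, smul_finset_eq_image]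
  rw [this]
  exact hw

theorem famImg_octads_of_mem {g : Equiv.Perm GolayPt} (hg : g ∈ M24) :
    famImg g octads = octads := by
  rw [← smul_eq_famImg]
  have := hg
  rw [← setSystemAut_octads, MulAction.mem_stabilizer_iff] at this
  exact this

theorem card_insertNone_inter {α : Type*} [DecidableEq α] (b : Finset α) (S : Finset (Option α)) :
    (insertNone b ∩ S).card = (b ∩ eraseNone S).card + if none ∈ S then 1 else 0 := by
  have h : insertNone b ∩ S
      = (b ∩ eraseNone S).map Function.Embedding.some ∪ if none ∈ S then {none} else ∅ := by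
    ext (_ | a)
    · split_ifs with h <;> simp [h]
    · split_ifs <;> simp
  rw [h, card_union_of_disjoint]
  · rw [card_map]; split_ifs <;> simp
  · split_ifs
    · rw [disjoint_singleton_right]; simp
    · exact disjoint_empty_right _

theorem card_eq_eraseNone_add {α : Type*} [DecidableEq α] (S : Finset (Option α)) :
    S.card = (eraseNone S).card + if none ∈ S then 1 else 0 := by
  have h : S = (eraseNone S).map Function.Embedding.some ∪ if none ∈ S then {none} else ∅ := by
    ext (_ | a)
    · split_ifs with h <;> simp [h]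
    · split_ifs <;> simp
  conv_lhs => rw [h]
  rw [card_union_of_disjoint]
  · rw [card_map]; split_ifs <;> simp
  · split_ifs
    · rw [disjoint_singleton_right]; simp
    · exact disjoint_empty_right _

theorem eq_famImg_of_maps {α β : Type*} [DecidableEq β] [Finite β] {h : α → β}
    (hh : Function.Injective h) {B : Set (Finset α)} {B' : Set (Finset β)}
    (hmaps : ∀ b ∈ B, b.image h ∈ B') (hcard : B'.ncard ≤ B.ncard) :
    famImg h B = B' := by
  refine Set.eq_of_subset_of_ncard_le ?_ ?_ (Set.toFinite _)
  · rintro _ ⟨b, hb, rfl⟩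
    exact hmaps b hb
  · rw [famImg, Set.ncard_image_of_injective _ (Finset.image_injective hh)]
    exact hcard

end Cfsg.Agent.Lib.Design
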