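import Cfsg.Agent.Lib.Design.Aut12
import Cfsg.Agent.Lib.Design.DerivedMasks

/-!
# Uniqueness and automorphisms of S(4,5,11)
-/

namespace Cfsg.Agent.Lib.Design

open Cfsg Finset
open scoped Pointwise

variable {α β : Type*} [Fintype α] [DecidableEq α] [Fintype β] [DecidableEq β]
  {B : Set (Finset α)}

/-- The one-point extension of an S(4,5,11). -/
def ext11 (B : Set (Finset α)) : Set (Finset (Option α)) :=
  (fun b => insertNone b) '' B ∪ (fun b => bᶜ.map Function.Embedding.some) '' B

theorem mem_ext11_insertNone {b : Finset α} : insertNone b ∈ ext11 B ↔ b ∈ B := by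
  constructor
  · rintro (⟨c, hc, he⟩ | ⟨c, _, he⟩)
    · rwa [← insertNone.injective he]
    · have : (none : Option α) ∈ cᶜ.map Function.Embedding.some := by
        rw [show cᶜ.map Function.Embedding.some = insertNone b from he]; exact none_mem_insertNone
      simp at this
  · exact fun h => Or.inl ⟨b, h, rfl⟩

theorem hit_zero_11 (hα : Fintype.card α = 11) (hB : IsSteinerSystem 4 5 B) {s : Finset α}
    (hs : s.card = 5) (h5 : s ∉ B) : hitNum B s 0 = 1 := by
  have e0 := hit_equation hB s (j := 0) (m := 66) (by decide) (by decide) (by rw [hα]; decide +kernel)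
  have e1 := hit_equation hB s (j := 1) (m := 30) (by decide) (by decide) (by rw [hα]; decide +kernel)
  have e2 := hit_equation hB s (j := 2) (m := 12) (by decide) (by decide) (by rw [hα]; decide +kernel)
  have e3 := hit_equation hB s (j := 3) (m := 4) (by decide) (by decide) (by rw [hα]; decide +kernel)
  have e4 := hit_equation hB s (j := 4) (m := 1) (by decide) (by decide) (by rw [hα]; decide +kernel)
  have z5 : hitNum B s 5 = 0 := by
    rw [hitNum, card_eq_zero, filter_eq_empty_iff]
    intro b hb e
    have hb' := mem_blockFinset.mp hb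
    have h1 : s ∩ b = s := eq_of_subset_of_card_le inter_subset_left (by rw [e, hs])
    have h2 : s = b := eq_of_subset_of_card_le (inter_eq_left.mp h1) (by rw [hs, hB.1 b hb'])
    exact h5 (h2 ▸ hb')
  rw [hs] at e0 e1 e2 e3 e4
  simp [sum_range_succ, Nat.choose, z5] at e0 e1 e2 e3 e4
  omega

theorem steiner_ext11 (hα : Fintype.card α = 11) (hB : IsSteinerSystem 4 5 B) :
    IsSteinerSystem 5 6 (ext11 B) := by
  refine ⟨?_, fun s hs => ?_⟩
  · rintro _ (⟨b, hb, rfl⟩ | ⟨b, hb, rfl⟩)
    · rw [card_insertNone, hB.1 b hb]
    · rw [card_map, card_compl, hα, hB.1 b hb]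
  by_cases hn : (none : Option α) ∈ s
  · have hc : (eraseNone s).card = 4 := by
      have := card_eq_eraseNone_add s
      rw [if_pos hn, hs] at this
      omega
    obtain ⟨b, ⟨hb, hsub⟩, huniq⟩ := hB.2 _ hc
    refine ⟨insertNone b, ⟨mem_ext11_insertNone.mpr hb, fun o ho => ?_⟩, ?_⟩
    · cases o with
      | none => exact none_mem_insertNone
      | some a => exact some_mem_insertNone.mpr (hsub (mem_eraseNone.mpr ho))
    · rintro _ ⟨⟨c, hc', rfl⟩ | ⟨c, _, rfl⟩, hsc⟩
      · show insertNone c = insertNone b
        rw [huniq c ⟨hc', fun a ha => some_mem_insertNone.mp (hsc (mem_eraseNone.mp ha))⟩]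
      · have := hsc hn
        simp at this
  · have hc : (eraseNone s).card = 5 := by
      have := card_eq_eraseNone_add s
      rw [if_neg hn, hs] at this
      omega
    by_cases h5 : eraseNone s ∈ B
    · refine ⟨insertNone (eraseNone s), ⟨mem_ext11_insertNone.mpr h5, fun o ho => ?_⟩, ?_⟩
      · cases o with
        | none => exact none_mem_insertNone
        | some a => exact some_mem_insertNone.mpr (mem_eraseNone.mpr ho)
      · rintro _ ⟨⟨c, hc', rfl⟩ | ⟨c, hc', rfl⟩, hsc⟩
        · show insertNone c = insertNone (eraseNone s)
          congr 1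
          exact (eq_of_subset_of_card_le (fun a ha => some_mem_insertNone.mp
            (hsc (mem_eraseNone.mp ha))) (by rw [hB.1 c hc', hc])).symm
        · -- the complement of a block contains no block
          exfalso
          have hdis : eraseNone s ∩ c = ∅ := by
            rw [← disjoint_iff_inter_eq_empty, disjoint_left]
            intro a ha hac
            have := hsc (mem_eraseNone.mp ha)
            simp [hac] at this
          have e0 := hit_equation hB (eraseNone s) (j := 0) (m := 66) (by decide) (by decide)
            (by rw [hα]; decide +kernel)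
          have e1 := hit_equation hB (eraseNone s) (j := 1) (m := 30) (by decide) (by decide)
            (by rw [hα]; decide +kernel)
          have e2 := hit_equation hB (eraseNone s) (j := 2) (m := 12) (by decide) (by decide)
            (by rw [hα]; decide +kernel)
          have e3 := hit_equation hB (eraseNone s) (j := 3) (m := 4) (by decide) (by decide)
            (by rw [hα]; decide +kernel)
          have e4 := hit_equation hB (eraseNone s) (j := 4) (m := 1) (by decide) (by decide)
            (by rw [hα]; decide +kernel)
          have z5 : hitNum B (eraseNone s) 5 = 1 := by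
            rw [hitNum, card_eq_one]
            refine ⟨eraseNone s, ?_⟩
            ext b
            simp only [mem_filter, mem_blockFinset, mem_singleton]
            constructor
            · rintro ⟨hb, e⟩
              have h1 : eraseNone s ∩ b = eraseNone s :=
                eq_of_subset_of_card_le inter_subset_left (by rw [e, hc])
              exact (eq_of_subset_of_card_le (inter_eq_left.mp h1) (by rw [hc, hB.1 b hb])).symm
            · rintro rfl
              exact ⟨h5, by rw [inter_self, hc]⟩
          have hpos : 0 < hitNum B (eraseNone s) 0 :=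
            card_pos.mpr ⟨c, mem_filter.mpr ⟨mem_blockFinset.mpr hc', by rw [hdis, card_empty]⟩⟩
          rw [hc] at e0 e1 e2 e3 e4
          simp [sum_range_succ, Nat.choose, z5] at e0 e1 e2 e3 e4
          omega
    · have h0 := hit_zero_11 hα hB hc h5
      rw [hitNum, card_eq_one] at h0
      obtain ⟨b, hb⟩ := h0
      have hb' : b ∈ B ∧ (eraseNone s ∩ b).card = 0 := by
        have := hb ▸ mem_singleton_self b
        rw [mem_filter, mem_blockFinset] at this
        exact this
      refine ⟨bᶜ.map Function.Embedding.some, ⟨Or.inr ⟨b, hb'.1, rfl⟩, fun o ho => ?_⟩, ?_⟩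
      · cases o with
        | none => exact absurd ho hn
        | some a =>
          refine mem_map_of_mem _ (mem_compl.mpr fun hab => ?_)
          have he := card_eq_zero.mp hb'.2
          exact notMem_empty a (he ▸ mem_inter.mpr ⟨mem_eraseNone.mpr ho, hab⟩)
      · rintro _ ⟨⟨c, hc', rfl⟩ | ⟨c, hc', rfl⟩, hsc⟩
        · exfalso
          refine h5 ?_
          rwa [eq_of_subset_of_card_le (fun a ha => some_mem_insertNone.mp
            (hsc (mem_eraseNone.mp ha))) (by rw [hB.1 c hc', hc])]
        · show cᶜ.map Function.Embedding.some = bᶜ.map Function.Embedding.some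
          have : c ∈ ({b} : Finset (Finset α)) := by
            rw [← hb, mem_filter, mem_blockFinset]
            refine ⟨hc', card_eq_zero.mpr ?_⟩
            rw [← disjoint_iff_inter_eq_empty, disjoint_left]
            intro a ha hac
            have := hsc (mem_eraseNone.mp ha)
            simp [hac] at this
          rw [mem_singleton.mp this]

theorem card_option_11 (hα : Fintype.card α = 11) : Fintype.card (Option α) = 12 := by
  rw [Fintype.card_option, hα]

/-- An isomorphism of extensions fixing the new point restricts. -/
theorem restrict_ext11 {B' : Set (Finset β)} (h : Option α ≃ Option β) (hn : h none = none)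
    (he : famImg h (ext11 B) = ext11 B') :
    (∀ a, some (Equiv.removeNone h a) = h (some a)) ∧ famImg (Equiv.removeNone h) B = B' := by
  have hk : ∀ a, some (Equiv.removeNone h a) = h (some a) := fun a =>
    Equiv.removeNone_some h (Option.ne_none_iff_exists'.mp fun e => by
      have := h.injective (e.trans hn.symm)
      simp at this)
  have himg : ∀ b : Finset α, (insertNone b).image h = insertNone (b.image (Equiv.removeNone h)) := by
    intro b
    ext o
    obtain ⟨p, rfl⟩ := h.surjective o
    rw [h.injective.mem_finset_image]
    cases p with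
    | none => rw [hn]; simp
    | some a =>
      rw [← hk, some_mem_insertNone, some_mem_insertNone,
        (Equiv.removeNone h).injective.mem_finset_image]
  refine ⟨hk, Set.ext fun c => ?_⟩
  obtain ⟨b, rfl⟩ : ∃ b, b.image (Equiv.removeNone h) = c :=
    ⟨c.image (Equiv.removeNone h).symm, by rw [image_image, Equiv.self_comp_symm, image_id]⟩
  rw [famImg, (image_injective (Equiv.removeNone h).injective).mem_set_image,
    ← mem_ext11_insertNone (B := B'), ← himg, ← he, famImg,
    (image_injective h.injective).mem_set_image, mem_ext11_insertNone]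

/-- Two S(4,5,11) are isomorphic. -/
theorem iso11 {B' : Set (Finset β)} (hα : Fintype.card α = 11) (hβ : Fintype.card β = 11)
    (hB : IsSteinerSystem 4 5 B) (hB' : IsSteinerSystem 4 5 B') :
    ∃ e : α ≃ β, famImg e B = B' := by
  obtain ⟨e₁, h₁⟩ := exists_famImg_std12 (card_option_11 hα) (steiner_ext11 hα hB)
  obtain ⟨e₂, h₂⟩ := exists_famImg_std12 (card_option_11 hβ) (steiner_ext11 hβ hB')
  haveI := (aut12_sharp (card_option_11 hβ) (steiner_ext11 hβ hB')).1
  haveI : MulAction.IsPretransitive (setSystemAut (ext11 B')) (Option β) :=
    MulAction.isPretransitive_of_is_two_pretransitive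
      (h2 := MulAction.isMultiplyPretransitive_of_le (n := 5) (by decide) (by
        rw [Nat.card_eq_fintype_card, card_option_11 hβ]; decide))
  obtain ⟨g, hg⟩ := MulAction.exists_smul_eq (setSystemAut (ext11 B')) (e₂ (e₁.symm none)) none
  let h : Option α ≃ Option β := (e₁.symm.trans e₂).trans (g : Equiv.Perm (Option β))
  refine ⟨Equiv.removeNone h, (restrict_ext11 h hg ?_).2⟩
  have hgm := g.2
  rw [MulAction.mem_stabilizer_iff, smul_eq_famImg] at hgm
  have hh : famImg h (ext11 B) = famImg (g : Equiv.Perm (Option β)) (famImg (e₁.symm.trans e₂) (ext11 B)) := by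
    rw [famImg_famImg]; rfl
  have h12 : famImg (e₁.symm.trans e₂) (ext11 B) = ext11 B' := by
    rw [h₁, h₂, famImg_famImg]
    congr 1
    funext p
    simp
  rw [hh, h12, hgm]

theorem optionCongr_mem_aut {σ : Equiv.Perm α} (hσ : σ ∈ setSystemAut B) :
    σ.optionCongr ∈ setSystemAut (ext11 B) := by
  rw [MulAction.mem_stabilizer_iff, smul_eq_famImg] at hσ ⊢
  have hi : ∀ b : Finset α, (insertNone b).image σ.optionCongr = insertNone (b.image σ) := by
    intro b
    ext o
    obtain ⟨p, rfl⟩ := σ.optionCongr.surjective o
    rw [σ.optionCongr.injective.mem_finset_image]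
    cases p with
    | none => simp
    | some a => simp
  have hc : ∀ b : Finset α, (bᶜ.map Function.Embedding.some).image σ.optionCongr
      = (b.image σ)ᶜ.map Function.Embedding.some := by
    intro b
    ext o
    obtain ⟨p, rfl⟩ := σ.optionCongr.surjective o
    rw [σ.optionCongr.injective.mem_finset_image]
    cases p with
    | none => simp
    | some a => simp
  simp only [famImg, ext11, Set.image_union, Set.image_image, hi, hc]
  conv_rhs => rw [← hσ]
  simp only [famImg, Set.image_image]

/-- The automorphism group of an S(4,5,11) is sharply 4-transitive. -/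
theorem aut11_sharp (hα : Fintype.card α = 11) (hB : IsSteinerSystem 4 5 B) :
    MulAction.IsMultiplyPretransitive (setSystemAut B) α 4 ∧
      ∀ x : Fin 4 ↪ α, MulAction.stabilizer (setSystemAut B) x = ⊥ := by
  obtain ⟨ht, hs⟩ := aut12_sharp (card_option_11 hα) (steiner_ext11 hα hB)
  let up : (Fin 4 ↪ α) → (Fin 5 ↪ Option α) := fun x =>
    ⟨Fin.cons none fun i => some (x i), Fin.cons_injective_iff.mpr
      ⟨fun ⟨i, hi⟩ => Option.some_ne_none _ hi, (Option.some_injective α).comp x.injective⟩⟩
  constructor
  · rw [MulAction.isMultiplyPretransitive_iff] at ht ⊢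
    intro x y
    obtain ⟨g, hg⟩ := ht (up x) (up y)
    have h0 : (g : Equiv.Perm (Option α)) none = none := DFunLike.congr_fun hg 0
    have hgm := g.2
    rw [MulAction.mem_stabilizer_iff, smul_eq_famImg] at hgm
    obtain ⟨hk, hke⟩ := restrict_ext11 (g : Equiv.Perm (Option α)) h0 hgm
    refine ⟨⟨Equiv.removeNone (g : Equiv.Perm (Option α)), ?_⟩, DFunLike.ext _ _ fun i => ?_⟩
    · rw [MulAction.mem_stabilizer_iff, smul_eq_famImg]; exact hke
    · refine Option.some_injective α ?_
      show some (Equiv.removeNone (g : Equiv.Perm (Option α)) (x i)) = some (y i)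
      rw [hk]
      exact DFunLike.congr_fun hg i.succ
  · intro x
    rw [eq_bot_iff]
    intro σ hσ
    have hmem : (⟨_, optionCongr_mem_aut σ.2⟩ : setSystemAut (ext11 B)) ∈
        MulAction.stabilizer (setSystemAut (ext11 B)) (up x) := by
      refine DFunLike.ext _ _ fun i => ?_
      induction i using Fin.cases with
      | zero => rfl
      | succ i => exact congrArg some (DFunLike.congr_fun hσ i)
    rw [hs, Subgroup.mem_bot] at hmem
    rw [Subgroup.mem_bot]
    refine Subtype.ext (Equiv.ext fun a => Option.some_injective α ?_)
    exact congrArg (fun τ : setSystemAut (ext11 B) => (τ : Equiv.Perm (Option α)) (some a)) hmem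

end Cfsg.Agent.Lib.Design
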