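import Cfsg.Prelude.Def_Sporadic_a

/-!
# Transport of set systems and their automorphism groups along bijections
-/

namespace Cfsg.Agent.Lib.Design

open Cfsg
open scoped Pointwise

variable {α β : Type*} [DecidableEq α] [DecidableEq β]

/-- The image of a family of subsets along a map. -/
def famImg (e : α → β) (B : Set (Finset α)) : Set (Finset β) := (fun b => b.image e) '' B

theorem famImg_famImg {γ : Type*} [DecidableEq γ] (e : α → β) (f : β → γ) (B : Set (Finset α)) :
    famImg f (famImg e B) = famImg (f ∘ e) B := by
  simp only [famImg, Set.image_image, Finset.image_image]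

theorem famImg_id (B : Set (Finset α)) : famImg id B = B := by
  simp [famImg]

theorem famImg_symm (e : α ≃ β) (B : Set (Finset α)) : famImg e.symm (famImg e B) = B := by
  rw [famImg_famImg, Equiv.symm_comp_self, famImg_id]

theorem famImg_injective (e : α ≃ β) : Function.Injective (famImg (α := α) e) :=
  Function.LeftInverse.injective (famImg_symm e)

theorem smul_eq_famImg (σ : Equiv.Perm α) (B : Set (Finset α)) : σ • B = famImg σ B := rfl

theorem setSystemAut_famImg (e : α ≃ β) (B : Set (Finset α)) :
    setSystemAut (famImg e B) = (setSystemAut B).map e.permCongrHom.toMonoidHom := by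
  ext σ
  obtain ⟨τ, rfl⟩ := e.permCongrHom.surjective σ
  have hmap : e.permCongrHom τ ∈ (setSystemAut B).map e.permCongrHom.toMonoidHom ↔
      τ ∈ setSystemAut B :=
    Subgroup.mem_map_iff_mem e.permCongrHom.injective
  rw [hmap, MulAction.mem_stabilizer_iff, MulAction.mem_stabilizer_iff, smul_eq_famImg,
    smul_eq_famImg, famImg_famImg]
  have hc : (e.permCongrHom τ : Equiv.Perm β) ∘ e = e ∘ τ := by
    funext a
    simp [Equiv.permCongrHom]
  rw [hc, ← famImg_famImg]
  exact (famImg_injective e).eq_iff

/-- The automorphism groups of two isomorphic families are isomorphic. -/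
noncomputable def autEquiv (e : α ≃ β) (B : Set (Finset α)) :
    setSystemAut B ≃* setSystemAut (famImg e B) :=
  (e.permCongrHom.subgroupMap (setSystemAut B)).trans
    (MulEquiv.subgroupCongr (setSystemAut_famImg e B).symm)

theorem autEquiv_apply (e : α ≃ β) (B : Set (Finset α)) (σ : setSystemAut B) (a : α) :
    (autEquiv e B σ : Equiv.Perm β) (e a) = e ((σ : Equiv.Perm α) a) := by
  show e ((σ : Equiv.Perm α) (e.symm (e a))) = e ((σ : Equiv.Perm α) a)
  rw [Equiv.symm_apply_apply]

theorem multiplyPretransitive_famImg (e : α ≃ β) (B : Set (Finset α)) (n : ℕ)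
    (h : MulAction.IsMultiplyPretransitive (setSystemAut B) α n) :
    MulAction.IsMultiplyPretransitive (setSystemAut (famImg e B)) β n := by
  rw [MulAction.isMultiplyPretransitive_iff] at h ⊢
  intro x y
  obtain ⟨g, hg⟩ := h (x.trans e.symm.toEmbedding) (y.trans e.symm.toEmbedding)
  refine ⟨autEquiv e B g, DFunLike.ext _ _ fun i => ?_⟩
  have hi : (g : Equiv.Perm α) (e.symm (x i)) = e.symm (y i) := DFunLike.congr_fun hg i
  show (autEquiv e B g : Equiv.Perm β) (x i) = y i
  have := autEquiv_apply e B g (e.symm (x i))
  rw [Equiv.apply_symm_apply, hi, Equiv.apply_symm_apply] at this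
  exact this

end Cfsg.Agent.Lib.Design
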