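import Cfsg.Agent.Lib.Design.Unique12Data
import Cfsg.Agent.Lib.Design.Transport

/-!
# Uniqueness of the Steiner system S(5,6,12)

A block `O` and its complement `O'` are fixed.  A pair of points of `O` gives a syntheme of `O'`, a
point of `O` gives a total (five disjoint synthemes), and the six totals are distinct; after
relabelling `O` accordingly, 92 blocks are known and every other block is forced.
-/

namespace Cfsg.Agent.Lib.Design

open Cfsg Finset

variable {α : Type*} [Fintype α] [DecidableEq α] {B : Set (Finset α)}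

/-- Two blocks given by masks with five common points are equal. -/
theorem mask_eq_of_five (hB : IsSteinerSystem 5 6 B) (e : Fin 12 ≃ α) {a b : ℕ} (ha : a < 4096)
    (hb : b < 4096) (haB : (pts12 a).image e ∈ B) (hbB : (pts12 b).image e ∈ B)
    (h : 5 ≤ pop12 (a &&& b)) : a = b := by
  by_contra hne
  have hne' : (pts12 a).image e ≠ (pts12 b).image e := fun he =>
    hne (pts12_injOn ha hb (Finset.image_injective e.injective he))
  have := card_inter_lt hB haB hbB hne'
  rw [← image_inter _ _ e.injective, card_image_of_injective _ e.injective, ← pts12_land,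
    card_pts12] at this
  omega

theorem exists_frame12 (hα : Fintype.card α = 12) (hB : IsSteinerSystem 5 6 B) :
    ∃ e : Fin 12 ≃ α, (pts12 63).image e ∈ B := by
  obtain ⟨b, hb⟩ : B.Nonempty := Set.nonempty_of_ncard_ne_zero fun h0 => by
    have := block_count hB
    rw [hα, h0, zero_mul] at this
    exact absurd this (by decide +kernel)
  let f₀ : Fin 12 ≃ α := Fintype.equivOfCardEq (by rw [hα, Fintype.card_fin])
  have hb' : (b.map f₀.symm.toEmbedding).card = (pts12 63).card := by
    rw [card_map, hB.1 b hb, card_pts12]; decide +kernel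
  let π : Equiv.Perm (Fin 12) := (Finset.equivOfCardEq hb'.symm).extendSubtype
  refine ⟨π.trans f₀, ?_⟩
  have : (pts12 63).image (π.trans f₀) = b := by
    refine eq_of_subset_of_card_le (fun a ha => ?_) ?_
    · obtain ⟨p, hp, rfl⟩ := mem_image.mp ha
      obtain ⟨c, hc, hce⟩ := mem_map.mp ((Finset.equivOfCardEq hb'.symm).extendSubtype_mem p hp)
      show f₀ (π p) ∈ b
      have he : f₀ (π p) = c := by
        show f₀ _ = c
        rw [← hce]
        exact f₀.apply_symm_apply c
      rw [he]
      exact hc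
    · rw [card_image_of_injective _ (Equiv.injective _), card_pts12, hB.1 b hb]; decide +kernel
  rw [this]
  exact hb

theorem mem_pts12_blk {i j u v : Fin 6} (hij : i ≠ j) (x : Fin 6) :
    (Fin.castAdd 6 x ∈ pts12 (blk12 i j u v) ↔ x ≠ i ∧ x ≠ j) ∧
    (Fin.natAdd 6 x ∈ pts12 (blk12 i j u v) ↔ x = u ∨ x = v) := by
  simp only [pts12, mem_filter, mem_univ, true_and, (blk12_testBit i j u v hij x).1,
    (blk12_testBit i j u v hij x).2, decide_eq_true_eq, and_self]

theorem mem_pts12_63 : ∀ x : Fin 6,
    (Fin.castAdd 6 x : Fin 12) ∈ pts12 63 ∧ (Fin.natAdd 6 x : Fin 12) ∉ pts12 63 := by decide +kernel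

/-- The syntheme of a pair of points of the first block. -/
theorem exists_syn (hB : IsSteinerSystem 5 6 B) (e : Fin 12 ≃ α) (hO : (pts12 63).image e ∈ B)
    {i j : Fin 6} (hij : i ≠ j) :
    ∃ s : Fin 15, ∀ u, (pts12 (blk12 i j u (synP s u))).image e ∈ B := by
  classical
  have h : ∀ u : Fin 6, ∃ v : Fin 6, v ≠ u ∧ (pts12 (blk12 i j u v)).image e ∈ B := by
    intro u
    have hq : ∀ i j u : Fin 6, i ≠ j → pop12 (quad12 i j ||| 1 <<< (6 + (u : ℕ))) = 5 ∧
        pop12 (63 &&& (quad12 i j ||| 1 <<< (6 + (u : ℕ)))) = 4 ∧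
        (∀ x : Fin 6, (quad12 i j ||| 1 <<< (6 + (u : ℕ))).testBit (Fin.natAdd 6 x : Fin 12)
          = decide (x = u)) := by decide +kernel
    obtain ⟨h5, h4, hu⟩ := hq i j u hij
    let q := quad12 i j ||| 1 <<< (6 + (u : ℕ))
    obtain ⟨b, ⟨hb, hsub⟩, -⟩ := hB.2 ((pts12 q).image e)
      (by rw [card_image_of_injective _ e.injective, card_pts12]; exact h5)
    have hne : b ≠ (pts12 63).image e := by
      intro he
      subst he
      have h' : e (Fin.natAdd 6 u) ∈ (pts12 q).image e :=
        mem_image_of_mem _ (by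
          simp only [pts12, mem_filter, mem_univ, true_and]; exact (hu u).trans (decide_eq_true rfl))
      obtain ⟨p, hp, hpe⟩ := mem_image.mp (hsub h')
      rw [e.injective hpe] at hp
      exact (mem_pts12_63 u).2 hp
    have hlt := card_inter_lt hB hb hO hne
    obtain ⟨c, hc, hcs⟩ := exists_mask12 (b.image e.symm)
    have hcb : (pts12 c).image e = b := by rw [hcs, image_image]; simp
    have hc6 : pop12 c = 6 := by
      rw [← card_pts12, hcs, card_image_of_injective _ e.symm.injective, hB.1 b hb]
    have hqc : pts12 q ⊆ pts12 c := by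
      intro p hp
      have := hsub (mem_image_of_mem e hp)
      rw [← hcb, mem_image] at this
      obtain ⟨p', hp', he⟩ := this
      rwa [← e.injective he]
    have hcO : pop12 (c &&& 63) ≤ 4 := by
      rw [← card_pts12, pts12_land, ← card_image_of_injective _ e.injective,
        image_inter _ _ e.injective, hcb]
      omega
    have hqc' : c &&& q = q := by
      refine pts12_injOn (lt_of_le_of_lt Nat.and_le_left hc) ?_ ?_
      · have : ∀ i j u : Fin 6, quad12 i j ||| 1 <<< (6 + (u : ℕ)) < 4096 := by decide +kernel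
        exact this i j u
      · rw [pts12_land]; exact inter_eq_right.mpr hqc
    have hblk : ∀ i j u : Fin 6, i ≠ j → ∀ c : Fin 64, pop12 (quad12 i j ||| (c : ℕ) <<< 6) = 6 →
        (c : ℕ).testBit u = true → ∃ v : Fin 6, v ≠ u ∧ quad12 i j ||| (c : ℕ) <<< 6 = blk12 i j u v := by
      decide +kernel
    have hshape : c = quad12 i j ||| (c >>> 6) <<< 6 := by
      have hq' : pop12 (c &&& quad12 i j) = 4 ∧ c &&& 63 = quad12 i j := by
        have h1 : ∀ i j u : Fin 6, i ≠ j → pop12 (quad12 i j) = 4 ∧ quad12 i j < 4096 ∧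
            quad12 i j &&& 63 = quad12 i j ∧
            (quad12 i j ||| 1 <<< (6 + (u : ℕ))) &&& quad12 i j = quad12 i j := by decide +kernel
        obtain ⟨p4, plt, p63, pq⟩ := h1 i j u hij
        have e1 : c &&& quad12 i j = quad12 i j := by
          conv_lhs => rw [← pq, ← Nat.and_assoc, hqc']
          exact pq
        refine ⟨by rw [e1, p4], ?_⟩
        refine pts12_injOn (lt_of_le_of_lt Nat.and_le_left hc) plt
          (eq_of_subset_of_card_le ?_ (by rw [card_pts12, card_pts12, p4]; exact hcO)).symm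
        rw [← e1, ← p63, ← Nat.and_assoc, pts12_land (c &&& quad12 i j)]
        intro p hp
        simp only [pts12, mem_inter, mem_filter, mem_univ, true_and, Nat.testBit_land,
          Bool.and_eq_true] at hp ⊢
        exact ⟨hp.1.1, hp.2⟩
      refine Nat.eq_of_testBit_eq fun n => ?_
      rw [Nat.testBit_lor, Nat.testBit_shiftLeft, Nat.testBit_shiftRight]
      by_cases hn : n < 6
      · rw [decide_eq_false (show ¬ n ≥ 6 by omega), Bool.false_and, Bool.or_false, ← hq'.2,
          Nat.testBit_land]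
        have : ∀ n : Fin 6, Nat.testBit 63 n = true := by decide +kernel
        rw [this ⟨n, hn⟩, Bool.and_true]
      · rw [decide_eq_true (show n ≥ 6 by omega), Bool.true_and, ← hq'.2, Nat.testBit_land,
          Nat.testBit_lt_two_pow (show (63 : ℕ) < 2 ^ n from lt_of_lt_of_le (by norm_num)
            (Nat.pow_le_pow_right (by decide) (by omega : 6 ≤ n))), Bool.and_false, Bool.false_or,
          Nat.add_sub_cancel' (show 6 ≤ n by omega)]
    have hc64 : c >>> 6 < 64 := by rw [Nat.shiftRight_eq_div_pow]; norm_num; omega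
    have hbit : (c >>> 6).testBit u = true := by
      rw [Nat.testBit_shiftRight]
      have : (Fin.natAdd 6 u : Fin 12) ∈ pts12 c := hqc (by
        simp only [pts12, mem_filter, mem_univ, true_and]; exact (hu u).trans (decide_eq_true rfl))
      simpa [pts12, Nat.add_comm] using this
    obtain ⟨v, hv, hve⟩ := hblk i j u hij ⟨_, hc64⟩ ((congrArg pop12 hshape.symm).trans hc6) hbit
    refine ⟨v, hv, ?_⟩
    rw [← hve, ← hshape, hcb]
    exact hb
  choose π hπne hπ using h
  have hinv : ∀ u, π (π u) = u := by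
    intro u
    have h1 : (pts12 (blk12 i j (π u) u)).image e ∈ B := by
      rw [← (blk12_facts i j u (π u) hij).2.2]; exact hπ u
    have h5 : ∀ i j u v w : Fin 6, i ≠ j → v ≠ u → w ≠ v →
        5 ≤ pop12 (blk12 i j v w &&& blk12 i j v u) ∧
          (blk12 i j v w = blk12 i j v u → w = u) := by decide +kernel
    obtain ⟨h5a, h5b⟩ := h5 i j u (π u) (π (π u)) hij (hπne u) (hπne (π u))
    exact h5b (mask_eq_of_five hB e (blk12_facts _ _ _ _ hij).1 (blk12_facts _ _ _ _ hij).1
      (hπ (π u)) h1 h5a)
  have hall : ∀ u : Fin 6, ![π 0, π 1, π 2, π 3, π 4, π 5] u = π u := by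
    intro u; fin_cases u <;> rfl
  obtain ⟨s, hs⟩ := syn_of_involution (π 0) (hπne 0) (π 1) (hπne 1) (fun h => by rw [← h, hinv])
    (π 2) (hπne 2) (fun h => by rw [← h, hinv]) (fun h => by rw [← h, hinv])
    (π 3) (hπne 3) (fun h => by rw [← h, hinv]) (fun h => by rw [← h, hinv]) (fun h => by rw [← h, hinv])
    (π 4) (hπne 4) (fun h => by rw [← h, hinv]) (fun h => by rw [← h, hinv]) (fun h => by rw [← h, hinv])
    (fun h => by rw [← h, hinv])
    (π 5) (hπne 5) (fun u => by rw [hall, hall, hinv])
  exact ⟨s, fun u => by rw [hs u, hall]; exact hπ u⟩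

set_option maxHeartbeats 1000000 in
/-- **Uniqueness of S(5,6,12).** -/
theorem exists_famImg_std12 (hα : Fintype.card α = 12) (hB : IsSteinerSystem 5 6 B) :
    ∃ e : Fin 12 ≃ α, B = famImg e stdSet12 := by
  classical
  obtain ⟨e₀, hO⟩ := exists_frame12 hα hB
  have hsyn : ∀ i j : Fin 6, ∃ s : Fin 15, i ≠ j →
      ∀ u, (pts12 (blk12 i j u (synP s u))).image e₀ ∈ B := by
    intro i j
    by_cases h : i = j
    · exact ⟨0, fun hne => absurd h hne⟩
    · obtain ⟨s, hs⟩ := exists_syn hB e₀ hO h; exact ⟨s, fun _ => hs⟩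
  choose syn hsyn using hsyn
  have hsymm : ∀ i j, i ≠ j → syn i j = syn j i := by
    intro i j hij
    refine synP_inj _ _ fun u => ?_
    have h5 : ∀ i j u v w : Fin 6, i ≠ j → v ≠ u → w ≠ u →
        5 ≤ pop12 (blk12 i j u v &&& blk12 j i u w) ∧
          (blk12 i j u v = blk12 j i u w → v = w) := by decide +kernel
    obtain ⟨ha, hb⟩ := h5 i j u _ _ hij (synP_facts (syn i j) u).2 (synP_facts (syn j i) u).2
    exact hb (mask_eq_of_five hB e₀ (blk12_facts _ _ _ _ hij).1 (blk12_facts _ _ _ _ hij.symm).1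
      (hsyn i j hij u) (hsyn j i hij.symm u) ha)
  have hdisj : ∀ i j k, i ≠ j → i ≠ k → j ≠ k → ∀ u, synP (syn i j) u ≠ synP (syn i k) u := by
    intro i j k hij hik hjk u he
    obtain ⟨ha, hb⟩ := pairMeet (u := u) hij hik hjk (synP_facts (syn i j) u).2
    refine hb (mask_eq_of_five hB e₀ (blk12_facts _ _ _ _ hij).1 (blk12_facts _ _ _ _ hik).1
      (hsyn i j hij u) ?_ ha)
    rw [he]; exact hsyn i k hik u
  have hdistinct : ∀ i j k, i ≠ j → i ≠ k → j ≠ k → syn i j ≠ syn i k :=
    fun i j k hij hik hjk e => hdisj i j k hij hik hjk 0 (by rw [e])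
  have htot : ∀ i, ∃ t, (univ.erase i).image (syn i) = totSet t := by
    intro i
    refine five_disjoint _ (mem_powersetCard.mpr ⟨subset_univ _, ?_⟩) ?_
    · rw [card_image_of_injOn, card_erase_of_mem (mem_univ i), card_univ, Fintype.card_fin]
      intro j hj k hk e
      simp only [coe_erase, coe_univ, Set.mem_sdiff, Set.mem_univ, true_and,
        Set.mem_singleton_iff] at hj hk
      by_contra hne
      exact hdistinct i j k (Ne.symm hj) (Ne.symm hk) hne e
    · intro a ha b hb hab u
      obtain ⟨j, hj, rfl⟩ := mem_image.mp ha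
      obtain ⟨k, hk, rfl⟩ := mem_image.mp hb
      exact hdisj i j k (ne_of_mem_erase hj).symm (ne_of_mem_erase hk).symm
        (fun e => hab (by rw [e])) u
  choose T hT using htot
  have hmemT : ∀ i j, i ≠ j → syn i j ∈ totSet (T i) ∧ syn i j ∈ totSet (T j) := by
    intro i j hij
    constructor
    · rw [← hT]; exact mem_image_of_mem _ (mem_erase.mpr ⟨hij.symm, mem_univ _⟩)
    · rw [hsymm i j hij, ← hT]; exact mem_image_of_mem _ (mem_erase.mpr ⟨hij, mem_univ _⟩)
  have hTinj : Function.Injective T := by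
    intro i j he
    by_contra hij
    obtain ⟨k, hki, hkj⟩ : ∃ k : Fin 6, k ≠ i ∧ k ≠ j := by
      have : ∀ i j : Fin 6, ∃ k, k ≠ i ∧ k ≠ j := by decide +kernel
      exact this i j
    have hik := hki.symm
    have hjk := hkj.symm
    obtain ⟨hp1, -⟩ := hmemT i j hij
    obtain ⟨hq1, hq2⟩ := hmemT i k hik
    obtain ⟨hr1, hr2⟩ := hmemT j k hjk
    rw [← he] at hr1
    have hpq : syn i j ≠ syn i k := hdistinct i j k hij hik hjk
    have hpr : syn i j ≠ syn j k := by
      rw [hsymm i j hij]; exact hdistinct j i k (Ne.symm hij) hjk hik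
    have hqr : syn i k ≠ syn j k := by
      rw [hsymm i k hik, hsymm j k hjk]; exact hdistinct k i j hki hkj hij
    -- the three synthemes leave a hexagon of pairs, but a block needs a triangle
    obtain ⟨⟨u, v, huv, n1, n2, n3⟩, htri⟩ :=
      totSet_hexagon (T i) _ hp1 _ hq1 _ hr1 hpq hpr hqr
    have h5five : ∀ i j k u v : Fin 6, i ≠ j → i ≠ k → j ≠ k → u ≠ v →
        pop12 (five12 i j k u v) = 5 ∧ five12 i j k u v < 4096 := by decide +kernel
    obtain ⟨hf5, hflt⟩ := h5five i j k u v hij hik hjk huv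
    obtain ⟨b, ⟨hb, hsub⟩, -⟩ := hB.2 ((pts12 (five12 i j k u v)).image e₀)
      (by rw [card_image_of_injective _ e₀.injective, card_pts12]; exact hf5)
    obtain ⟨c, hc, hcs⟩ := exists_mask12 (b.image e₀.symm)
    have hcb : (pts12 c).image e₀ = b := by rw [hcs, image_image]; simp
    have hc6 : pop12 c = 6 := by
      rw [← card_pts12, hcs, card_image_of_injective _ e₀.symm.injective, hB.1 b hb]
    have hfc : c &&& five12 i j k u v = five12 i j k u v := by
      refine pts12_injOn (lt_of_le_of_lt Nat.and_le_left hc) hflt ?_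
      rw [pts12_land]
      refine inter_eq_right.mpr fun p hp => ?_
      have := hsub (mem_image_of_mem e₀ hp)
      rw [← hcb, mem_image] at this
      obtain ⟨p', hp', he'⟩ := this
      rwa [← e₀.injective he']
    obtain ⟨n, hn⟩ : ∃ n : Fin 12, c = five12 i j k u v ||| 1 <<< (n : ℕ) := by
      have hss : pts12 (five12 i j k u v) ⊆ pts12 c := by
        rw [← hfc, pts12_land]; exact inter_subset_left
      obtain ⟨p, hp⟩ := card_eq_one.mp (show (pts12 c \ pts12 (five12 i j k u v)).card = 1 by
        rw [card_sdiff_of_subset hss, card_pts12, card_pts12, hc6, hf5])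
      refine ⟨p, pts12_injOn hc (Nat.or_lt_two_pow (n := 12) (by simpa using hflt) (by
        rw [Nat.one_shiftLeft]; exact Nat.pow_lt_pow_right (by decide) p.isLt)) ?_⟩
      ext q
      have hq := congrArg (fun s => q ∈ s) hp
      simp only [mem_sdiff, mem_singleton, eq_iff_iff] at hq
      have hq' : q ∈ pts12 (five12 i j k u v ||| 1 <<< (p : ℕ)) ↔
          q ∈ pts12 (five12 i j k u v) ∨ q = p := by
        simp only [pts12, mem_filter, mem_univ, true_and, Nat.testBit_lor, Nat.one_shiftLeft,
          Nat.testBit_two_pow, Bool.or_eq_true, decide_eq_true_eq, Fin.val_inj]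
        exact or_congr Iff.rfl eq_comm
      rw [hq']
      constructor
      · intro h
        by_cases hh : q ∈ pts12 (five12 i j k u v)
        · exact Or.inl hh
        · exact Or.inr (hq.mp ⟨h, hh⟩)
      · rintro (h | h)
        · exact hss h
        · exact (hq.mpr h).1
    have hcB : (pts12 c).image e₀ ∈ B := hcb.symm ▸ hb
    -- a known block with a covered pair inside `c` is impossible
    have hno : ∀ x y, x ≠ y → ∀ z, 5 ≤ pop12 (c &&& blk12 x y z (synP (syn x y) z)) →
        c = blk12 x y z (synP (syn x y) z) := fun x y hxy z h5 =>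
      mask_eq_of_five hB e₀ hc (blk12_facts _ _ _ _ hxy).1 hcB (hsyn x y hxy z) h5
    have huniq : ∀ x y, x ≠ y → c = blk12 x y u v → synP (syn x y) u = v := by
      intro x y hxy he'
      have h : ∀ x y u v w : Fin 6, x ≠ y → u ≠ v → w ≠ u →
          5 ≤ pop12 (blk12 x y u v &&& blk12 x y u w) ∧
            (blk12 x y u v = blk12 x y u w → w = v) := by decide +kernel
      obtain ⟨ha, hb'⟩ := h x y u v _ hxy huv (synP_facts (syn x y) u).2
      exact hb' (mask_eq_of_five hB e₀ (blk12_facts _ _ _ _ hxy).1 (blk12_facts _ _ _ _ hxy).1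
        (he' ▸ hcB) (hsyn x y hxy u) ha)
    rcases shape12 hij hik hjk huv hflt n (hn ▸ hc6) with
      ⟨w, hwu, hwv, hw⟩ | h | h | h
    · rw [← hn] at hw
      have hcase : ∀ z z' x y, ((x = i ∧ y = j) ∨ (x = i ∧ y = k) ∨ (x = j ∧ y = k)) →
          ((z = u ∧ z' = w) ∨ (z = v ∧ z' = w)) →
          synP (syn x y) z = z' → False := by
        intro z z' x y hxy hz heq
        have hxy' : x ≠ y := by
          rcases hxy with ⟨rfl, rfl⟩ | ⟨rfl, rfl⟩ | ⟨rfl, rfl⟩
          · exact hij
          · exact hik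
          · exact hjk
        obtain ⟨ha, hb'⟩ := hw x y z z' hxy hz
        subst heq
        exact hb' (hno x y hxy' z ha)
      rcases htri u v w huv hwu.symm hwv.symm with t | t | t | t | t | t | t | t | t
      · exact n1 t
      · exact n2 t
      · exact n3 t
      · exact hcase u w i j (Or.inl ⟨rfl, rfl⟩) (Or.inl ⟨rfl, rfl⟩) t
      · exact hcase u w i k (Or.inr (Or.inl ⟨rfl, rfl⟩)) (Or.inl ⟨rfl, rfl⟩) t
      · exact hcase u w j k (Or.inr (Or.inr ⟨rfl, rfl⟩)) (Or.inl ⟨rfl, rfl⟩) t
      · exact hcase v w i j (Or.inl ⟨rfl, rfl⟩) (Or.inr ⟨rfl, rfl⟩) t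
      · exact hcase v w i k (Or.inr (Or.inl ⟨rfl, rfl⟩)) (Or.inr ⟨rfl, rfl⟩) t
      · exact hcase v w j k (Or.inr (Or.inr ⟨rfl, rfl⟩)) (Or.inr ⟨rfl, rfl⟩) t
    · exact n1 (huniq i j hij (hn.trans h))
    · exact n2 (huniq i k hik (hn.trans h))
    · exact n3 (huniq j k hjk (hn.trans h))
  let θ : Equiv.Perm (Fin 6) := Equiv.ofBijective T (Finite.injective_iff_bijective.mp hTinj)
  let π : Equiv.Perm (Fin 12) :=
    (finSumFinEquiv (m := 6) (n := 6)).symm.trans
      ((Equiv.sumCongr θ.symm (Equiv.refl (Fin 6))).trans (finSumFinEquiv (m := 6) (n := 6)))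
  have hπl : ∀ x : Fin 6, π (Fin.castAdd 6 x) = Fin.castAdd 6 (θ.symm x) := fun x => by
    show finSumFinEquiv (Sum.map θ.symm id
      ((finSumFinEquiv (m := 6) (n := 6)).symm (Fin.castAdd 6 x))) = _
    rw [finSumFinEquiv_symm_apply_castAdd]
    rfl
  have hπr : ∀ x : Fin 6, π (Fin.natAdd 6 x) = Fin.natAdd 6 x := fun x => by
    show finSumFinEquiv (Sum.map θ.symm id
      ((finSumFinEquiv (m := 6) (n := 6)).symm (Fin.natAdd 6 x))) = _
    rw [finSumFinEquiv_symm_apply_natAdd]
    rfl
  let e := π.trans e₀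
  refine ⟨e, ?_⟩
  have himg : ∀ (m m' : ℕ), (∀ x : Fin 6, (Fin.castAdd 6 x ∈ pts12 m ↔ Fin.castAdd 6 (θ.symm x) ∈ pts12 m')) →
      (∀ x : Fin 6, (Fin.natAdd 6 x ∈ pts12 m ↔ Fin.natAdd 6 x ∈ pts12 m')) →
      (pts12 m).image e = (pts12 m').image e₀ := by
    intro m m' hl hr
    have : (pts12 m).image π = pts12 m' := by
      ext p
      obtain ⟨q, rfl⟩ := π.surjective p
      rw [π.injective.mem_finset_image]
      refine Fin.addCases (m := 6) (n := 6) (motive := fun q => q ∈ pts12 m ↔ π q ∈ pts12 m')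
        (fun x => ?_) (fun x => ?_) q
      · rw [hπl]; exact hl x
      · rw [hπr]; exact hr x
    rw [← this, image_image]
    rfl
  have hOe : (pts12 63).image e ∈ B := by
    rw [himg 63 63 (fun x => iff_of_true (mem_pts12_63 _).1 (mem_pts12_63 _).1) (fun x => Iff.rfl)]
    exact hO
  have hcompl : ∀ m, (pts12 m).image e ∈ B → (pts12 (4095 ^^^ m)).image e ∈ B := by
    intro m hm
    have := compl_mem_12 hα hB hm
    have h2 : ((pts12 m).image e)ᶜ = (pts12 (4095 ^^^ m)).image e := by
      ext a
      obtain ⟨p, rfl⟩ := e.surjective a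
      rw [mem_compl, e.injective.mem_finset_image, e.injective.mem_finset_image]
      have : ∀ i : Fin 12, Nat.testBit 4095 i = true := by decide +kernel
      simp [pts12, Nat.testBit_xor, this p]
    rwa [← h2]
  have hblk : ∀ a b u, a ≠ b → (pts12 (blk12 a b u (synP (phi12 a b) u))).image e ∈ B := by
    intro a b u hab
    have hab' : θ.symm a ≠ θ.symm b := θ.symm.injective.ne hab
    have hphi : syn (θ.symm a) (θ.symm b) = phi12 a b := by
      obtain ⟨h1, h2⟩ := hmemT _ _ hab'
      rw [show T (θ.symm a) = a from θ.apply_symm_apply a] at h1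
      rw [show T (θ.symm b) = b from θ.apply_symm_apply b] at h2
      have := mem_inter.mpr ⟨h1, h2⟩
      rw [totSet_inter a b hab, mem_singleton] at this
      exact this
    rw [himg _ (blk12 (θ.symm a) (θ.symm b) u (synP (phi12 a b) u)) (fun x => ?_) (fun x => ?_)]
    · rw [← hphi]; exact hsyn _ _ hab' u
    · rw [(mem_pts12_blk hab x).1, (mem_pts12_blk hab' _).1, θ.symm.injective.ne_iff,
        θ.symm.injective.ne_iff]
    · rw [(mem_pts12_blk hab x).2, (mem_pts12_blk hab' x).2]
  have hknown : ∀ k ∈ known12, (pts12 k).image e ∈ B := by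
    intro k hk
    have hl : ∀ k, k ∈ ((List.finRange 6).flatMap fun i => (List.finRange 6).flatMap fun j =>
        if i < j then ((List.finRange 6).filter fun u => u < synP (phi12 i j) u).map
          fun u => blk12 i j u (synP (phi12 i j) u)
        else []) → (pts12 k).image e ∈ B := by
      intro k hk
      simp only [List.mem_flatMap, List.mem_finRange, true_and] at hk
      obtain ⟨a, b, hk⟩ := hk
      split_ifs at hk with hab
      · obtain ⟨u, -, rfl⟩ := List.mem_map.mp hk
        exact hblk a b u hab.ne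
      · simp at hk
    simp only [known12, List.mem_append, List.mem_cons, List.not_mem_nil, or_false,
      List.mem_map] at hk
    rcases hk with ((rfl | rfl) | hk) | ⟨k', hk', rfl⟩
    · exact hOe
    · exact hcompl 63 hOe
    · exact hl k hk
    · exact hcompl k' (hl k' hk')
  have hsub : B ⊆ famImg e stdSet12 := by
    intro b hb
    obtain ⟨c, hc, hcs⟩ := exists_mask12 (b.image e.symm)
    have hcb : (pts12 c).image e = b := by rw [hcs, image_image]; simp
    have hc6 : pop12 c = 6 := by
      rw [← card_pts12, hcs, card_image_of_injective _ e.symm.injective, hB.1 b hb]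
    have h := List.all_eq_true.mp known12_forces c (List.mem_range.mpr hc)
    simp only [hc6, bne_self_eq_false, Bool.false_or, Bool.or_eq_true, List.any_eq_true,
      Bool.and_eq_true, bne_iff_ne, decide_eq_true_eq] at h
    rcases h with h | ⟨k, hk, hkc, h5⟩
    · exact ⟨pts12 c, ⟨c, List.contains_iff_mem.mp h, rfl⟩, hcb⟩
    · refine absurd ?_ hkc
      have hklt : known12.all (fun k => decide (k < 4096)) = true := by decide +kernel
      exact (mask_eq_of_five hB e hc (of_decide_eq_true (List.all_eq_true.mp hklt k hk))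
        (hcb.symm ▸ hb) (hknown k hk) h5).symm
  have hcount : B.ncard = 132 := by
    have h := block_count hB
    rw [hα, show Nat.choose 6 5 = 6 from rfl, show Nat.choose 12 5 = 792 by decide +kernel] at h
    omega
  refine Set.eq_of_subset_of_ncard_le hsub ?_ (Set.toFinite _)
  rw [hcount, famImg, stdSet12]
  refine le_trans (Set.ncard_image_le (Set.toFinite _)) (le_trans (Set.ncard_image_le ?_) ?_)
  · exact (List.finite_toSet std12)
  · rw [← List.coe_toFinset, Set.ncard_coe_finset]
    exact le_trans (List.toFinset_card_le _) (le_of_eq std12_facts.2)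

end Cfsg.Agent.Lib.Design
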