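import Cfsg.Agent.Lib.Compute.M24Action
import Cfsg.Agent.Lib.Design.Aut12Cert
import Cfsg.Agent.Lib.Design.Unique12
import Cfsg.Agent.Lib.Design.SharpTrans

/-!
# The automorphism group of S(5,6,12) is sharply 5-transitive
-/

namespace Cfsg.Agent.Lib.Design

open Cfsg Finset Cfsg.Agent.Lib.Compute
open scoped Pointwise

/-- The image of a 12-bit mask under a packed permutation. -/
def imgMask12 (P m : ℕ) : ℕ :=
  (List.range 12).foldl (fun acc i => bif m.testBit i then acc ||| 1 <<< app P i else acc) 0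

/-- The mask is mapped to the mask of a block, point by point. -/
def mapsMask12 (P m : ℕ) : Bool :=
  let m' := imgMask12 P m
  std12.contains m' && (List.range 12).all fun i => m'.testBit (app P i) == m.testBit i

theorem aut12_gens : (aut12Lvl0.gens.all fun g => genOk 12 g && std12.all (mapsMask12 g.1)) = true := by
  decide +kernel

/-- The blocks of known shape lie in the standard system. -/
def phiBlocksOK : Bool :=
  (List.finRange 6).all fun i => (List.finRange 6).all fun j => decide (i = j) ||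
    (List.finRange 6).all fun u => std12.contains (blk12 i j u (synP (phi12 i j) u))

theorem phiBlocksOK_true : phiBlocksOK = true := by decide +kernel

theorem blk12_mem_std12 {i j : Fin 6} (hij : i ≠ j) (u : Fin 6) :
    blk12 i j u (synP (phi12 i j) u) ∈ std12 := by
  have h := phiBlocksOK_true
  simp only [phiBlocksOK, List.all_eq_true, List.mem_finRange, forall_const] at h
  have h1 := h i j
  rw [decide_eq_false hij, Bool.false_or, List.all_eq_true] at h1
  exact List.contains_iff_mem.mp (h1 u (List.mem_finRange u))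

theorem std12_63 : 63 ∈ std12 := by decide +kernel

theorem mem_of_std {m : ℕ} (h : m ∈ std12) : pts12 m ∈ stdSet12 := ⟨m, h, rfl⟩

theorem toPerm_mem_aut12 {g : ℕ × ℕ} (hg : g ∈ aut12Lvl0.gens) :
    toPerm 12 g.1 ∈ setSystemAut stdSet12 := by
  have h := List.all_eq_true.mp aut12_gens g hg
  rw [Bool.and_eq_true, List.all_eq_true] at h
  obtain ⟨hok, hall⟩ := h
  have hr := repr_toPerm_of_genOk hok
  rw [MulAction.mem_stabilizer_iff, smul_eq_famImg]
  refine Set.eq_of_subset_of_ncard_le ?_
    (le_of_eq (Set.ncard_image_of_injective _ (Finset.image_injective (Equiv.injective _))).symm)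
    (Set.toFinite _)
  rintro _ ⟨_, ⟨m, hm, rfl⟩, rfl⟩
  have h' := hall m hm
  simp only [mapsMask12, Bool.and_eq_true, List.all_eq_true, List.mem_range, beq_iff_eq] at h'
  refine ⟨_, List.contains_iff_mem.mp h'.1, ?_⟩
  ext p
  obtain ⟨i, rfl⟩ := (toPerm 12 g.1).surjective p
  rw [(toPerm 12 g.1).injective.mem_finset_image]
  simp only [pts12, mem_filter, mem_univ, true_and]
  rw [hr i, h'.2 i i.isLt]

theorem aut12_le : grp 12 aut12Cert ≤ setSystemAut stdSet12 := by
  refine (Subgroup.closure_le _).mpr ?_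
  rintro _ ⟨g, hg, rfl⟩
  exact toPerm_mem_aut12 hg

theorem fullOrb_aut12 : fullOrb 12 4095 0 aut12Cert 5 = true := by decide +kernel

theorem all_testBit_4095 : ∀ i : Fin 12, Nat.testBit 4095 i = true := by decide +kernel

theorem exists_map_aut12 (x : Fin 5 ↪ Fin 12) :
    ∃ σ ∈ setSystemAut stdSet12, ∀ j : Fin 5, σ (Fin.castLE (by decide) j) = x j := by
  obtain ⟨σ, hσ, h⟩ := exists_map (A := 4095) (prev := 0) aut12Cert_ok fullOrb_aut12
    (fun τ _ i => by rw [all_testBit_4095, all_testBit_4095]) (fun τ _ i hi => by simp at hi)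
    x x.injective (fun j => all_testBit_4095 _) (fun j hj => by simp at hj)
  refine ⟨σ, aut12_le hσ, fun j => h j _ ?_⟩
  revert j
  decide +kernel

theorem multiplyPretransitive_std12 :
    MulAction.IsMultiplyPretransitive (setSystemAut stdSet12) (Fin 12) 5 := by
  rw [MulAction.isMultiplyPretransitive_iff]
  intro x y
  obtain ⟨s, hs, hsx⟩ := exists_map_aut12 x
  obtain ⟨t, ht, hty⟩ := exists_map_aut12 y
  refine ⟨⟨t * s⁻¹, mul_mem ht (inv_mem hs)⟩, DFunLike.ext _ _ fun j => ?_⟩
  show (t * s⁻¹) (x j) = y j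
  rw [Equiv.Perm.mul_apply, ← hsx j, Equiv.Perm.coe_inv, Equiv.symm_apply_apply, hty j]

variable {α : Type*} [Fintype α] [DecidableEq α] {B : Set (Finset α)}

theorem isSteiner_famImg {β : Type*} [Fintype β] [DecidableEq β] {t k : ℕ} (e : α ≃ β)
    (hB : IsSteinerSystem t k B) : IsSteinerSystem t k (famImg e B) := by
  refine ⟨?_, fun s hs => ?_⟩
  · rintro _ ⟨b, hb, rfl⟩
    rw [card_image_of_injective _ e.injective, hB.1 b hb]
  · obtain ⟨b, ⟨hb, hsub⟩, huniq⟩ := hB.2 (s.image e.symm)
      (by rw [card_image_of_injective _ e.symm.injective, hs])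
    refine ⟨b.image e, ⟨⟨b, hb, rfl⟩, fun p hp => ?_⟩, ?_⟩
    · exact mem_image.mpr ⟨e.symm p, hsub (mem_image_of_mem _ hp), e.apply_symm_apply p⟩
    · rintro _ ⟨⟨c, hc, rfl⟩, hsc⟩
      show c.image e = b.image e
      rw [huniq c ⟨hc, fun a ha => ?_⟩]
      obtain ⟨p, hp, rfl⟩ := mem_image.mp ha
      obtain ⟨a, ha, he⟩ := mem_image.mp (hsc hp)
      rwa [← he, e.symm_apply_apply]

/-- An automorphism of the standard system fixing five base points is trivial. -/
theorem eq_one_aut12 (hS : IsSteinerSystem 5 6 stdSet12) {σ : Equiv.Perm (Fin 12)}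
    (hσ : σ ∈ setSystemAut stdSet12)
    (h : ∀ j : Fin 5, σ (Fin.castLE (by decide) j) = Fin.castLE (by decide) j) : σ = 1 := by
  rw [MulAction.mem_stabilizer_iff, smul_eq_famImg] at hσ
  have himg : ∀ m ∈ std12, (pts12 m).image σ ∈ stdSet12 := fun m hm => by
    rw [← hσ]; exact ⟨_, mem_of_std hm, rfl⟩
  have hO : (pts12 63).image σ = pts12 63 := by
    by_contra hne
    have hlt := card_inter_lt hS (himg 63 std12_63) (mem_of_std std12_63) hne
    have h5 : (univ.image fun j : Fin 5 => (Fin.castLE (by decide) j : Fin 12)) ⊆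
        (pts12 63).image σ ∩ pts12 63 := by
      intro p hp
      obtain ⟨j, -, rfl⟩ := mem_image.mp hp
      have hj : ∀ j : Fin 5, (Fin.castLE (by decide) j : Fin 12) ∈ pts12 63 := by decide +kernel
      exact mem_inter.mpr ⟨mem_image.mpr ⟨_, hj j, h j⟩, hj j⟩
    have := card_le_card h5
    rw [card_image_of_injective _ (Fin.castLE_injective _), card_univ, Fintype.card_fin] at this
    omega
  have hfix : ∀ x : Fin 6, σ (Fin.castAdd 6 x) = Fin.castAdd 6 x := by
    intro x
    by_cases hx : (x : ℕ) < 5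
    · exact h ⟨x, hx⟩
    · have hm : σ (Fin.castAdd 6 x) ∈ pts12 63 := by
        rw [← hO]; exact mem_image_of_mem _ (mem_pts12_63 x).1
      obtain ⟨y, hy⟩ : ∃ y : Fin 6, σ (Fin.castAdd 6 x) = Fin.castAdd 6 y := by
        generalize σ (Fin.castAdd 6 x) = p at hm ⊢
        have : ∀ p : Fin 12, p ∈ pts12 63 → ∃ y : Fin 6, p = Fin.castAdd 6 y := by decide +kernel
        exact this p hm
      rw [hy]
      by_contra hne
      have hy5 : (y : ℕ) < 5 := by
        have : y ≠ x := fun e => hne (by rw [e])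
        have hx5 : (x : ℕ) = 5 := by omega
        have hv : (y : ℕ) ≠ (x : ℕ) := fun e => this (Fin.ext e)
        omega
      exact hne (σ.injective ((h ⟨y, hy5⟩).trans hy.symm))
  have hout : ∀ u : Fin 6, ∃ w : Fin 6, σ (Fin.natAdd 6 u) = Fin.natAdd 6 w := by
    intro u
    have : ∀ p : Fin 12, (∃ y : Fin 6, p = Fin.castAdd 6 y) ∨ ∃ w : Fin 6, p = Fin.natAdd 6 w := by
      decide +kernel
    rcases this (σ (Fin.natAdd 6 u)) with ⟨y, hy⟩ | hw
    · refine absurd (σ.injective (hy.trans (hfix y).symm)) ?_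
      intro e
      have := congrArg Fin.val e
      simp at this
      omega
    · exact hw
  choose τ hτ using hout
  have hτinj : Function.Injective τ := fun a b e => by
    have : (Fin.natAdd 6 a : Fin 12) = Fin.natAdd 6 b := σ.injective (by rw [hτ, hτ, e])
    exact Fin.ext (by simpa using congrArg Fin.val this)
  have hcomm : ∀ i j u, i ≠ j → τ (synP (phi12 i j) u) = synP (phi12 i j) (τ u) := by
    intro i j u hij
    let v := synP (phi12 i j) u
    have hv : v ≠ u := (synP_facts (phi12 i j) u).2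
    have hb : (pts12 (blk12 i j u v)).image σ = pts12 (blk12 i j (τ u) (τ v)) := by
      ext p
      obtain ⟨q, rfl⟩ := σ.surjective p
      rw [σ.injective.mem_finset_image]
      refine Fin.addCases (m := 6) (n := 6)
        (motive := fun q => q ∈ pts12 (blk12 i j u v) ↔ σ q ∈ pts12 (blk12 i j (τ u) (τ v)))
        (fun x => ?_) (fun x => ?_) q
      · rw [hfix, (mem_pts12_blk hij x).1, (mem_pts12_blk hij x).1]
      · rw [hτ, (mem_pts12_blk hij x).2, (mem_pts12_blk hij (τ x)).2, hτinj.eq_iff, hτinj.eq_iff]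
    have hmem := hb ▸ himg _ (blk12_mem_std12 hij u)
    obtain ⟨m, hm, hme⟩ := hmem
    have hm' : m < 4096 ∧ pop12 m = 6 := by
      have := List.all_eq_true.mp std12_facts.1 m hm
      simpa using this
    have hme' : m = blk12 i j (τ u) (τ v) :=
      pts12_injOn hm'.1 (blk12_facts _ _ _ _ hij).1 hme
    subst hme'
    have h5 : ∀ i j u v w : Fin 6, i ≠ j → v ≠ u → w ≠ u →
        5 ≤ pop12 (blk12 i j u v &&& blk12 i j u w) ∧
          (blk12 i j u v = blk12 i j u w → v = w) := pairSame
    obtain ⟨ha, hb'⟩ := h5 i j (τ u) (τ v) (synP (phi12 i j) (τ u)) hij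
      (hτinj.ne hv) (synP_facts (phi12 i j) (τ u)).2
    refine hb' (mask_eq_of_five hS (Equiv.refl _) (blk12_facts _ _ _ _ hij).1
      (blk12_facts _ _ _ _ hij).1 ?_ ?_ ha)
    · rw [Equiv.coe_refl, image_id]; exact mem_of_std hm
    · rw [Equiv.coe_refl, image_id]; exact mem_of_std (blk12_mem_std12 hij _)
  have hone : ∀ u, τ u = u := by
    intro u
    by_contra hne
    obtain ⟨s, t, hst, hne'⟩ := synP_separates u (τ u) (Ne.symm hne)
    obtain ⟨i, j, hij, rfl⟩ := phi12_covers s
    obtain ⟨i', j', hij', rfl⟩ := phi12_covers t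
    exact hne' (by rw [← hcomm i j u hij, hst, hcomm i' j' u hij'])
  refine Equiv.ext fun q => ?_
  refine Fin.addCases (m := 6) (n := 6) (motive := fun q => σ q = q) hfix (fun x => ?_) q
  rw [hτ, hone]

theorem stabilizer_std12 (hS : IsSteinerSystem 5 6 stdSet12) (x : Fin 5 ↪ Fin 12) :
    MulAction.stabilizer (setSystemAut stdSet12) x = ⊥ := by
  rw [eq_bot_iff]
  intro g hg
  obtain ⟨s, hs, hsx⟩ := exists_map_aut12 x
  have hgx : ∀ j, (g : Equiv.Perm (Fin 12)) (x j) = x j := fun j => DFunLike.congr_fun hg j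
  have h1 : s⁻¹ * (g : Equiv.Perm (Fin 12)) * s = 1 :=
    eq_one_aut12 hS (mul_mem (mul_mem (inv_mem hs) g.2) hs) fun j => by
      rw [Equiv.Perm.mul_apply, Equiv.Perm.mul_apply, hsx j, hgx j, ← hsx j, Equiv.Perm.coe_inv,
        Equiv.symm_apply_apply]
  rw [Subgroup.mem_bot]
  apply Subtype.ext
  show (g : Equiv.Perm (Fin 12)) = 1
  calc (g : Equiv.Perm (Fin 12)) = s * (s⁻¹ * g * s) * s⁻¹ := by group
    _ = 1 := by rw [h1]; group

/-- The automorphism group of an S(5,6,12) is sharply 5-transitive. -/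
theorem aut12_sharp (hα : Fintype.card α = 12) (hB : IsSteinerSystem 5 6 B) :
    MulAction.IsMultiplyPretransitive (setSystemAut B) α 5 ∧
      ∀ x : Fin 5 ↪ α, MulAction.stabilizer (setSystemAut B) x = ⊥ := by
  obtain ⟨e, rfl⟩ := exists_famImg_std12 hα hB
  have hS : IsSteinerSystem 5 6 stdSet12 := by
    have := isSteiner_famImg e.symm hB
    rwa [famImg_symm] at this
  refine ⟨multiplyPretransitive_famImg e _ 5 multiplyPretransitive_std12, fun x => ?_⟩
  rw [eq_bot_iff]
  intro g hg
  obtain ⟨g₀, rfl⟩ := (autEquiv e stdSet12).surjective g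
  have : g₀ ∈ MulAction.stabilizer (setSystemAut stdSet12) (x.trans e.symm.toEmbedding) := by
    refine DFunLike.ext _ _ fun j => ?_
    show (g₀ : Equiv.Perm (Fin 12)) (e.symm (x j)) = e.symm (x j)
    refine e.injective ?_
    rw [← autEquiv_apply, Equiv.apply_symm_apply]
    exact DFunLike.congr_fun hg j
  rw [stabilizer_std12 hS, Subgroup.mem_bot] at this
  rw [this, map_one]
  exact Subgroup.one_mem _

end Cfsg.Agent.Lib.Design
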