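import Cfsg.Agent.Lib.Design.Unique22

/-!
# The automorphism group of the standard S(3,6,22)
-/

namespace Cfsg.Agent.Lib.Design

open Cfsg Finset Cfsg.Agent.Lib.Compute
open scoped Pointwise

/-- The two removed points. -/
def removed22 : Finset GolayPt := {none, some 0}

/-- The exchange of the two removed points. -/
abbrev swapRemoved : Equiv.Perm GolayPt := Equiv.swap none (some 0)

theorem mem_removed22 {p : GolayPt} : p ∈ removed22 ↔ p = none ∨ p = some 0 := by
  simp [removed22]

theorem not_mem_removed22 {p : GolayPt} : p ∉ removed22 ↔ p ≠ none ∧ p ≠ some 0 := by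
  simp [removed22]

theorem swapRemoved_apply {p : GolayPt} (h : p ≠ none ∧ p ≠ some 0) : swapRemoved p = p :=
  Equiv.swap_apply_of_ne_of_ne h.1 h.2

theorem swapRemoved_not_mem : swapRemoved ∉ M24 := by
  intro h
  obtain ⟨hc, h8, h23, h0, -⟩ := sep22_facts
  have ho := setOf24_mem_octads hc h8
  have he := octad_eq_of_five (smul_mem_octads h ho) ho (by
    refine le_trans (by decide : 5 ≤ 8 - 1) ?_
    rw [← card_of_mem_octads ho]
    have hsub : (setOf24 sep22).erase (some 0) ⊆ swapRemoved • setOf24 sep22 ∩ setOf24 sep22 := by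
      intro p hp
      rw [mem_erase] at hp
      have hpn : p ≠ none := by
        rintro rfl
        have := mem_setOf24.mp hp.2
        rw [show ((enc none : Fin 24) : ℕ) = 23 from rfl, h23] at this
        simp at this
      rw [mem_inter, mem_smul_finset_iff, Equiv.symm_swap, swapRemoved_apply ⟨hpn, hp.1⟩]
      exact ⟨hp.2, hp.2⟩
    have := card_le_card hsub
    rwa [card_erase_of_mem (mem_setOf24.mpr h0)] at this)
  have h2 : (some 0 : GolayPt) ∈ swapRemoved • setOf24 sep22 := by
    rw [he]; exact mem_setOf24.mpr h0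
  rw [mem_smul_finset_iff, Equiv.symm_swap, Equiv.swap_apply_right, mem_setOf24,
    show ((enc none : Fin 24) : ℕ) = 23 from rfl, h23] at h2
  simp at h2

theorem swap230_eq (m : ℕ) : setOf24 (swap230 m) = (setOf24 m).image swapRemoved := by
  ext p
  have hrhs : p ∈ (setOf24 m).image swapRemoved ↔ swapRemoved p ∈ setOf24 m := by
    rw [← smul_finset_eq_image, mem_smul_finset_iff, Equiv.symm_swap]
  rw [hrhs]
  have hx : ∀ i : Fin 24, Nat.testBit 8388609 i = decide (i = 0 ∨ i = 23) := by decide +kernel
  have e0 : ((enc (some 0) : Fin 24) : ℕ) = 0 := rfl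
  have e23 : ((enc none : Fin 24) : ℕ) = 23 := rfl
  simp only [mem_setOf24, swap230]
  by_cases hp : p = none
  · subst hp
    rw [Equiv.swap_apply_left, e0, e23]
    have h23 : Nat.testBit 8388609 23 = true := by decide +kernel
    cases ha : m.testBit 23 <;> cases hb : m.testBit 0 <;> simp [Nat.testBit_xor, ha, h23]
  by_cases hp0 : p = some 0
  · subst hp0
    rw [Equiv.swap_apply_right, e0, e23]
    have hxm : (m ^^^ 8388609).testBit 0 = !m.testBit 0 := by
      rw [Nat.testBit_xor, show Nat.testBit 8388609 0 = true by decide +kernel, Bool.xor_true]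
    rw [Bool.apply_cond (fun x => Nat.testBit x 0), hxm]
    cases m.testBit 23 <;> cases m.testBit 0 <;> decide
  rw [swapRemoved_apply ⟨hp, hp0⟩]
  have hne0 : enc p ≠ 0 := fun e => hp0 (enc.injective (e.trans (Fin.ext e0.symm)))
  have hne23 : enc p ≠ 23 := fun e => hp (enc.injective (e.trans (Fin.ext e23.symm)))
  cases m.testBit 23 == m.testBit 0
  · simp [Nat.testBit_xor, hx (enc p), hne0, hne23]
  · rfl

theorem gens22_span : ∀ b ∈ golayBasis.map Prod.fst, b ∈ spanList (sep22 :: gens22) := by
  decide +kernel

/-- A permutation fixing the two removed points and acting as an automorphism of the 77 blocks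
extends to an element of `M24`. -/
theorem exists_extension {τ : Equiv.Perm Pt22} (hτ : τ ∈ setSystemAut blocks22) :
    ∃ σ ∈ M24, (∀ p ∈ removed22, σ p ∈ removed22) ∧ ∀ p : Pt22, σ (p : GolayPt) = (τ p : Pt22) := by
  classical
  let σ : Equiv.Perm GolayPt := Equiv.Perm.ofSubtype τ
  have hσ0 : σ none = none := Equiv.Perm.ofSubtype_apply_of_not_mem τ (by simp)
  have hσ1 : σ (some 0) = some 0 := Equiv.Perm.ofSubtype_apply_of_not_mem τ (by simp)
  have hσp : ∀ p : Pt22, σ (p : GolayPt) = (τ p : Pt22) :=
    fun p => Equiv.Perm.ofSubtype_apply_of_mem τ p.2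
  -- octads through both removed points
  have himg : ∀ π : Equiv.Perm Pt22, π ∈ setSystemAut blocks22 → ∀ o ∈ octads, none ∈ o →
      (some 0 : GolayPt) ∈ o → o.image (Equiv.Perm.ofSubtype π) ∈ octads := by
    intro π hπ o ho h0 h1
    rw [MulAction.mem_stabilizer_iff, smul_eq_famImg] at hπ
    have hb' : (Finset.subtype (fun a => a ≠ none ∧ a ≠ some 0) o).image π ∈ blocks22 := by
      rw [← hπ]; exact ⟨_, ⟨o, ho, h0, h1, rfl⟩, rfl⟩
    obtain ⟨o', ho', h0', h1', hoe⟩ := hb'
    have : o.image (Equiv.Perm.ofSubtype π) = o' := by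
      ext p
      rw [mem_image]
      have f0 : Equiv.Perm.ofSubtype π (none : GolayPt) = none :=
        Equiv.Perm.ofSubtype_apply_of_not_mem π (by simp)
      have f1 : Equiv.Perm.ofSubtype π (some 0 : GolayPt) = some 0 :=
        Equiv.Perm.ofSubtype_apply_of_not_mem π (by simp)
      by_cases hp : p ≠ none ∧ p ≠ some 0
      · have hmem := congrArg (fun s => (⟨p, hp⟩ : Pt22) ∈ s) hoe
        simp only [mem_image, mem_subtype, eq_iff_iff] at hmem
        rw [← hmem]
        constructor
        · rintro ⟨r, hr, hre⟩
          have hr2 : r ≠ none ∧ r ≠ some 0 := by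
            constructor <;> rintro rfl
            · exact hp.1 (hre.symm.trans f0)
            · exact hp.2 (hre.symm.trans f1)
          refine ⟨⟨r, hr2⟩, hr, Subtype.ext ?_⟩
          show ((π ⟨r, hr2⟩ : Pt22) : GolayPt) = p
          rw [← hre]
          exact (Equiv.Perm.ofSubtype_apply_of_mem π hr2).symm
        · rintro ⟨r, hr, hre⟩
          exact ⟨r, hr, by rw [Equiv.Perm.ofSubtype_apply_of_mem π r.2, hre]⟩
      · rcases mem_removed22.mp (by_contra fun h => hp (not_mem_removed22.mp h)) with rfl | rfl
        · exact ⟨fun _ => h0', fun _ => ⟨_, h0, f0⟩⟩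
        · exact ⟨fun _ => h1', fun _ => ⟨_, h1, f1⟩⟩
    rw [this]
    exact ho'
  have hgen : ∀ g ∈ gens22, (setOf24 g).image σ ∈ octads := fun g hg => by
    obtain ⟨hc, h8, h23, h0⟩ := gens22_facts g hg
    exact himg τ hτ _ (setOf24_mem_octads hc h8) (mem_setOf24.mpr h23) (mem_setOf24.mpr h0)
  have hgeninv : ∀ g ∈ gens22, (setOf24 g).image σ.symm ∈ octads := fun g hg => by
    obtain ⟨hc, h8, h23, h0⟩ := gens22_facts g hg
    have : σ.symm = Equiv.Perm.ofSubtype τ⁻¹ := (map_inv Equiv.Perm.ofSubtype τ).symm
    rw [this]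
    exact himg τ⁻¹ (inv_mem hτ) _ (setOf24_mem_octads hc h8) (mem_setOf24.mpr h23) (mem_setOf24.mpr h0)
  obtain ⟨hsc, hs8, hs23, hs0, -⟩ := sep22_facts
  obtain ⟨m, hm, hms⟩ := exists_mask ((setOf24 sep22).image σ)
  have hm8 : pop m = 8 := by
    rw [← card_setOf24, hms, card_image_of_injective _ σ.injective, card_setOf24, hs8]
  have hmd : m ∈ spanList (dual22.map Prod.fst) := by
    refine mem_span_of_evenMeet echOk_dual22 isoOk_dual22
      (fun b hb u hu => evenMeet_of_pop (dual22_orth b hb u hu)) hm fun u hu => ?_
    refine EvenMeet.symm (evenMeet_span (fun g hg => ?_) u.1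
      (spanList_mono basis22_gen _ (red_eq_zero _ (iso22_span u hu))))
    have h1 := inter_even_24 (B := octads) rfl isSteinerSystem_octads (hgeninv g hg)
      (setOf24_mem_octads hsc hs8)
    have h2 : ((setOf24 g).image σ.symm ∩ setOf24 sep22).card = (setOf24 g ∩ setOf24 m).card := by
      rw [← card_image_of_injective _ σ.injective, image_inter _ _ σ.injective, image_image,
        Equiv.self_comp_symm, image_id, hms]
    rwa [h2] at h1
  have hb23 : m.testBit 23 = false := by
    have : (none : GolayPt) ∉ setOf24 m := by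
      rw [hms, mem_image]
      rintro ⟨r, hr, hre⟩
      have : r = none := σ.injective (hre.trans hσ0.symm)
      subst this
      have := mem_setOf24.mp hr
      rw [show ((enc none : Fin 24) : ℕ) = 23 from rfl, hs23] at this
      simp at this
    simpa [mem_setOf24, show ((enc none : Fin 24) : ℕ) = 23 from rfl] using this
  have hb0 : m.testBit 0 = true := by
    have : (some 0 : GolayPt) ∈ setOf24 m := by
      rw [hms, mem_image]
      exact ⟨some 0, mem_setOf24.mpr hs0, hσ1⟩
    exact mem_setOf24.mp this
  have h := List.all_eq_true.mp separator_cases22 m hmd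
  simp only [hm8, hb23, hb0, bne_self_eq_false, Bool.false_or, Bool.or_eq_true] at h
  rcases h with (h | h) | h
  · exact absurd h (by simp)
  · refine ⟨σ, ?_, fun p hp => ?_, hσp⟩
    · refine mem_M24_of_gens (sep22 :: gens22) gens22_span fun g hg => comp_symm_mem_of_image_octad ?_
      rcases List.mem_cons.mp hg with rfl | hg
      · rw [← hms]; exact setOf24_mem_octads h hm8
      · exact hgen g hg
    · rcases mem_removed22.mp hp with rfl | rfl
      · rw [hσ0]; exact hp
      · rw [hσ1]; exact hp
  · refine ⟨swapRemoved * σ, ?_, fun p hp => ?_, fun p => ?_⟩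
    · refine mem_M24_of_gens (sep22 :: gens22) gens22_span fun g hg => comp_symm_mem_of_image_octad ?_
      rw [Equiv.Perm.coe_mul, ← image_image]
      rcases List.mem_cons.mp hg with rfl | hg
      · rw [← hms, ← swap230_eq]
        refine setOf24_mem_octads h ?_
        rw [← card_setOf24, swap230_eq, card_image_of_injective _ swapRemoved.injective,
          card_setOf24, hm8]
      · have hfix : ((setOf24 g).image σ).image swapRemoved = (setOf24 g).image σ := by
          obtain ⟨-, -, h23, h0⟩ := gens22_facts g hg
          have a0 : (none : GolayPt) ∈ (setOf24 g).image σ :=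
            mem_image.mpr ⟨none, mem_setOf24.mpr h23, hσ0⟩
          have a1 : (some 0 : GolayPt) ∈ (setOf24 g).image σ :=
            mem_image.mpr ⟨some 0, mem_setOf24.mpr h0, hσ1⟩
          ext p
          rw [← smul_finset_eq_image, mem_smul_finset_iff, Equiv.symm_swap]
          by_cases h1 : p = none
          · subst h1; rw [Equiv.swap_apply_left]; exact iff_of_true a1 a0
          by_cases h2 : p = some 0
          · subst h2; rw [Equiv.swap_apply_right]; exact iff_of_true a0 a1
          rw [swapRemoved_apply ⟨h1, h2⟩]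
        rw [hfix]
        exact hgen g hg
    · rcases mem_removed22.mp hp with rfl | rfl
      · rw [Equiv.Perm.mul_apply, hσ0, Equiv.swap_apply_left]; simp [removed22]
      · rw [Equiv.Perm.mul_apply, hσ1, Equiv.swap_apply_right]; simp [removed22]
    · rw [Equiv.Perm.mul_apply, hσp, swapRemoved_apply (τ p).2]

/-- The setwise stabiliser of the two removed points. -/
abbrev pairStab : Subgroup M24 := MulAction.stabilizer M24 removed22

theorem mem_pairStab {σ : M24} :
    σ ∈ pairStab ↔ ∀ p ∈ removed22, (σ : Equiv.Perm GolayPt) p ∈ removed22 := by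
  rw [MulAction.mem_stabilizer_iff]
  constructor
  · intro h p hp
    have : σ • p ∈ σ • removed22 := Finset.smul_mem_smul_finset hp
    rwa [h] at this
  · intro h
    refine eq_of_subset_of_card_le (fun q hq => ?_) (by rw [Finset.card_smul_finset])
    obtain ⟨p, hp, rfl⟩ := Finset.mem_smul_finset.mp hq
    exact h p hp

/-- The setwise stabiliser of two points in `M24` is the automorphism group of S(3,6,22). -/
theorem exists_equiv_aut22 :
    ∃ f : pairStab ≃* setSystemAut blocks22,
      ∀ σ (p : Pt22), (((f σ : Equiv.Perm Pt22) p : Pt22) : GolayPt)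
        = (σ : M24) • (p : GolayPt) := by
  classical
  have hin : ∀ σ : pairStab, ∀ p : GolayPt,
      ((σ : M24) : Equiv.Perm GolayPt) p ∈ removed22 ↔ p ∈ removed22 := by
    intro σ p
    constructor
    · intro h
      have := mem_pairStab.mp (σ⁻¹).2 _ h
      rwa [Subgroup.coe_inv, Subgroup.coe_inv, Equiv.Perm.coe_inv, Equiv.symm_apply_apply] at this
    · exact mem_pairStab.mp σ.2 p
  have hinv : ∀ σ : pairStab, ∀ p : GolayPt,
      (((σ : M24) : Equiv.Perm GolayPt) p ≠ none ∧ ((σ : M24) : Equiv.Perm GolayPt) p ≠ some 0)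
        ↔ (p ≠ none ∧ p ≠ some 0) := fun σ p => by
    rw [← not_mem_removed22, ← not_mem_removed22]; exact not_congr (hin σ p)
  let res : pairStab →* Equiv.Perm Pt22 :=
    { toFun := fun σ => ((σ : M24) : Equiv.Perm GolayPt).subtypePerm (fun p => hinv σ p)
      map_one' := by ext p; rfl
      map_mul' := fun σ τ => by ext p; rfl }
  have hcoe : ∀ σ p, ((res σ p : Pt22) : GolayPt) = (σ : M24) • (p : GolayPt) := fun σ p => rfl
  have hres : Function.Injective res := by
    refine (injective_iff_map_eq_one res).mpr fun σ hσ => ?_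
    have hfix : ∀ p : GolayPt, p ∉ removed22 → ((σ : M24) : Equiv.Perm GolayPt) p = p := fun p hp =>
      congrArg (fun π : Equiv.Perm Pt22 => ((π ⟨p, not_mem_removed22.mp hp⟩ : Pt22) : GolayPt)) hσ
    rcases mem_removed22.mp ((hin σ none).mpr (by simp [removed22])) with h | h
    · apply Subtype.ext
      apply Subtype.ext
      refine Equiv.ext fun p => ?_
      show ((σ : M24) : Equiv.Perm GolayPt) p = p
      by_cases hp : p ∈ removed22
      · rcases mem_removed22.mp hp with rfl | rfl
        · exact h
        · rcases mem_removed22.mp ((hin σ (some 0)).mpr hp) with e | e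
          · exact absurd (((σ : M24) : Equiv.Perm GolayPt).injective (e.trans h.symm)) (by simp)
          · exact e
      · exact hfix p hp
    · exfalso
      apply swapRemoved_not_mem
      have : ((σ : M24) : Equiv.Perm GolayPt) = swapRemoved := by
        refine Equiv.ext fun p => ?_
        by_cases hp : p ∈ removed22
        · rcases mem_removed22.mp hp with rfl | rfl
          · rw [h, Equiv.swap_apply_left]
          · rw [Equiv.swap_apply_right]
            rcases mem_removed22.mp ((hin σ (some 0)).mpr hp) with e | e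
            · exact e
            · exact absurd (((σ : M24) : Equiv.Perm GolayPt).injective (e.trans h.symm)) (by simp)
        · rw [hfix p hp, swapRemoved_apply (not_mem_removed22.mp hp)]
      rw [← this]
      exact (σ : M24).2
  have hrange : res.range = setSystemAut blocks22 := by
    refine le_antisymm ?_ ?_
    · rintro _ ⟨σ, rfl⟩
      rw [MulAction.mem_stabilizer_iff, smul_eq_famImg]
      refine eq_famImg_of_maps (res σ).injective ?_ le_rfl
      rintro _ ⟨o, ho, h0, h1, rfl⟩
      have hsub : ∀ p ∈ removed22, p ∈ ((σ : M24) : Equiv.Perm GolayPt) • o := by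
        intro p hp
        rw [mem_smul_finset_iff]
        have := (hin σ (((σ : M24) : Equiv.Perm GolayPt).symm p)).mp
          (by rw [Equiv.apply_symm_apply]; exact hp)
        rcases mem_removed22.mp this with e | e <;> rw [e] <;> assumption
      refine ⟨((σ : M24) : Equiv.Perm GolayPt) • o, smul_mem_octads (σ : M24).2 ho,
        hsub none (by simp [removed22]), hsub (some 0) (by simp [removed22]), ?_⟩
      ext q
      simp only [mem_image, mem_subtype, mem_smul_finset_iff]
      constructor
      · rintro ⟨r, hr, rfl⟩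
        rwa [hcoe, show (σ : M24) • (r : GolayPt) = ((σ : M24) : Equiv.Perm GolayPt) r from rfl,
          Equiv.symm_apply_apply]
      · intro hq
        have hne := (hinv σ (((σ : M24) : Equiv.Perm GolayPt).symm (q : GolayPt))).mp
          (by rw [Equiv.apply_symm_apply]; exact q.2)
        exact ⟨⟨_, hne⟩, hq, Subtype.ext (Equiv.apply_symm_apply _ _)⟩
    · intro τ hτ
      obtain ⟨σ, hσ, hrem, hp⟩ := exists_extension hτ
      exact ⟨⟨⟨σ, hσ⟩, mem_pairStab.mpr hrem⟩, Equiv.ext fun p => Subtype.ext (hp p)⟩
  refine ⟨(MonoidHom.ofInjective hres).trans (MulEquiv.subgroupCongr hrange), fun σ p => ?_⟩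
  exact hcoe σ p

theorem multiplyPretransitive_blocks22 :
    MulAction.IsMultiplyPretransitive (setSystemAut blocks22) Pt22 3 := by
  obtain ⟨f, hf⟩ := exists_equiv_aut22
  rw [MulAction.isMultiplyPretransitive_iff]
  intro x y
  have hinj : ∀ x : Fin 3 ↪ Pt22, Function.Injective
      (Fin.cons none (Fin.cons (some 0) (fun i => ((x i : Pt22) : GolayPt))) : Fin 5 → GolayPt) := by
    intro x
    refine Fin.cons_injective_iff.mpr ⟨?_, Fin.cons_injective_iff.mpr
      ⟨fun ⟨i, hi⟩ => (x i).2.2 hi, Subtype.val_injective.comp x.injective⟩⟩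
    rintro ⟨i, hi⟩
    induction i using Fin.cases with
    | zero => exact none_ne_zeroPt hi.symm
    | succ i => exact (x i).2.1 hi
  obtain ⟨g, hg⟩ := MulAction.isMultiplyPretransitive_iff.mp M24_multiplyPretransitive
    ⟨_, hinj x⟩ ⟨_, hinj y⟩
  have h0 : g • (none : GolayPt) = none := DFunLike.congr_fun hg 0
  have h1 : g • (some 0 : GolayPt) = some 0 := DFunLike.congr_fun hg 1
  have hmem : g ∈ pairStab := mem_pairStab.mpr fun p hp => by
    rcases mem_removed22.mp hp with rfl | rfl
    · show g • (none : GolayPt) ∈ removed22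
      rw [h0]; exact hp
    · show g • (some 0 : GolayPt) ∈ removed22
      rw [h1]; exact hp
  refine ⟨f ⟨g, hmem⟩, DFunLike.ext _ _ fun i => Subtype.ext ?_⟩
  show (((f ⟨g, hmem⟩ : Equiv.Perm Pt22) (x i) : Pt22) : GolayPt) = _
  rw [hf]
  exact DFunLike.congr_fun hg i.succ.succ

theorem card_pairStab : Nat.card pairStab = 887040 := by
  have h2 : MulAction.IsMultiplyPretransitive M24 GolayPt 2 :=
    haveI := M24_multiplyPretransitive
    MulAction.isMultiplyPretransitive_of_le (n := 5) (by decide) (by
      rw [Nat.card_eq_fintype_card]; exact (by decide : 5 ≤ Fintype.card GolayPt))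
  have horb : MulAction.orbit M24 removed22 = {s : Finset GolayPt | s.card = 2} := by
    ext s
    constructor
    · rintro ⟨g, rfl⟩
      show (g • removed22).card = 2
      rw [Finset.card_smul_finset]
      decide +kernel
    · intro hs
      obtain ⟨a, b, hab, rfl⟩ := card_eq_two.mp hs
      obtain ⟨g, hga, hgb⟩ := MulAction.is_two_pretransitive_iff.mp h2 none_ne_zeroPt hab
      refine ⟨g, ?_⟩
      show g • removed22 = {a, b}
      ext q
      simp only [Finset.mem_smul_finset, mem_removed22, mem_insert, mem_singleton]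
      constructor
      · rintro ⟨p, rfl | rfl, rfl⟩
        · exact Or.inl hga
        · exact Or.inr hgb
      · rintro (rfl | rfl)
        · exact ⟨none, Or.inl rfl, hga⟩
        · exact ⟨some 0, Or.inr rfl, hgb⟩
  have hi : pairStab.index = 276 := by
    rw [MulAction.index_stabilizer, horb,
      show {s : Finset GolayPt | s.card = 2} = ↑((univ : Finset GolayPt).powersetCard 2) by
        ext s; simp,
      Set.ncard_coe_finset, card_powersetCard, card_univ]
    decide +kernel
  have h := pairStab.card_mul_index
  rw [hi, card_M24] at h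
  exact Nat.eq_of_mul_eq_mul_right (by decide : 0 < 276) (h.trans (by norm_num))

theorem exists_simple_index_two : ∃ H : Subgroup pairStab, H.index = 2 ∧ Nat.card H = 443520
    ∧ IsSimpleGroup H := by
  have hle : MulAction.stabilizer M24 (none : GolayPt) ⊓ MulAction.stabilizer M24 (some 0 : GolayPt)
      ≤ pairStab := by
    rintro g ⟨h0, h1⟩
    refine mem_pairStab.mpr fun p hp => ?_
    rcases mem_removed22.mp hp with rfl | rfl
    · show g • (none : GolayPt) ∈ removed22
      rw [show g • (none : GolayPt) = none from h0]; exact hp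
    · show g • (some 0 : GolayPt) ∈ removed22
      rw [show g • (some 0 : GolayPt) = some 0 from h1]; exact hp
  obtain ⟨e⟩ := stabilizer_two_equiv none_ne_zeroPt
  haveI := isSimpleGroup_cert2
  let k := e.trans (Subgroup.subgroupOfEquivOfLe hle).symm
  have hc : Nat.card ((MulAction.stabilizer M24 (none : GolayPt) ⊓
      MulAction.stabilizer M24 (some 0 : GolayPt)).subgroupOf pairStab) = 443520 := by
    rw [← Nat.card_congr k.toEquiv, card_cert2]
  refine ⟨_, ?_, hc, k.symm.isSimpleGroup⟩
  have h := Subgroup.card_mul_index ((MulAction.stabilizer M24 (none : GolayPt) ⊓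
    MulAction.stabilizer M24 (some 0 : GolayPt)).subgroupOf pairStab)
  rw [hc, card_pairStab] at h
  omega

end Cfsg.Agent.Lib.Design
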