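import Cfsg.Agent.Lib.Design.UniqueHS
import Cfsg.Agent.Lib.Design.Aut22

/-!
# The number of automorphisms of the 100 vertex point-block graph
-/

set_option autoImplicit false

namespace Cfsg.Agent.Lib.Design

open Cfsg Finset

theorem card_setSystemAut_blocks22 : Nat.card ↥(setSystemAut blocks22) = 887040 := by
  obtain ⟨f, -⟩ := exists_equiv_aut22
  rw [← Nat.card_congr f.toEquiv, card_pairStab]

theorem mem_setSystemAut_iff {τ : Equiv.Perm Pt22} :
    τ ∈ setSystemAut blocks22 ↔ ∀ b ∈ blocks22, b.image τ ∈ blocks22 := by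
  constructor
  · intro h b hb
    have e : famImg τ blocks22 = blocks22 := h
    rw [← e]
    exact ⟨b, hb, rfl⟩
  · intro h
    show famImg τ blocks22 = blocks22
    refine Set.eq_of_subset_of_ncard_le ?_ ?_ (Set.toFinite _)
    · rintro _ ⟨b, hb, rfl⟩; exact h b hb
    · rw [famImg, Set.ncard_image_of_injective _ (image_injective τ.injective)]

/-- The automorphism of the graph induced by a symmetry of the blocks. -/
noncomputable def liftAut (τ : ↥(setSystemAut blocks22)) : pointBlockGraph blocks22 ≃g pointBlockGraph blocks22 where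
  toEquiv := Equiv.optionCongr (Equiv.sumCongr τ.1 (Equiv.ofBijective
    (fun b : blocks22 => (⟨(b : Finset Pt22).image τ.1, mem_setSystemAut_iff.1 τ.2 b b.2⟩ : blocks22))
    (Finite.injective_iff_bijective.1 fun a b e =>
      Subtype.ext (image_injective τ.1.injective (congrArg Subtype.val e)))))
  map_rel_iff' {a b} := by
    have hne : ∀ c ∈ blocks22, c.card ≠ 0 := fun c hc => by rw [steiner_blocks22.1 c hc]; decide
    rcases a with _ | p | c <;> rcases b with _ | q | d
    · exact iff_of_false (SimpleGraph.irrefl _) (SimpleGraph.irrefl _)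
    · exact iff_of_true (pbg_none_inl _) (pbg_none_inl _)
    · exact iff_of_false (pbg_none_inr _) (pbg_none_inr _)
    · exact iff_of_true (pbg_none_inl _).symm (pbg_none_inl _).symm
    · exact iff_of_false (pbg_inl_inl _ _) (pbg_inl_inl _ _)
    · show (pointBlockGraph blocks22).Adj (some (Sum.inl (τ.1 p))) (some (Sum.inr _)) ↔ _
      rw [pbg_inl_inr, pbg_inl_inr, Equiv.ofBijective_apply]
      exact mem_image.trans ⟨fun ⟨r, hr, e⟩ => τ.1.injective e ▸ hr, fun h => ⟨p, h, rfl⟩⟩
    · exact iff_of_false (fun e => pbg_none_inr _ e.symm) (fun e => pbg_none_inr _ e.symm)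
    · show (pointBlockGraph blocks22).Adj (some (Sum.inr _)) (some (Sum.inl (τ.1 q))) ↔ _
      rw [SimpleGraph.adj_comm, pbg_inl_inr, SimpleGraph.adj_comm, pbg_inl_inr, Equiv.ofBijective_apply]
      exact mem_image.trans ⟨fun ⟨r, hr, e⟩ => τ.1.injective e ▸ hr, fun h => ⟨q, h, rfl⟩⟩
    · show (pointBlockGraph blocks22).Adj (some (Sum.inr _)) (some (Sum.inr _)) ↔ _
      rw [pbg_inr_inr hne, pbg_inr_inr hne, Equiv.ofBijective_apply, Equiv.ofBijective_apply]
      exact disjoint_image τ.1.injective

/-- Every automorphism fixing the extra vertex is induced by a symmetry of the blocks. -/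
theorem exists_lift (e : pointBlockGraph blocks22 ≃g pointBlockGraph blocks22) (he : e none = none) :
    ∃ τ : ↥(setSystemAut blocks22), liftAut τ = e := by
  classical
  have hadj : ∀ a b, (pointBlockGraph blocks22).Adj (e a) (e b) ↔ (pointBlockGraph blocks22).Adj a b :=
    fun a b => e.map_rel_iff
  have hp : ∀ p : Pt22, ∃ q, e (some (Sum.inl p)) = some (Sum.inl q) := by
    intro p
    have h := (hadj none (some (Sum.inl p))).2 (pbg_none_inl p)
    rw [he] at h
    rcases hc : e (some (Sum.inl p)) with _ | q | c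
    · rw [hc] at h; exact absurd h (SimpleGraph.irrefl _)
    · exact ⟨q, rfl⟩
    · rw [hc] at h; exact absurd h (pbg_none_inr c)
  have hbl : ∀ b : blocks22, ∃ c : blocks22, e (some (Sum.inr b)) = some (Sum.inr c) := by
    intro b
    rcases hc : e (some (Sum.inr b)) with _ | q | c
    · exact absurd (e.injective (hc.trans he.symm)) (by simp)
    · have h := (hadj none (some (Sum.inr b))).1 (by rw [he, hc]; exact pbg_none_inl q)
      exact absurd h (pbg_none_inr b)
    · exact ⟨c, rfl⟩
  choose f hf using hp
  choose g hg using hbl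
  have hfi : Function.Injective f := fun a b h => by
    have := e.injective ((hf a).trans ((congrArg (fun t => some (Sum.inl t)) h).trans (hf b).symm))
    simpa using this
  let τ : Equiv.Perm Pt22 := Equiv.ofBijective f (Finite.injective_iff_bijective.1 hfi)
  have himg : ∀ b : blocks22, (b : Finset Pt22).image τ = (g b : Finset Pt22) := by
    intro b
    ext q
    obtain ⟨p, rfl⟩ := τ.surjective q
    rw [mem_image]
    constructor
    · rintro ⟨r, hr, e'⟩
      rw [τ.injective e'] at hr
      have h := (hadj (some (Sum.inl p)) (some (Sum.inr b))).2 ((pbg_inl_inr p b).2 hr)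
      rw [hf, hg, pbg_inl_inr] at h
      exact h
    · intro hq
      refine ⟨p, ?_, rfl⟩
      have h := (hadj (some (Sum.inl p)) (some (Sum.inr b))).1 (by rw [hf, hg, pbg_inl_inr]; exact hq)
      exact (pbg_inl_inr p b).1 h
  have hmem : τ ∈ setSystemAut blocks22 := mem_setSystemAut_iff.2 fun b hb => by
    rw [himg ⟨b, hb⟩]; exact (g ⟨b, hb⟩).2
  refine ⟨⟨τ, hmem⟩, RelIso.ext fun x => ?_⟩
  rcases x with _ | p | b
  · exact he.symm
  · exact (hf p).symm
  · rw [hg b]
    exact congrArg (fun t => some (Sum.inr t)) (Subtype.ext (himg b))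

theorem card_aut_pointBlock22 :
    Nat.card (pointBlockGraph blocks22 ≃g pointBlockGraph blocks22) = 88704000 := by
  classical
  have hG : (pointBlockGraph blocks22).IsSRGWith 100 22 0 6 := pointBlockGraph_srg card_Pt22 steiner_blocks22
  choose t ht using fun v => exists_iso_pointBlock_at hG v
  let F : Option (Pt22 ⊕ blocks22) × ↥(setSystemAut blocks22) →
      (pointBlockGraph blocks22 ≃g pointBlockGraph blocks22) := fun p => (liftAut p.2).trans (t p.1).symm
  have hF0 : ∀ p, F p none = p.1 := fun p => (t p.1).symm_apply_eq.2 (ht p.1).symm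
  have hFb : Function.Bijective F := by
    refine ⟨fun a b h => ?_, fun e => ?_⟩
    · have h1 : a.1 = b.1 := by rw [← hF0 a, ← hF0 b, h]
      refine Prod.ext h1 (Subtype.ext (Equiv.ext fun p => ?_))
      have h2 := RelIso.ext_iff.1 h (some (Sum.inl p))
      simp only [F, RelIso.trans_apply, h1] at h2
      have h3 : (some (Sum.inl (a.2.1 p)) : Option (Pt22 ⊕ blocks22)) = some (Sum.inl (b.2.1 p)) :=
        (t b.1).symm.injective h2
      simpa using h3
    · obtain ⟨τ, hτ⟩ := exists_lift (e.trans (t (e none))) (ht (e none))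
      refine ⟨(e none, τ), RelIso.ext fun x => ?_⟩
      simp only [F, RelIso.trans_apply, hτ]
      exact (t (e none)).symm_apply_apply (e x)
  rw [← Nat.card_congr (Equiv.ofBijective F hFb), Nat.card_prod, card_setSystemAut_blocks22,
    Nat.card_eq_fintype_card, hG.card]

end Cfsg.Agent.Lib.Design
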