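import Cfsg.Agent.Lib.Design.Unique24
import Cfsg.Agent.Lib.Design.Transport

/-!
# Consequences of the uniqueness of S(5,8,24): automorphisms, uniqueness of the code
-/

namespace Cfsg.Agent.Lib.Design

open Cfsg Finset Cfsg.Agent.Lib.Compute

variable {α : Type*} [Fintype α] [DecidableEq α]

theorem exists_famImg_octads (hα : Fintype.card α = 24) {B : Set (Finset α)}
    (hB : IsSteinerSystem 5 8 B) : ∃ e : GolayPt ≃ α, B = famImg e octads :=
  exists_octad_labelling hα hB

theorem octads_basis_span : ∀ b ∈ golayBasis, inCode b.1 = true ∧ pop b.1 = 8 := basis_octads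

/-! ### the code -/

/-- Two binary vectors with disjoint support add up in weight. -/
theorem support₂_smallRep (C : Submodule (ZMod 2) (α → ZMod 2)) (hα : Fintype.card α = 24)
    (hdim : Module.finrank (ZMod 2) C = 12)
    (hw : ∀ w ∈ C, (support₂ w).card = 0 ∨ 8 ≤ (support₂ w).card) (v : α → ZMod 2) :
    ∃ u : α → ZMod 2, (support₂ u).card ≤ 4 ∧ v + u ∈ C := by
  classical
  let Q := (α → ZMod 2) ⧸ C
  haveI : Fintype Q := Fintype.ofFinite Q
  have hQ : Fintype.card Q = 4096 := by
    rw [← Nat.card_eq_fintype_card]
    have h1 := Submodule.finrank_quotient_add_finrank C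
    rw [Module.finrank_fintype_fun_eq_card, hα, hdim] at h1
    rw [Module.natCard_eq_pow_finrank (K := ZMod 2) (V := Q), Nat.card_zmod]
    have h2 : Module.finrank (ZMod 2) ((α → ZMod 2) ⧸ C) = 12 := by omega
    show 2 ^ Module.finrank (ZMod 2) ((α → ZMod 2) ⧸ C) = _
    rw [h2]; norm_num
  let ofSet : Finset α → α → ZMod 2 := fun s a => if a ∈ s then 1 else 0
  have hsupp : ∀ s, support₂ (ofSet s) = s := fun s => by
    ext a
    simp [support₂, ofSet]
  let f : Finset α → Q := fun s => Submodule.Quotient.mk (ofSet s)
  have hadd : ∀ s t, (support₂ (ofSet s + ofSet t)).card + 2 * (s ∩ t).card = s.card + t.card := by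
    intro s t
    have := card_support₂_add (ofSet s) (ofSet t)
    rwa [hsupp, hsupp] at this
  have hsame : ∀ s t, f s = f t → s.card + t.card ≤ 8 →
      s = t ∨ (s.card + t.card = 8 ∧ Disjoint s t) := by
    intro s t he hle
    have hmem : ofSet s - ofSet t ∈ C := (Submodule.Quotient.eq C).mp he
    have hsub : ofSet s - ofSet t = ofSet s + ofSet t := by
      funext a; simp only [Pi.sub_apply, Pi.add_apply, sub_eq_add_neg, ZMod.neg_eq_self_mod_two]
    rw [hsub] at hmem
    have h1 := hadd s t
    have h2 : (s ∩ t).card ≤ s.card := card_le_card inter_subset_left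
    have h3 : (s ∩ t).card ≤ t.card := card_le_card inter_subset_right
    rcases hw _ hmem with h | h
    · left
      have e1 : s ∩ t = s := eq_of_subset_of_card_le inter_subset_left (by omega)
      have e2 : s ∩ t = t := eq_of_subset_of_card_le inter_subset_right (by omega)
      rw [← e1]; exact e2
    · right
      refine ⟨by omega, disjoint_iff_inter_eq_empty.mpr (card_eq_zero.mp (by omega))⟩
  let small : Finset (Finset α) := univ.filter fun s => s.card ≤ 3
  let four : Finset (Finset α) := (univ : Finset α).powersetCard 4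
  have hinj : Set.InjOn f small := by
    intro s hs t ht he
    simp only [small, coe_filter, mem_univ, true_and, Set.mem_ofPred_eq] at hs ht
    rcases hsame s t he (by omega) with h | ⟨h, -⟩
    · exact h
    · omega
  have hsmall : small.card = 2325 := by
    have : small = (range 4).biUnion fun i => (univ : Finset α).powersetCard i := by
      ext s
      simp only [small, mem_filter, mem_univ, true_and, Finset.mem_biUnion, mem_range,
        mem_powersetCard, subset_univ, true_and]
      constructor
      · intro h; exact ⟨s.card, by omega, rfl⟩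
      · rintro ⟨i, hi, rfl⟩; omega
    rw [this, card_biUnion]
    · simp only [card_powersetCard, card_univ, hα]
      decide +kernel
    · intro i _ j _ hij
      rw [Function.onFun, disjoint_left]
      intro s hi hj
      exact hij ((mem_powersetCard.mp hi).2.symm.trans (mem_powersetCard.mp hj).2)
  have hdisj : Disjoint (small.image f) (four.image f) := by
    rw [disjoint_left]
    intro q hq hq'
    obtain ⟨s, hs, rfl⟩ := mem_image.mp hq
    obtain ⟨t, ht, he⟩ := mem_image.mp hq'
    simp only [small, mem_filter, mem_univ, true_and] at hs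
    simp only [four, mem_powersetCard] at ht
    rcases hsame t s he (by omega) with h | ⟨h, -⟩
    · subst h; omega
    · omega
  have hfib : ∀ q ∈ four.image f, (four.filter fun s => f s = q).card ≤ 6 := by
    intro q _
    let S := four.filter fun s => f s = q
    have hd : (S : Set (Finset α)).PairwiseDisjoint id := by
      intro s hs t ht hne
      simp only [S, four, coe_filter, mem_powersetCard, Set.mem_ofPred_eq] at hs ht
      rcases hsame s t (hs.2.trans ht.2.symm) (by omega) with h | ⟨-, h⟩
      · exact absurd h hne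
      · exact h
    have h4 : ∀ s ∈ S, (id s).card = 4 := fun s hs => by
      simp only [S, four, mem_filter, mem_powersetCard] at hs
      exact hs.1.2
    have := card_le_univ (S.biUnion id)
    rw [card_biUnion hd, sum_congr rfl h4, sum_const, smul_eq_mul, hα] at this
    show S.card ≤ 6
    omega
  have hfour : 1771 ≤ (four.image f).card := by
    have h1 := card_le_mul_card_image four 6 hfib
    have h2 : four.card = 10626 := by
      rw [card_powersetCard, card_univ, hα]; decide +kernel
    omega
  have huniv : small.image f ∪ four.image f = univ := by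
    refine eq_univ_of_card _ ?_
    have h1 : (small.image f).card = 2325 := by rw [card_image_of_injOn hinj, hsmall]
    have h2 := card_union_of_disjoint hdisj
    have h3 := card_le_univ (small.image f ∪ four.image f)
    rw [hQ] at h3 ⊢
    omega
  have hv : (Submodule.Quotient.mk v : Q) ∈ small.image f ∪ four.image f := huniv ▸ mem_univ _
  have fin : ∀ s : Finset α, s.card ≤ 4 → f s = Submodule.Quotient.mk v →
      ∃ u : α → ZMod 2, (support₂ u).card ≤ 4 ∧ v + u ∈ C := by
    intro s hs he
    refine ⟨ofSet s, by rw [hsupp]; exact hs, ?_⟩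
    have hmem : ofSet s - v ∈ C := (Submodule.Quotient.eq C).mp he
    have : v + ofSet s = ofSet s - v := by
      funext a
      simp only [Pi.sub_apply, Pi.add_apply, sub_eq_add_neg, ZMod.neg_eq_self_mod_two]
      ring
    rw [this]; exact hmem
  rcases mem_union.mp hv with h | h <;> obtain ⟨s, hs, he⟩ := mem_image.mp h
  · simp only [small, mem_filter, mem_univ, true_and] at hs
    exact fin s (by omega) he
  · simp only [four, mem_powersetCard] at hs
    exact fin s (by omega) he

theorem steiner_of_code (C : Submodule (ZMod 2) (α → ZMod 2)) (hα : Fintype.card α = 24)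
    (hdim : Module.finrank (ZMod 2) C = 12) (h2 : ∀ w ∈ C, 2 ∣ (support₂ w).card)
    (hw : ∀ w ∈ C, (support₂ w).card = 0 ∨ 8 ≤ (support₂ w).card) :
    IsSteinerSystem 5 8 (wordsOfWeight (C : Set (α → ZMod 2)) 8) := by
  refine ⟨fun b hb => hb.2, fun s hs => ?_⟩
  obtain ⟨u, hu, hmem⟩ := support₂_smallRep C hα hdim hw (fun a => if a ∈ s then 1 else 0)
  have hsup : support₂ (fun a => if a ∈ s then (1 : ZMod 2) else 0) = s := by
    ext a; simp [support₂]
  let w := (fun a => if a ∈ s then (1 : ZMod 2) else 0) + u
  have hc := card_support₂_add (fun a => if a ∈ s then (1 : ZMod 2) else 0) u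
  rw [hsup, hs] at hc
  have hle : (s ∩ support₂ u).card ≤ (support₂ u).card := card_le_card inter_subset_right
  obtain ⟨k, hk⟩ := h2 _ hmem
  rcases hw _ hmem with h | h
  · omega
  · have h3 : (s ∩ support₂ u).card = 0 := by omega
    have h8 : (support₂ w).card = 8 := by show (support₂ (_ + u)).card = 8; omega
    refine ⟨support₂ w, ⟨⟨⟨w, hmem, rfl⟩, h8⟩, ?_⟩, ?_⟩
    · intro a ha
      simp only [w, support₂, mem_filter, mem_univ, true_and, Pi.add_apply, if_pos ha]
      have hau : a ∉ support₂ u := fun e =>
        eq_empty_iff_forall_notMem.mp (card_eq_zero.mp h3) a (mem_inter.mpr ⟨ha, e⟩)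
      simp only [support₂, mem_filter, mem_univ, true_and, not_not] at hau
      rw [hau]; decide
    · rintro b ⟨⟨⟨x, hx, rfl⟩, hx8⟩, hsb⟩
      have hsw : s ⊆ support₂ w := by
        intro a ha
        simp only [w, support₂, mem_filter, mem_univ, true_and, Pi.add_apply, if_pos ha]
        have hau : a ∉ support₂ u := fun e =>
          eq_empty_iff_forall_notMem.mp (card_eq_zero.mp h3) a (mem_inter.mpr ⟨ha, e⟩)
        simp only [support₂, mem_filter, mem_univ, true_and, not_not] at hau
        rw [hau]; decide
      have hc2 := card_support₂_add x w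
      have h5 : 5 ≤ (support₂ x ∩ support₂ w).card := hs ▸ card_le_card (subset_inter hsb hsw)
      rw [hx8, h8] at hc2
      have hsum : x + w = 0 := by
        rcases hw (x + w) (add_mem hx hmem) with e | e
        · exact hammingNorm_eq_zero.mp e
        · omega
      have : x = w := funext fun a => by
        have h := congrFun hsum a
        revert h
        rw [Pi.add_apply, Pi.zero_apply]
        rcases zmod2_cases (x a) with e | e <;> rcases zmod2_cases (w a) with e' | e' <;>
          rw [e, e'] <;> decide
      rw [this]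

/-- Uniqueness of the extended binary code: dimension 12, even weights, minimum weight 8. -/
theorem code_unique_even (C : Submodule (ZMod 2) (α → ZMod 2)) (hα : Fintype.card α = 24)
    (hdim : Module.finrank (ZMod 2) C = 12) (h2 : ∀ w ∈ C, 2 ∣ (support₂ w).card)
    (hw : ∀ w ∈ C, (support₂ w).card = 0 ∨ 8 ≤ (support₂ w).card) :
    ∃ e : GolayPt ≃ α, ∀ w : α → ZMod 2, (fun p => w (e p)) ∈ golayCode ↔ w ∈ C := by
  obtain ⟨e, he⟩ := exists_famImg_octads hα (steiner_of_code C hα hdim h2 hw)
  let T : (α → ZMod 2) ≃ₗ[ZMod 2] (GolayPt → ZMod 2) := LinearEquiv.funCongrLeft (ZMod 2) (ZMod 2) e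
  have hle : golayCode ≤ C.map T.toLinearMap := by
    rw [golayCode_eq_span, Submodule.span_le]
    rintro _ ⟨m, hm, rfl⟩
    obtain ⟨b, hb, rfl⟩ := List.mem_map.mp hm
    obtain ⟨hc, h8⟩ := basis_octads b hb
    have hmem : (setOf24 b.1).image e ∈ wordsOfWeight (C : Set (α → ZMod 2)) 8 := by
      rw [he]; exact ⟨_, setOf24_mem_octads hc h8, rfl⟩
    obtain ⟨⟨x, hx, hxs⟩, -⟩ := hmem
    refine ⟨x, hx, support₂_injective ?_⟩
    rw [support₂_wordOf]
    ext p
    have := congrArg (fun s => e p ∈ s) hxs
    simp only [e.injective.mem_finset_image, eq_iff_iff] at this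
    rw [← this]
    simp [support₂, T, LinearEquiv.funCongrLeft, LinearMap.funLeft]
  have heq : golayCode = C.map T.toLinearMap := Submodule.eq_of_le_of_finrank_eq hle (by
    rw [LinearEquiv.finrank_map_eq, hdim, finrank_golayCode])
  refine ⟨e, fun w => ?_⟩
  rw [heq]
  show T w ∈ C.map T.toLinearMap ↔ _
  constructor
  · rintro ⟨x, hx, hxe⟩
    rwa [← T.injective hxe]
  · exact fun h => ⟨w, h, rfl⟩

/-- Uniqueness of the extended binary code. -/
theorem code_unique (C : Submodule (ZMod 2) (α → ZMod 2)) (hα : Fintype.card α = 24)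
    (hdim : Module.finrank (ZMod 2) C = 12) (h4 : ∀ w ∈ C, 4 ∣ (support₂ w).card)
    (hno4 : ∀ w ∈ C, (support₂ w).card ≠ 4) :
    ∃ e : GolayPt ≃ α, ∀ w : α → ZMod 2, (fun p => w (e p)) ∈ golayCode ↔ w ∈ C := by
  refine code_unique_even C hα hdim (fun w hwC => ?_) fun w hwC => ?_
  · exact (dvd_mul_right 2 2).trans (h4 w hwC)
  · obtain ⟨k, hk⟩ := h4 w hwC
    have := hno4 w hwC
    omega

end Cfsg.Agent.Lib.Design
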