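import Cfsg.Agent.Lib.Design.Code24

/-!
# Tools for extending Steiner systems to the code of length 24
-/

namespace Cfsg.Agent.Lib.Design

open Cfsg Finset Cfsg.Agent.Lib.Compute

variable {γ : Type*} [Fintype γ]

/-- The dot product modulo 2. -/
def dotTwo : LinearMap.BilinForm (ZMod 2) (γ → ZMod 2) :=
  LinearMap.mk₂ (ZMod 2) (fun v w => ∑ i, v i * w i)
    (fun u v w => by simp [add_mul, Finset.sum_add_distrib])
    (fun c v w => by simp [mul_assoc, Finset.mul_sum])
    (fun u v w => by simp [mul_add, Finset.sum_add_distrib])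
    (fun c v w => by simp [mul_left_comm _ c, Finset.mul_sum])

theorem dotTwo_apply (v w : γ → ZMod 2) : dotTwo v w = ∑ i, v i * w i := rfl

theorem dotTwo_comm (v w : γ → ZMod 2) : dotTwo v w = dotTwo w v := by
  simp only [dotTwo_apply, mul_comm]

theorem dotTwo_isRefl : (dotTwo (γ := γ)).IsRefl := fun v w h => by
  rwa [dotTwo_comm]

theorem dotTwo_nondegenerate : (dotTwo (γ := γ)).Nondegenerate := by
  classical
  refine (dotTwo_isRefl.nondegenerate_iff_separatingLeft).mpr fun v hv => funext fun i => ?_
  have := hv (Pi.single i 1)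
  simpa [dotTwo_apply, Pi.single_apply] using this

theorem dotTwo_eq_card [DecidableEq γ] (v w : γ → ZMod 2) :
    dotTwo v w = ((support₂ v ∩ support₂ w).card : ZMod 2) := by
  have : support₂ v ∩ support₂ w = univ.filter fun i => v i * w i ≠ 0 := by
    ext i
    simp only [support₂, mem_inter, mem_filter, mem_univ, true_and]
    rcases zmod2_cases (v i) with h | h <;> rcases zmod2_cases (w i) with h' | h' <;> simp [h, h']
  rw [this, dotTwo_apply, natCast_card_filter]
  refine sum_congr rfl fun i _ => ?_
  rcases zmod2_cases (v i) with h | h <;> rcases zmod2_cases (w i) with h' | h' <;> simp [h, h']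

theorem dotTwo_self (v : γ → ZMod 2) : dotTwo v v = ((support₂ v).card : ZMod 2) := by
  classical
  rw [dotTwo_eq_card, inter_self]

/-- The words meeting every word of `W` evenly. -/
abbrev dualSpace (W : Submodule (ZMod 2) (γ → ZMod 2)) : Submodule (ZMod 2) (γ → ZMod 2) :=
  dotTwo.orthogonal W

theorem mem_dualSpace_iff {W : Submodule (ZMod 2) (γ → ZMod 2)} {v : γ → ZMod 2} :
    v ∈ dualSpace W ↔ ∀ w ∈ W, dotTwo w v = 0 :=
  LinearMap.BilinForm.mem_orthogonal_iff

theorem finrank_dualSpace (W : Submodule (ZMod 2) (γ → ZMod 2)) :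
    Module.finrank (ZMod 2) (dualSpace W) = Fintype.card γ - Module.finrank (ZMod 2) W := by
  rw [dualSpace, LinearMap.BilinForm.finrank_orthogonal dotTwo_nondegenerate,
    Module.finrank_fintype_fun_eq_card]

theorem dualSpace_dualSpace (W : Submodule (ZMod 2) (γ → ZMod 2)) :
    dualSpace (dualSpace W) = W :=
  LinearMap.BilinForm.orthogonal_orthogonal dotTwo_nondegenerate dotTwo_isRefl W

/-- The indicator word of a set. -/
def indWord [DecidableEq γ] (s : Finset γ) : γ → ZMod 2 := fun i => if i ∈ s then 1 else 0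

theorem support₂_indWord [DecidableEq γ] (s : Finset γ) : support₂ (indWord s) = s := by
  ext i; simp [support₂, indWord]

theorem indWord_support₂ [DecidableEq γ] (w : γ → ZMod 2) : indWord (support₂ w) = w := by
  funext i
  rcases zmod2_cases (w i) with h | h <;> simp [support₂, indWord, h]

/-- The span of the indicator words of a family. -/
def famSpan [DecidableEq γ] (F : Set (Finset γ)) : Submodule (ZMod 2) (γ → ZMod 2) :=
  Submodule.span (ZMod 2) (indWord '' F)

theorem mem_dual_famSpan [DecidableEq γ] {F : Set (Finset γ)} {v : γ → ZMod 2} :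
    v ∈ dualSpace (famSpan F) ↔ ∀ b ∈ F, Even (b ∩ support₂ v).card := by
  rw [mem_dualSpace_iff]
  constructor
  · intro h b hb
    have := h _ (Submodule.subset_span ⟨b, hb, rfl⟩)
    rwa [dotTwo_eq_card, support₂_indWord, ZMod.natCast_eq_zero_iff_even] at this
  · intro h w hw
    induction hw using Submodule.span_induction with
    | mem x hx =>
      obtain ⟨b, hb, rfl⟩ := hx
      rw [dotTwo_eq_card, support₂_indWord, ZMod.natCast_eq_zero_iff_even]
      exact h b hb
    | zero => simp
    | add x y _ _ hx hy => rw [map_add, LinearMap.add_apply, hx, hy, add_zero]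
    | smul c x _ hx => rw [map_smul, LinearMap.smul_apply, hx, smul_zero]

theorem famSpan_le_dual [DecidableEq γ] {F : Set (Finset γ)}
    (h : ∀ b ∈ F, ∀ c ∈ F, Even (b ∩ c).card) : famSpan F ≤ dualSpace (famSpan F) := by
  refine Submodule.span_le.mpr ?_
  rintro _ ⟨c, hc, rfl⟩
  rw [SetLike.mem_coe, mem_dual_famSpan]
  intro b hb
  rw [support₂_indWord]
  exact h b hb c hc

theorem four_dvd_famSpan [DecidableEq γ] {F : Set (Finset γ)}
    (h : ∀ b ∈ F, ∀ c ∈ F, Even (b ∩ c).card) (h4 : ∀ b ∈ F, 4 ∣ b.card) :
    ∀ w ∈ famSpan F, 4 ∣ (support₂ w).card := by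
  intro w hw
  induction hw using Submodule.span_induction with
  | mem x hx => obtain ⟨b, hb, rfl⟩ := hx; rw [support₂_indWord]; exact h4 b hb
  | zero => simp [support₂]
  | add x y hx hy h1 h2 =>
    have hc := card_support₂_add x y
    have he : Even (support₂ x ∩ support₂ y).card := by
      rw [← ZMod.natCast_eq_zero_iff_even, ← dotTwo_eq_card]
      exact mem_dualSpace_iff.mp (famSpan_le_dual h hy) x hx
    obtain ⟨a, ha⟩ := h1
    obtain ⟨b, hb⟩ := h2
    obtain ⟨q, hq⟩ := he
    omega
  | smul c x _ hx =>
    rcases zmod2_cases c with rfl | rfl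
    · simp [support₂]
    · rwa [one_smul]

/-- A code of minimum weight at least 8 in length 24 has dimension at most 12. -/
theorem finrank_le_of_minWeight (W : Submodule (ZMod 2) (γ → ZMod 2)) (hγ : Fintype.card γ = 24)
    (hw : ∀ w ∈ W, (support₂ w).card = 0 ∨ 8 ≤ (support₂ w).card) :
    Module.finrank (ZMod 2) W ≤ 12 := by
  classical
  by_contra h
  push Not at h
  let bW := Module.finBasis (ZMod 2) W
  let g : Fin 13 → (γ → ZMod 2) := fun i => (bW (Fin.castLE (by omega) i) : γ → ZMod 2)
  have hg : LinearIndependent (ZMod 2) g :=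
    (bW.linearIndependent.comp _ (Fin.castLE_injective _)).map' W.subtype W.ker_subtype
  let g' : Fin 12 → (γ → ZMod 2) := fun i => g (Fin.castSucc i)
  have hg' : LinearIndependent (ZMod 2) g' := hg.comp _ (Fin.castSucc_injective _)
  let V := Submodule.span (ZMod 2) (Set.range g')
  have hV : Module.finrank (ZMod 2) V = 12 := by
    rw [finrank_span_eq_card hg', Fintype.card_fin]
  have hVW : V ≤ W := Submodule.span_le.mpr (by rintro _ ⟨i, rfl⟩; exact (bW _).2)
  let v := g (Fin.last 12)
  have hvV : v ∉ V := by
    have hne : (Fin.last 12) ∉ Set.range (Fin.castSucc : Fin 12 → Fin 13) := by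
      rintro ⟨i, hi⟩
      exact absurd hi (Fin.castSucc_lt_last i).ne
    have := hg.notMem_span_image hne
    rwa [← Set.range_comp] at this
  obtain ⟨u, hu, hmem⟩ := support₂_smallRep V hγ hV (fun w hw' => hw w (hVW hw')) v
  have huW : u ∈ W := by
    have := W.sub_mem (hVW hmem) (bW (Fin.castLE (by omega) (Fin.last 12))).2
    rwa [show (bW (Fin.castLE (by omega) (Fin.last 12)) : γ → ZMod 2) = v from rfl,
      add_sub_cancel_left] at this
  rcases hw u huW with e | e
  · have : u = 0 := hammingNorm_eq_zero.mp e
    rw [this, add_zero] at hmem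
    exact hvV hmem
  · omega

/-! ### moments of a set meeting all blocks with one parity -/

variable {α : Type*} [Fintype α] [DecidableEq α] {B : Set (Finset α)} {t k : ℕ}

/-- Number of blocks meeting `s` in `i` points. -/
noncomputable def hitNum (B : Set (Finset α)) (s : Finset α) (i : ℕ) : ℕ :=
  ((blockFinset B).filter fun b => (s ∩ b).card = i).card

theorem hit_equation (hB : IsSteinerSystem t k B) (s : Finset α) {j m : ℕ}
    (hj : j ≤ t) (hk : (k - j).choose (t - j) ≠ 0)
    (hm : m * (k - j).choose (t - j) = (Fintype.card α - j).choose (t - j)) :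
    ∑ i ∈ range (s.card + 1), i.choose j * hitNum B s i = s.card.choose j * m := by
  have h1 : ∑ i ∈ range (s.card + 1), i.choose j * hitNum B s i
      = ∑ b ∈ blockFinset B, ((s ∩ b).powersetCard j).card := by
    rw [← sum_fiberwise_of_maps_to (g := fun b => (s ∩ b).card) (t := range (s.card + 1))]
    · refine sum_congr rfl fun i _ => ?_
      rw [sum_congr rfl (g := fun _ => i.choose j), sum_const, smul_eq_mul, mul_comm]
      · rfl
      · intro c hc
        rw [card_powersetCard, (mem_filter.mp hc).2]
    · intro c _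
      exact mem_range.mpr (Nat.lt_succ_of_le (card_le_card inter_subset_left))
  rw [h1]
  have hl : ∀ b, ((s ∩ b).powersetCard j).card = ((s.powersetCard j).filter fun u => u ⊆ b).card := by
    intro b
    congr 1
    ext u
    simp only [mem_powersetCard, mem_filter, subset_inter_iff]
    tauto
  simp only [hl, card_filter]
  rw [sum_comm, sum_congr rfl (g := fun _ => m), sum_const, card_powersetCard, smul_eq_mul]
  intro u hu
  rw [← card_filter]
  exact containing_eq hB (mem_powersetCard.mp hu).2 hj hk hm

theorem hitNum_parity {s : Finset α} {p : ℕ} (h : ∀ b ∈ B, (s ∩ b).card % 2 = p) {i : ℕ}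
    (hi : i % 2 ≠ p) : hitNum B s i = 0 := by
  rw [hitNum, card_eq_zero, filter_eq_empty_iff]
  intro b hb e
  exact hi (e ▸ h b (mem_blockFinset.mp hb))

end Cfsg.Agent.Lib.Design
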