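import Mathlib

/-!
Cocliques of five vertices in a strongly regular graph with parameters (15, 6, 1, 3):
two non-adjacent vertices lie in exactly one of them.
-/

set_option autoImplicit false

namespace Cfsg.Agent.Lib.Design.GQ22

open Finset

variable {Q : Type*} [Fintype Q] [DecidableEq Q] (R : Q → Q → Prop) [DecidableRel R]

/-- The neighbours of a vertex. -/
def nb (a : Q) : Finset Q := univ.filter fun b => R a b

/-- The parameters (15, 6, 1, 3). -/
structure Params : Prop where
  card : Fintype.card Q = 15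
  symm : ∀ a b, R a b → R b a
  irrefl : ∀ a, ¬ R a a
  deg : ∀ a, (nb R a).card = 6
  adj : ∀ a b, R a b → (nb R a ∩ nb R b).card = 1
  nadj : ∀ a b, a ≠ b → ¬ R a b → (nb R a ∩ nb R b).card = 3

variable {R}

theorem mem_nb {a b : Q} : b ∈ nb R a ↔ R a b := by simp [nb]

theorem common_unique (h : Params R) {a b c d : Q} (hab : R a b) (hac : R a c) (hbc : R b c)
    (had : R a d) (hbd : R b d) : c = d :=
  card_le_one.1 (h.adj a b hab).le c (mem_inter.2 ⟨mem_nb.2 hac, mem_nb.2 hbc⟩) d
    (mem_inter.2 ⟨mem_nb.2 had, mem_nb.2 hbd⟩)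

theorem nb_split (h : Params R) (r z : Q) (hrz : ¬ R r z) (hzr : r ≠ z) (v : Q) (hv : ¬ R r v)
    (hvr : v ≠ r) (hv' : r ≠ v) :
    3 + (((nb R z \ nb R r).filter fun u => R v u).card +
      (((univ.filter fun q => q ≠ r ∧ q ≠ z ∧ ¬ R r q ∧ ¬ R z q)).filter fun u => R v u).card) +
      (if R v z then 1 else 0) = 6 := by
  have e : nb R v = (nb R r ∩ nb R v) ∪ (((nb R z \ nb R r).filter fun u => R v u) ∪
      (((univ.filter fun q => q ≠ r ∧ q ≠ z ∧ ¬ R r q ∧ ¬ R z q)).filter fun u => R v u)) ∪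
      (if R v z then {z} else ∅) := by
    ext u
    have hne : R v u → u ≠ r := fun hu e => hv (h.symm _ _ (e ▸ hu))
    have := h.irrefl z
    split_ifs with hvz
    · simp only [mem_union, mem_inter, mem_filter, mem_sdiff, mem_nb, mem_univ, true_and, mem_singleton]
      by_cases huz : u = z
      · subst huz; tauto
      · tauto
    · simp only [mem_union, mem_inter, mem_filter, mem_sdiff, mem_nb, mem_univ, true_and, notMem_empty, or_false]
      by_cases huz : u = z
      · subst huz; tauto
      · tauto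
  have hc := h.deg v
  rw [e, card_union_of_disjoint, card_union_of_disjoint, card_union_of_disjoint, h.nadj r v hv' hv] at hc
  · split_ifs with hvz <;> simp [hvz] at hc ⊢ <;> omega
  · rw [disjoint_left]
    intro u hu hu'
    simp only [mem_filter, mem_sdiff, mem_nb, mem_univ, true_and] at hu hu'
    exact hu'.1.2.2.2 hu.1.1
  · rw [disjoint_left]
    intro u hu hu'
    simp only [mem_union, mem_filter, mem_sdiff, mem_nb, mem_univ, true_and, mem_inter] at hu hu'
    rcases hu' with h' | h'
    · exact h'.1.2 hu.1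
    · exact h'.1.2.2.1 hu.1
  · rw [disjoint_left]
    intro u hu hu'
    have hu'' : u = z := by
      split_ifs at hu' with hvz
      · exact mem_singleton.1 hu'
      · exact absurd hu' (notMem_empty u)
    subst hu''
    simp only [mem_union, mem_filter, mem_sdiff, mem_nb, mem_univ, true_and, mem_inter] at hu
    rcases hu with h' | h' | h'
    · exact hrz h'.1
    · exact h.irrefl u h'.1.1
    · exact h'.1.2.1 rfl

/-- A five-element coclique. -/
def IsFive (R : Q → Q → Prop) (s : Finset Q) : Prop :=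
  s.card = 5 ∧ ∀ a ∈ s, ∀ b ∈ s, ¬ R a b

set_option maxHeartbeats 1000000 in
theorem exists_unique_five (h : Params R) {r z : Q} (hne : r ≠ z) (hrz : ¬ R r z) :
    ∃! s : Finset Q, IsFive R s ∧ r ∈ s ∧ z ∈ s := by
  have hzr : ¬ R z r := fun e => hrz (h.symm _ _ e)
  set Pz := nb R r ∩ nb R z with hPz
  set N3 := nb R z \ nb R r with hN3
  set Qs := nb R r \ nb R z with hQs
  set S := univ.filter fun q => q ≠ r ∧ q ≠ z ∧ ¬ R r q ∧ ¬ R z q with hS
  have cPz : Pz.card = 3 := h.nadj r z hne hrz
  have cN3 : N3.card = 3 := by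
    have := card_sdiff_add_card_inter (nb R z) (nb R r)
    rw [inter_comm, ← hPz, cPz, h.deg] at this
    rw [hN3]; omega
  have cQs : Qs.card = 3 := by
    have := card_sdiff_add_card_inter (nb R r) (nb R z)
    rw [← hPz, cPz, h.deg] at this
    rw [hQs]; omega
  have memPz : ∀ {p}, p ∈ Pz ↔ R r p ∧ R z p := by simp [Pz, mem_nb]
  have memN3 : ∀ {p}, p ∈ N3 ↔ R z p ∧ ¬ R r p := by simp [N3, mem_nb]
  have memQs : ∀ {p}, p ∈ Qs ↔ R r p ∧ ¬ R z p := by simp [Qs, mem_nb]
  have memS : ∀ {p}, p ∈ S ↔ p ≠ r ∧ p ≠ z ∧ ¬ R r p ∧ ¬ R z p := by simp [S]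
  have cS : S.card = 4 := by
    have e : (univ : Finset Q) = S ∪ (nb R r ∪ nb R z) ∪ {r, z} := by
      ext u; simp only [mem_univ, mem_union, memS, mem_nb, mem_insert, mem_singleton, true_iff]; tauto
    have hc := congrArg card e
    rw [card_univ, h.card, card_union_of_disjoint, card_union_of_disjoint, card_pair hne,
      card_union, h.deg, h.deg, ← hPz, cPz] at hc
    · omega
    · rw [disjoint_left]; intro u hu hu'
      simp only [mem_union, mem_nb] at hu'
      rw [memS] at hu; tauto
    · rw [disjoint_left]; intro u hu hu'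
      simp only [mem_union, memS, mem_nb] at hu
      simp only [mem_insert, mem_singleton] at hu'
      rcases hu' with rfl | rfl
      · have := h.irrefl u; tauto
      · have := h.irrefl u; tauto
  -- each common neighbour of `r`, `z` continues to one further neighbour of `z`
  have hex : ∀ p ∈ Pz, ∃ n ∈ N3, R p n := by
    intro p hp
    obtain ⟨hrp, hzp⟩ := memPz.1 hp
    obtain ⟨n, hn⟩ := card_eq_one.1 (h.adj z p hzp)
    have hn' : n ∈ nb R z ∩ nb R p := hn ▸ mem_singleton_self n
    simp only [mem_inter, mem_nb] at hn'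
    refine ⟨n, memN3.2 ⟨hn'.1, fun hrn => ?_⟩, hn'.2⟩
    exact hne (common_unique h hn'.2 (h.symm _ _ hrp) (h.symm _ _ hrn) (h.symm _ _ hzp) (h.symm _ _ hn'.1))
  choose! f hfm hfR using hex
  have finj : ∀ p ∈ Pz, ∀ p' ∈ Pz, f p = f p' → p = p' := fun p hp p' hp' e =>
    common_unique h (memN3.1 (hfm p hp)).1 (memPz.1 hp).2 (h.symm _ _ (hfR p hp))
      (memPz.1 hp').2 (e ▸ h.symm _ _ (hfR p' hp'))
  have fsurj : ∀ n ∈ N3, ∃ p ∈ Pz, f p = n := fun n hn => by
    have e : Pz.image f = N3 := eq_of_subset_of_card_le (image_subset_iff.2 hfm)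
      (by rw [card_image_of_injOn finj, cPz, cN3])
    exact mem_image.1 (e.symm ▸ hn)
  have hN3ind : ∀ n ∈ N3, ∀ n' ∈ N3, ¬ R n n' := by
    intro n hn n' hn' hnn
    obtain ⟨p, hp, rfl⟩ := fsurj n hn
    have := common_unique h (memN3.1 hn).1 (memPz.1 hp).2 (h.symm _ _ (hfR p hp)) (memN3.1 hn').1 hnn
    exact (memN3.1 hn').2 (this ▸ (memPz.1 hp).1)
  have hns : ∀ n ∈ N3, (S.filter fun u => R n u).card = 2 := by
    intro n hn
    obtain ⟨hzn, hrn⟩ := memN3.1 hn
    have hnr : n ≠ r := fun e => hzr (e ▸ hzn)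
    have := nb_split h r z hrz hne n hrn hnr (Ne.symm hnr)
    rw [if_pos (h.symm _ _ hzn), ← hN3, ← hS, filter_false_of_mem (fun u hu => hN3ind n hn u hu), card_empty] at this
    omega
  -- traces on the private neighbours of `r`
  have htr : ∀ p ∈ Pz, ∃ q ∈ Qs, R p q ∧ Qs.filter (fun u => R (f p) u) = Qs.erase q := by
    intro p hp
    obtain ⟨hrp, hzp⟩ := memPz.1 hp
    obtain ⟨hzn, hrn⟩ := memN3.1 (hfm p hp)
    obtain ⟨q, hq⟩ := card_eq_one.1 (h.adj r p hrp)
    have hq' : q ∈ nb R r ∩ nb R p := hq ▸ mem_singleton_self q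
    simp only [mem_inter, mem_nb] at hq'
    have hzq : ¬ R z q := fun hzq => hne
      (common_unique h hq'.2 (h.symm _ _ hrp) (h.symm _ _ hq'.1) (h.symm _ _ hzp) (h.symm _ _ hzq))
    have hqQ : q ∈ Qs := memQs.2 ⟨hq'.1, hzq⟩
    refine ⟨q, hqQ, hq'.2, eq_of_subset_of_card_le (fun u hu => ?_) ?_⟩
    · rw [mem_filter] at hu
      refine mem_erase.2 ⟨fun e => ?_, hu.1⟩
      subst e
      exact hzr ((common_unique h hq'.2 (h.symm _ _ hrp) (h.symm _ _ hq'.1) (hfR p hp) (h.symm _ _ hu.2)).symm ▸ hzn)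
    · have h3 := h.nadj r (f p) (fun e => hzr (e ▸ hzn)) hrn
      have e : nb R r ∩ nb R (f p) = Qs.filter (fun u => R (f p) u) ∪ Pz.filter (fun u => R (f p) u) := by
        ext u; simp only [mem_inter, mem_nb, mem_union, mem_filter, memQs, memPz]; tauto
      have h1 : (Pz.filter fun u => R (f p) u).card ≤ 1 := by
        refine le_trans (card_le_card fun u hu => ?_) (h.adj z (f p) hzn).le
        simp only [mem_filter, memPz] at hu
        simp [mem_nb, hu]
      have h2 := card_union_le (Qs.filter (fun u => R (f p) u)) (Pz.filter fun u => R (f p) u)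
      rw [← e, h3] at h2
      rw [card_erase_of_mem hqQ, cQs]
      omega
  have hpair : ∀ n ∈ N3, ∀ n' ∈ N3, n ≠ n' → (S.filter fun u => R n u ∧ R n' u).card = 1 := by
    intro n hn n' hn' hnn
    obtain ⟨p, hp, rfl⟩ := fsurj n hn
    obtain ⟨p', hp', rfl⟩ := fsurj n' hn'
    obtain ⟨q, hq, hpq, eq⟩ := htr p hp
    obtain ⟨q', hq', hpq', eq'⟩ := htr p' hp'
    have hqq : q ≠ q' := fun e => hnn (congrArg f (common_unique h (memQs.1 hq).1 (memPz.1 hp).1
      (h.symm _ _ hpq) (memPz.1 hp').1 (e ▸ h.symm _ _ hpq')))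
    have hA : (Qs.filter fun u => R (f p) u ∧ R (f p') u).card = 1 := by
      have e0 : Qs.erase q ∩ Qs.erase q' = (Qs.erase q).erase q' := by
        ext t; simp only [mem_inter, mem_erase]; tauto
      rw [filter_and, eq, eq', e0, card_erase_of_mem (mem_erase.2 ⟨hqq.symm, hq'⟩), card_erase_of_mem hq, cQs]
    have hB : Pz.filter (fun u => R (f p) u ∧ R (f p') u) = ∅ := by
      refine filter_eq_empty_iff.2 fun u hu ⟨h1, h2⟩ => hnn ?_
      exact common_unique h (memPz.1 hu).2 (memN3.1 hn).1 (h.symm _ _ h1) (memN3.1 hn').1 (h.symm _ _ h2)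
    have e : nb R (f p) ∩ nb R (f p') = ((Qs.filter fun u => R (f p) u ∧ R (f p') u) ∪ {z}) ∪
        (S.filter fun u => R (f p) u ∧ R (f p') u) := by
      ext u
      simp only [mem_inter, mem_nb, mem_union, mem_filter, mem_singleton]
      constructor
      · rintro ⟨h1, h2⟩
        by_cases huz : u = z
        · tauto
        by_cases hru : R r u
        · by_cases hzu : R z u
          · have hu' : u ∈ Pz.filter (fun t => R (f p) t ∧ R (f p') t) := mem_filter.2 ⟨memPz.2 ⟨hru, hzu⟩, h1, h2⟩
            rw [hB] at hu'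
            exact absurd hu' (notMem_empty u)
          · exact Or.inl (Or.inl ⟨memQs.2 ⟨hru, hzu⟩, h1, h2⟩)
        · by_cases hzu : R z u
          · exact absurd h1 (hN3ind _ hn u (memN3.2 ⟨hzu, hru⟩))
          · refine Or.inr ⟨memS.2 ⟨fun e => ?_, huz, hru, hzu⟩, h1, h2⟩
            exact (memN3.1 hn).2 (h.symm _ _ (e ▸ h1))
      · rintro ((⟨-, h1⟩ | rfl) | ⟨-, h1⟩)
        · exact h1
        · exact ⟨h.symm _ _ (memN3.1 hn).1, h.symm _ _ (memN3.1 hn').1⟩
        · exact h1
    have hc := h.nadj _ _ hnn (hN3ind _ hn _ hn')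
    rw [e, card_union_of_disjoint, card_union_of_disjoint, hA, card_singleton] at hc
    · omega
    · simp only [disjoint_singleton_right, mem_filter, memQs]
      exact fun h' => hrz h'.1.1
    · rw [disjoint_left]
      intro u hu hu'
      simp only [mem_filter, memS] at hu'
      simp only [mem_union, mem_filter, memQs, mem_singleton] at hu
      rcases hu with hu | hu
      · exact hu'.1.2.2.1 hu.1.1
      · exact hu'.1.2.1 hu
  have htriple : ∀ w ∈ S, ∃ n ∈ N3, ¬ R w n := by
    intro w hw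
    by_contra hc
    push Not at hc
    obtain ⟨hwr, hwz, hrw, hzw⟩ := memS.1 hw
    have hsub : N3 ⊆ nb R z ∩ nb R w := fun u hu => mem_inter.2 ⟨mem_nb.2 (memN3.1 hu).1, mem_nb.2 (hc u hu)⟩
    have he := eq_of_subset_of_card_le hsub (by rw [cN3, h.nadj z w (Ne.symm hwz) hzw])
    have hQw : nb R r ∩ nb R w = Qs := by
      refine eq_of_subset_of_card_le (fun u hu => ?_) (by rw [cQs, h.nadj r w (Ne.symm hwr) hrw])
      simp only [mem_inter, mem_nb] at hu
      refine memQs.2 ⟨hu.1, fun hzu => ?_⟩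
      exact (memN3.1 (he.symm ▸ mem_inter.2 ⟨mem_nb.2 hzu, mem_nb.2 hu.2⟩)).2 hu.1
    obtain ⟨p, hp⟩ : Pz.Nonempty := card_pos.1 (by omega)
    obtain ⟨q, hq, -, eq⟩ := htr p hp
    have h2 : (Qs.erase q).card = 2 := by rw [card_erase_of_mem hq, cQs]
    obtain ⟨u, v, huv, e2⟩ := card_eq_two.1 h2
    have hu : u ∈ Qs.filter fun t => R (f p) t := by rw [eq, e2]; simp
    have hv : v ∈ Qs.filter fun t => R (f p) t := by rw [eq, e2]; simp
    rw [mem_filter, ← hQw] at hu hv
    simp only [mem_inter, mem_nb] at hu hv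
    exact huv (common_unique h (hc (f p) (hfm p hp)) hu.1.2 hu.2 hv.1.2 hv.2)
  obtain ⟨n₁, n₂, n₃, h12, h13, h23, e3⟩ := card_eq_three.1 cN3
  have m1 : n₁ ∈ N3 := by simp [e3]
  have m2 : n₂ ∈ N3 := by simp [e3]
  have m3 : n₃ ∈ N3 := by simp [e3]
  obtain ⟨a, ha⟩ := card_eq_one.1 (hpair n₁ m1 n₂ m2 h12)
  obtain ⟨b, hb⟩ := card_eq_one.1 (hpair n₁ m1 n₃ m3 h13)
  obtain ⟨c, hc⟩ := card_eq_one.1 (hpair n₂ m2 n₃ m3 h23)
  obtain ⟨haS, ha1, ha2⟩ : a ∈ S ∧ R n₁ a ∧ R n₂ a := by
    have := (ha.symm ▸ mem_singleton_self a : a ∈ S.filter _); simpa using this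
  obtain ⟨hbS, hb1, hb3⟩ : b ∈ S ∧ R n₁ b ∧ R n₃ b := by
    have := (hb.symm ▸ mem_singleton_self b : b ∈ S.filter _); simpa using this
  obtain ⟨hcS, hc2, hc3⟩ : c ∈ S ∧ R n₂ c ∧ R n₃ c := by
    have := (hc.symm ▸ mem_singleton_self c : c ∈ S.filter _); simpa using this
  have no3 : ∀ w ∈ S, ¬ (R n₁ w ∧ R n₂ w ∧ R n₃ w) := by
    rintro w hw ⟨g1, g2, g3⟩
    obtain ⟨n, hn, hwn⟩ := htriple w hw
    rw [e3] at hn
    simp only [mem_insert, mem_singleton] at hn
    rcases hn with rfl | rfl | rfl
    · exact hwn (h.symm _ _ g1)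
    · exact hwn (h.symm _ _ g2)
    · exact hwn (h.symm _ _ g3)
  have hab : a ≠ b := fun e => no3 a haS ⟨ha1, ha2, e ▸ hb3⟩
  have hac : a ≠ c := fun e => no3 a haS ⟨ha1, ha2, e ▸ hc3⟩
  have hbc : b ≠ c := fun e => no3 b hbS ⟨hb1, e ▸ hc2, hb3⟩
  have f1 : S.filter (fun u => R n₁ u) = {a, b} := (eq_of_subset_of_card_le
    (by simp [insert_subset_iff, haS, hbS, ha1, hb1])
    (by rw [hns n₁ m1, card_pair hab])).symm
  have f2 : S.filter (fun u => R n₂ u) = {a, c} := (eq_of_subset_of_card_le
    (by simp [insert_subset_iff, haS, hcS, ha2, hc2])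
    (by rw [hns n₂ m2, card_pair hac])).symm
  have f3 : S.filter (fun u => R n₃ u) = {b, c} := (eq_of_subset_of_card_le
    (by simp [insert_subset_iff, hbS, hcS, hb3, hc3])
    (by rw [hns n₃ m3, card_pair hbc])).symm
  have habcS : ({a, b, c} : Finset Q) ⊆ S := by simp [insert_subset_iff, haS, hbS, hcS]
  have habc : ({a, b, c} : Finset Q).card = 3 := card_eq_three.2 ⟨a, b, c, hab, hac, hbc, rfl⟩
  obtain ⟨w, hw⟩ : (S \ {a, b, c}).Nonempty := card_pos.1 (by rw [card_sdiff_of_subset habcS]; omega)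
  rw [mem_sdiff] at hw
  have hwne : w ≠ a ∧ w ≠ b ∧ w ≠ c := by simpa using hw.2
  have eS : S = insert w ({a, b, c} : Finset Q) := (eq_of_subset_of_card_le (insert_subset hw.1 habcS)
    (by rw [card_insert_of_notMem hw.2, habc, cS])).symm
  have hdeg : ∀ u ∈ S, (N3.filter fun n => R u n).card + (S.filter fun t => R u t).card = 3 := by
    intro u hu
    obtain ⟨h1, h2, h3, h4⟩ := memS.1 hu
    have := nb_split h r z hrz hne u h3 h1 (Ne.symm h1)
    rw [if_neg (fun e => h4 (h.symm _ _ e)), ← hN3, ← hS] at this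
    omega
  have hw0 : N3.filter (fun n => R w n) = ∅ := by
    refine filter_eq_empty_iff.2 fun n hn hwn => ?_
    have : w ∈ S.filter (fun u => R n u) := mem_filter.2 ⟨hw.1, h.symm _ _ hwn⟩
    rw [e3] at hn
    simp only [mem_insert, mem_singleton] at hn
    rcases hn with rfl | rfl | rfl
    · rw [f1, mem_insert, mem_singleton] at this; tauto
    · rw [f2, mem_insert, mem_singleton] at this; tauto
    · rw [f3, mem_insert, mem_singleton] at this; tauto
  have hwall : ∀ u ∈ ({a, b, c} : Finset Q), R w u := by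
    have hd := hdeg w hw.1
    rw [hw0, card_empty] at hd
    have e : S.filter (fun t => R w t) = {a, b, c} := eq_of_subset_of_card_le (fun u hu => by
      rw [mem_filter, eS, mem_insert] at hu
      rcases hu.1 with rfl | h'
      · exact absurd hu.2 (h.irrefl u)
      · exact h') (by omega)
    intro u hu
    exact (mem_filter.1 (e.symm ▸ hu)).2
  have hsingle : ∀ u ∈ ({a, b, c} : Finset Q), ∀ v ∈ ({a, b, c} : Finset Q), ¬ R u v := by
    intro u hu v hv huv
    have h2 : 2 ≤ (N3.filter fun n => R u n).card := by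
      simp only [mem_insert, mem_singleton] at hu
      rcases hu with rfl | rfl | rfl
      · refine le_trans (le_of_eq (card_pair h12).symm) (card_le_card ?_)
        simp [insert_subset_iff, m1, m2, h.symm _ _ ha1, h.symm _ _ ha2]
      · refine le_trans (le_of_eq (card_pair h13).symm) (card_le_card ?_)
        simp [insert_subset_iff, m1, m3, h.symm _ _ hb1, h.symm _ _ hb3]
      · refine le_trans (le_of_eq (card_pair h23).symm) (card_le_card ?_)
        simp [insert_subset_iff, m2, m3, h.symm _ _ hc2, h.symm _ _ hc3]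
    have huS := habcS hu
    have hd := hdeg u huS
    have h2' : ({w, v} : Finset Q) ⊆ S.filter fun t => R u t := by
      simp [insert_subset_iff, hw.1, habcS hv, huv, h.symm _ _ (hwall u hu)]
    have := card_le_card h2'
    rw [card_pair (show w ≠ v from fun e => hw.2 (e ▸ hv))] at this
    omega
  refine ⟨insert r (insert z {a, b, c}), ⟨⟨?_, ?_⟩, by simp, by simp⟩, ?_⟩
  · rw [card_insert_of_notMem, card_insert_of_notMem, habc]
    · exact fun e => (memS.1 (habcS e)).2.1 rfl
    · rw [mem_insert]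
      rintro (e | e)
      · exact hne e
      · exact (memS.1 (habcS e)).1 rfl
  · intro u hu v hv
    simp only [mem_insert, mem_singleton] at hu hv
    have key : ∀ t ∈ ({a, b, c} : Finset Q), ¬ R r t ∧ ¬ R z t ∧ ¬ R t r ∧ ¬ R t z := fun t ht => by
      obtain ⟨-, -, h3, h4⟩ := memS.1 (habcS ht)
      exact ⟨h3, h4, fun e => h3 (h.symm _ _ e), fun e => h4 (h.symm _ _ e)⟩
    have ka := key a (by simp)
    have kb := key b (by simp)
    have kc := key c (by simp)
    rcases hu with rfl | rfl | hu <;> rcases hv with rfl | rfl | hv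
    · exact h.irrefl _
    · exact hrz
    · rcases hv with rfl | rfl | rfl; exacts [ka.1, kb.1, kc.1]
    · exact hzr
    · exact h.irrefl _
    · rcases hv with rfl | rfl | rfl; exacts [ka.2.1, kb.2.1, kc.2.1]
    · rcases hu with rfl | rfl | rfl; exacts [ka.2.2.1, kb.2.2.1, kc.2.2.1]
    · rcases hu with rfl | rfl | rfl; exacts [ka.2.2.2, kb.2.2.2, kc.2.2.2]
    · exact hsingle u (by simpa using hu) v (by simpa using hv)
  · rintro s ⟨⟨hs5, hsind⟩, hrs, hzs⟩
    have hws : w ∉ s := by
      intro hws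
      have hsub : s ⊆ {r, z, w} := by
        intro u hu
        simp only [mem_insert, mem_singleton]
        by_contra hc'
        push Not at hc'
        have huS : u ∈ S := memS.2 ⟨hc'.1, hc'.2.1, hsind r hrs u hu, hsind z hzs u hu⟩
        rw [eS, mem_insert] at huS
        rcases huS with e | e
        · exact hc'.2.2 e
        · exact hsind w hws u hu (hwall u e)
      have := card_le_card hsub
      have := card_le_three (a := r) (b := z) (c := w)
      omega
    refine eq_of_subset_of_card_le (fun u hu => ?_) ?_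
    · simp only [mem_insert, mem_singleton]
      by_contra hc'
      push Not at hc'
      have huS : u ∈ S := memS.2 ⟨hc'.1, hc'.2.1, hsind r hrs u hu, hsind z hzs u hu⟩
      rw [eS, mem_insert] at huS
      rcases huS with e | e
      · exact hws (e ▸ hu)
      · simp only [mem_insert, mem_singleton] at e; tauto
    · rw [hs5]
      exact (card_insert_le _ _).trans (Nat.succ_le_succ ((card_insert_le _ _).trans (by omega)))

section count

variable (R)

/-- The five-element cocliques. -/
def fives : Finset (Finset Q) :=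
  (univ : Finset Q).powerset.filter fun s => s.card = 5 ∧ ∀ a ∈ s, ∀ b ∈ s, ¬ R a b

variable {R}

theorem mem_fives {s : Finset Q} : s ∈ fives R ↔ IsFive R s := by simp [fives, IsFive]

theorem card_fives_pair (h : Params R) {r z : Q} (hne : r ≠ z) (hrz : ¬ R r z) :
    ((fives R).filter fun s => r ∈ s ∧ z ∈ s).card = 1 := by
  obtain ⟨s, hs, huniq⟩ := exists_unique_five h hne hrz
  refine card_eq_one.2 ⟨s, ?_⟩
  ext t
  simp only [mem_filter, mem_fives, mem_singleton]
  exact ⟨fun ht => huniq t ht, fun e => e ▸ hs⟩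

theorem card_fives_through (h : Params R) (r : Q) : ((fives R).filter fun s => r ∈ s).card = 2 := by
  have key : ∑ s ∈ (fives R).filter (fun s => r ∈ s), (s.erase r).card = 8 := by
    have e : ∀ s ∈ (fives R).filter (fun s => r ∈ s),
        (s.erase r).card = ∑ z ∈ univ.filter (fun z => z ≠ r ∧ ¬ R r z), (if z ∈ s then 1 else 0) := by
      intro s hs
      rw [mem_filter, mem_fives] at hs
      rw [← card_filter]
      congr 1
      ext u
      simp only [mem_erase, mem_filter, mem_univ, true_and]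
      exact ⟨fun hu => ⟨⟨hu.1, hs.1.2 r hs.2 u hu.2⟩, hu.2⟩, fun hu => ⟨hu.1.1, hu.2⟩⟩
    rw [sum_congr rfl e, sum_comm, sum_congr rfl (g := fun _ => 1), sum_const, smul_eq_mul, mul_one]
    · have e2 : (univ : Finset Q) = insert r (nb R r ∪ univ.filter (fun z => z ≠ r ∧ ¬ R r z)) := by
        ext u; simp only [mem_univ, mem_insert, mem_union, mem_nb, mem_filter, true_and, true_iff]; tauto
      have hc := congrArg card e2
      rw [card_univ, h.card, card_insert_of_notMem, card_union_of_disjoint, h.deg] at hc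
      · omega
      · rw [disjoint_left]; intro u hu hu'; simp only [mem_nb] at hu; simp only [mem_filter] at hu'; exact hu'.2.2 hu
      · simp [mem_nb, h.irrefl r]
    · intro z hz
      simp only [mem_filter, mem_univ, true_and] at hz
      rw [← card_filter, filter_filter]
      exact card_fives_pair h hz.1.symm hz.2
  rw [sum_congr rfl (g := fun _ => 4), sum_const, smul_eq_mul] at key
  · omega
  · intro s hs
    rw [mem_filter, mem_fives] at hs
    rw [card_erase_of_mem hs.2, hs.1.1]

theorem card_fives (h : Params R) : (fives R).card = 6 := by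
  have key : ∑ s ∈ fives R, s.card = 30 := by
    have e : ∀ s ∈ fives R, s.card = ∑ r : Q, (if r ∈ s then 1 else 0) := fun s _ => by
      rw [← card_filter]; congr 1; ext; simp
    rw [sum_congr rfl e, sum_comm, sum_congr rfl (g := fun _ => 2), sum_const, card_univ, h.card]
    · rfl
    · intro r _
      rw [← card_filter]
      exact card_fives_through h r
  rw [sum_congr rfl (g := fun _ => 5) (fun s hs => (mem_fives.1 hs).1), sum_const, smul_eq_mul] at key
  omega

end count

end Cfsg.Agent.Lib.Design.GQ22
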