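import Cfsg.Agent.Lib.Design.Steiner

/-!
# The graphs on 77 and 100 vertices of an S(3,6,22)
-/

namespace Cfsg.Agent.Lib.Design

open Cfsg Finset

variable {α : Type*} [Fintype α] [DecidableEq α] {B : Set (Finset α)}

/-- Through a point off a block pass 6 blocks missing the block. -/
theorem card_through_missing (hα : Fintype.card α = 22) (hB : IsSteinerSystem 3 6 B) {c : Finset α}
    (hc : c ∈ B) {x : α} (hx : x ∉ c) :
    ((containing B {x}).filter fun d => Disjoint c d).card = 6 := by
  have h21 := containing_eq hB (card_singleton x) (by decide) (m := 21) (by decide)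
    (by rw [hα]; decide +kernel)
  have hsum : ∑ d ∈ containing B {x}, (c ∩ d).card = 6 * 5 := by
    simp only [← filter_mem_eq_inter, card_filter]
    rw [sum_comm, sum_congr rfl (g := fun _ => 5), sum_const, hB.1 c hc, smul_eq_mul]
    intro y hy
    rw [← card_filter]
    have hxy : x ≠ y := fun e => hx (e ▸ hy)
    rw [← containing_eq hB (card_pair hxy) (by decide) (m := 5) (by decide)
      (by rw [hα]; decide +kernel)]
    congr 1
    ext d
    simp only [mem_filter, mem_containing, singleton_subset_iff, insert_subset_iff, and_assoc]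
  have hval : ∑ d ∈ containing B {x}, (c ∩ d).card
      = ∑ d ∈ containing B {x}, if Disjoint c d then 0 else 2 := by
    refine sum_congr rfl fun d hd => ?_
    rw [mem_containing] at hd
    split_ifs with h
    · rw [disjoint_iff_inter_eq_empty.mp h, card_empty]
    · have hne : c ≠ d := fun e => hx (e ▸ singleton_subset_iff.mp hd.2)
      rcases inter_22 hα hB hc hd.1 hne with e | e
      · exact absurd (disjoint_iff_inter_eq_empty.mpr (card_eq_zero.mp e)) h
      · exact e
  rw [hval, sum_ite, sum_const_zero, zero_add, sum_const, smul_eq_mul] at hsum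
  have := card_filter_add_card_filter_not (s := containing B {x}) (fun d => Disjoint c d)
  omega

/-- The number of blocks missing two given blocks. -/
theorem card_missing_both (hα : Fintype.card α = 22) (hB : IsSteinerSystem 3 6 B) {b c : Finset α}
    (hb : b ∈ B) (hc : c ∈ B) (hbc : b ≠ c) :
    ((blockFinset B).filter fun d => Disjoint b d ∧ Disjoint c d).card
      = if Disjoint b c then 0 else 4 := by
  let D := (blockFinset B).filter fun d => Disjoint c d
  have hD : D.card = 16 := by
    rw [← (meetNum_22 hα hB hc).1, ← ncard_disjoint (B := B) c (by rw [hB.1 c hc]; decide),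
      ← Set.ncard_coe_finset]
    congr 1
    ext d
    simp [D]
  have hsum : ∑ d ∈ D, (b ∩ d).card = 6 * (b \ c).card := by
    simp only [← filter_mem_eq_inter, card_filter]
    rw [sum_comm]
    rw [← sdiff_union_inter b c, sum_union (disjoint_sdiff_inter b c)]
    have h0 : ∀ y ∈ b ∩ c, (∑ d ∈ D, if y ∈ d then 1 else 0) = 0 := by
      intro y hy
      refine sum_eq_zero fun d hd => if_neg fun h => ?_
      exact disjoint_left.mp (mem_filter.mp hd).2 (mem_inter.mp hy).2 h
    rw [sum_eq_zero h0, add_zero, sum_congr rfl (g := fun _ => 6), sum_const, smul_eq_mul,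
      mul_comm, sdiff_union_inter]
    intro y hy
    rw [← card_filter, ← card_through_missing hα hB hc (mem_sdiff.mp hy).2]
    congr 1
    ext d
    simp only [D, mem_filter, mem_blockFinset, mem_containing, singleton_subset_iff]
    tauto
  have hbd : ∀ d ∈ D, (b ∩ d).card = if Disjoint b d then 0 else if d = b then 6 else 2 := by
    intro d hd
    rw [mem_filter, mem_blockFinset] at hd
    split_ifs with h1 h2
    · rw [disjoint_iff_inter_eq_empty.mp h1, card_empty]
    · rw [h2, inter_self, hB.1 b hb]
    · rcases inter_22 hα hB hb hd.1 (Ne.symm h2) with e | e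
      · exact absurd (disjoint_iff_inter_eq_empty.mpr (card_eq_zero.mp e)) h1
      · exact e
  rw [sum_congr rfl hbd, sum_ite, sum_const_zero, zero_add, sum_ite, sum_const, sum_const,
    smul_eq_mul, smul_eq_mul] at hsum
  have hsplit := card_filter_add_card_filter_not (s := D) (fun d => Disjoint b d)
  have hsplit2 := card_filter_add_card_filter_not
    (s := D.filter fun d => ¬ Disjoint b d) (fun d => d = b)
  have hgoal : ((blockFinset B).filter fun d => Disjoint b d ∧ Disjoint c d)
      = D.filter fun d => Disjoint b d := by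
    ext d
    simp only [D, mem_filter]
    tauto
  rw [hgoal]
  have hb6 := hB.1 b hb
  have hbd' := card_sdiff_add_card_inter b c
  rcases inter_22 hα hB hb hc hbc with e | e
  · have hd : Disjoint b c := disjoint_iff_inter_eq_empty.mpr (card_eq_zero.mp e)
    have h1 : ((D.filter fun d => ¬ Disjoint b d).filter fun d => d = b).card = 1 := by
      rw [card_eq_one]
      refine ⟨b, ?_⟩
      ext d
      simp only [D, mem_filter, mem_blockFinset, mem_singleton]
      constructor
      · exact fun h => h.2
      · rintro rfl
        refine ⟨⟨⟨hb, hd.symm⟩, fun h => ?_⟩, rfl⟩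
        rw [disjoint_self] at h
        subst h
        simp at hb6
    rw [if_pos hd]
    omega
  · have hd : ¬ Disjoint b c := by
      rw [disjoint_iff_inter_eq_empty, ← card_eq_zero, e]; decide
    have h1 : ((D.filter fun d => ¬ Disjoint b d).filter fun d => d = b).card = 0 := by
      rw [card_eq_zero, filter_eq_empty_iff]
      intro d hd' h
      subst h
      exact hd (mem_filter.mp (mem_filter.mp hd').1).2.symm
    rw [if_neg hd]
    omega

theorem ncard_blocks (hα : Fintype.card α = 22) (hB : IsSteinerSystem 3 6 B) : B.ncard = 77 := by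
  have h := block_count hB
  rw [hα, show Nat.choose 6 3 = 20 from rfl,
    show Nat.choose 22 3 = 1540 by decide +kernel] at h
  omega

omit [DecidableEq α] [Fintype α] in
theorem blockGraph_adj (hne : ∀ b ∈ B, b.card ≠ 0) (b c : B) :
    (blockGraph B).Adj b c ↔ Disjoint (b : Finset α) (c : Finset α) := by
  simp only [blockGraph, SimpleGraph.fromRel_adj, disjoint_comm (a := (c : Finset α)), or_self,
    and_iff_right_iff_imp]
  rintro h rfl
  exact hne b b.2 (Finset.card_eq_zero.mpr (disjoint_self.mp h))

theorem ncard_subtype_eq (p : Finset α → Prop) [DecidablePred p] :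
    {b : B | p b}.ncard = ((blockFinset B).filter p).card := by
  rw [← Set.ncard_image_of_injective {b : B | p b} Subtype.val_injective, ← Set.ncard_coe_finset]
  congr 1
  ext d
  simp only [Set.mem_image, Set.mem_ofPred_eq, coe_filter, mem_blockFinset, Subtype.exists,
    exists_and_left, exists_prop, exists_eq_right_right]
  tauto

theorem blockGraph_srg (hα : Fintype.card α = 22) (hB : IsSteinerSystem 3 6 B) [Fintype B]
    [DecidableRel (blockGraph B).Adj] : (blockGraph B).IsSRGWith 77 16 0 4 := by
  have hne : ∀ b ∈ B, b.card ≠ 0 := fun b hb => by rw [hB.1 b hb]; decide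
  have hcn : ∀ b c : B, Fintype.card ((blockGraph B).commonNeighbors b c)
      = ((blockFinset B).filter fun d => Disjoint (b : Finset α) d ∧ Disjoint (c : Finset α) d).card := by
    intro b c
    rw [← Nat.card_eq_fintype_card, Nat.card_coe_set_eq, ← ncard_subtype_eq]
    congr 1
    ext d
    simp only [SimpleGraph.commonNeighbors, Set.mem_inter_iff, SimpleGraph.mem_neighborSet,
      blockGraph_adj hne, Set.mem_ofPred_eq]
  refine ⟨?_, fun b => ?_, fun b c h => ?_, fun b c hbc h => ?_⟩
  · rw [← Nat.card_eq_fintype_card, Nat.card_coe_set_eq, ncard_blocks hα hB]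
  · rw [← SimpleGraph.card_neighborSet_eq_degree, ← Nat.card_eq_fintype_card, Nat.card_coe_set_eq,
      ← (meetNum_22 hα hB b.2).1, ← ncard_disjoint (B := B) (b : Finset α) (hne b b.2),
      ← Set.ncard_image_of_injective ((blockGraph B).neighborSet b) Subtype.val_injective]
    congr 1
    ext d
    simp only [Set.mem_image, SimpleGraph.mem_neighborSet, blockGraph_adj hne, Set.mem_ofPred_eq,
      Subtype.exists, exists_and_left, exists_prop, exists_eq_right_right]
    tauto
  · rw [hcn, card_missing_both hα hB b.2 c.2 (fun e => h.ne (Subtype.ext e)),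
      if_pos ((blockGraph_adj hne b c).mp h)]
  · rw [hcn, card_missing_both hα hB b.2 c.2 (fun e => hbc (Subtype.ext e)),
      if_neg (fun e => h ((blockGraph_adj hne b c).mpr e))]

omit [DecidableEq α] in
theorem ncard_vertices (S : Set (Option (α ⊕ B))) [Decidable (none ∈ S)] :
    S.ncard = (if none ∈ S then 1 else 0) + {x : α | some (Sum.inl x) ∈ S}.ncard
      + {b : B | some (Sum.inr b) ∈ S}.ncard := by
  classical
  haveI : Fintype B := Fintype.ofFinite B
  simp only [Set.ncard_eq_toFinset_card', Set.toFinset_ofPred]
  rw [show S.toFinset = univ.filter (fun v => v ∈ S) by ext; simp]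
  simp only [card_filter, Fintype.sum_option, Fintype.sum_sum_type, add_assoc]
  congr 1
  split_ifs <;> rfl

theorem pbg_none_inl (x : α) : (pointBlockGraph B).Adj none (some (Sum.inl x)) := by
  simp [pointBlockGraph, pointBlockRel]

theorem pbg_none_inr (b : B) : ¬ (pointBlockGraph B).Adj none (some (Sum.inr b)) := by
  simp [pointBlockGraph, pointBlockRel]

theorem pbg_inl_inl (x y : α) : ¬ (pointBlockGraph B).Adj (some (Sum.inl x)) (some (Sum.inl y)) := by
  simp [pointBlockGraph, pointBlockRel]

theorem pbg_inl_inr (x : α) (b : B) :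
    (pointBlockGraph B).Adj (some (Sum.inl x)) (some (Sum.inr b)) ↔ x ∈ (b : Finset α) := by
  simp [pointBlockGraph, pointBlockRel]

theorem pbg_inr_inr (hne : ∀ b ∈ B, b.card ≠ 0) (b c : B) :
    (pointBlockGraph B).Adj (some (Sum.inr b)) (some (Sum.inr c)) ↔
      Disjoint (b : Finset α) (c : Finset α) := by
  rw [← blockGraph_adj hne b c]
  simp [pointBlockGraph, pointBlockRel, blockGraph]

theorem pointBlockGraph_srg (hα : Fintype.card α = 22) (hB : IsSteinerSystem 3 6 B) [Fintype B]
    [DecidableRel (pointBlockGraph B).Adj] : (pointBlockGraph B).IsSRGWith 100 22 0 6 := by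
  classical
  have hne : ∀ b ∈ B, b.card ≠ 0 := fun b hb => by rw [hB.1 b hb]; decide
  have a1 : ∀ x, (pointBlockGraph B).Adj none (some (Sum.inl x)) := pbg_none_inl
  have a1' : ∀ x, (pointBlockGraph B).Adj (some (Sum.inl x)) none := fun x => (pbg_none_inl x).symm
  have a2 : ∀ b : B, ¬ (pointBlockGraph B).Adj none (some (Sum.inr b)) := pbg_none_inr
  have a2' : ∀ b : B, ¬ (pointBlockGraph B).Adj (some (Sum.inr b)) none := fun b h => pbg_none_inr b h.symm
  have a3 : ∀ x y, ¬ (pointBlockGraph B).Adj (some (Sum.inl x)) (some (Sum.inl y)) := pbg_inl_inl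
  have a4 := fun x b => pbg_inl_inr (B := B) x b
  have a4' : ∀ x b, (pointBlockGraph B).Adj (some (Sum.inr b)) (some (Sum.inl x)) ↔ x ∈ (b : Finset α) :=
    fun x b => ((pointBlockGraph B).adj_comm _ _).trans (pbg_inl_inr x b)
  have a5 := pbg_inr_inr hne
  have a0 : ¬ (pointBlockGraph B).Adj none none := (pointBlockGraph B).irrefl
  have c1 : ∀ x : α, {b : B | x ∈ (b : Finset α)}.ncard = 21 := fun x => by
    rw [ncard_subtype_eq (fun d => x ∈ d), ← containing_eq hB (card_singleton x) (by decide)
      (m := 21) (by decide) (by rw [hα]; decide +kernel)]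
    congr 1; ext d; simp [mem_containing]
  have c2 : ∀ b : B, {d : B | Disjoint (b : Finset α) (d : Finset α)}.ncard = 16 := fun b => by
    rw [ncard_subtype_eq (fun d => Disjoint (b : Finset α) d), ← (meetNum_22 hα hB b.2).1,
      ← ncard_disjoint (B := B) (b : Finset α) (hne b b.2), ← Set.ncard_coe_finset]
    congr 1; ext d; simp
  have c3 : ∀ b : B, {x : α | x ∈ (b : Finset α)}.ncard = 6 := fun b => by
    rw [show {x : α | x ∈ (b : Finset α)} = ((b : Finset α) : Set α) from rfl, Set.ncard_coe_finset,
      hB.1 b b.2]
  have c4 : ∀ x y : α, x ≠ y → {b : B | x ∈ (b : Finset α) ∧ y ∈ (b : Finset α)}.ncard = 5 :=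
    fun x y hxy => by
      rw [ncard_subtype_eq (fun d => x ∈ d ∧ y ∈ d), ← containing_eq hB (card_pair hxy) (by decide)
        (m := 5) (by decide) (by rw [hα]; decide +kernel)]
      congr 1; ext d; simp [mem_containing, insert_subset_iff]
  have c5 : ∀ (x : α) (b : B), x ∉ (b : Finset α) →
      {d : B | x ∈ (d : Finset α) ∧ Disjoint (b : Finset α) (d : Finset α)}.ncard = 6 :=
    fun x b hx => by
      rw [ncard_subtype_eq (fun d => x ∈ d ∧ Disjoint (b : Finset α) d),
        ← card_through_missing hα hB b.2 hx]
      congr 1; ext d; simp [mem_containing, and_assoc]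
  have c6 : ∀ b c : B, b ≠ c →
      {d : B | Disjoint (b : Finset α) (d : Finset α) ∧ Disjoint (c : Finset α) (d : Finset α)}.ncard
        = if Disjoint (b : Finset α) (c : Finset α) then 0 else 4 := fun b c hbc => by
    rw [ncard_subtype_eq (fun d => Disjoint (b : Finset α) d ∧ Disjoint (c : Finset α) d),
      card_missing_both hα hB b.2 c.2 (fun e => hbc (Subtype.ext e))]
  have hu : (Set.univ : Set α).ncard = 22 := by rw [Set.ncard_univ, Nat.card_eq_fintype_card, hα]
  have hcn : ∀ v w, Fintype.card ((pointBlockGraph B).commonNeighbors v w) =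
      ({u | (pointBlockGraph B).Adj v u ∧ (pointBlockGraph B).Adj w u} : Set (Option (α ⊕ B))).ncard := fun v w => by
    rw [← Nat.card_eq_fintype_card, Nat.card_coe_set_eq]; rfl
  refine ⟨?_, ?_, ?_, ?_⟩
  · rw [Fintype.card_option, Fintype.card_sum, hα, ← Nat.card_eq_fintype_card, Nat.card_coe_set_eq,
      ncard_blocks hα hB]
  · intro v
    rw [← SimpleGraph.card_neighborSet_eq_degree, ← Nat.card_eq_fintype_card, Nat.card_coe_set_eq,
      ncard_vertices]
    rcases v with _ | x | b
    · simp only [SimpleGraph.mem_neighborSet, a0, a1, a2, Set.setOf_true, Set.setOf_false,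
        if_false, hu, Set.ncard_empty]
    · simp only [SimpleGraph.mem_neighborSet, a1', a3, a4, Set.setOf_false, if_true,
        Set.ncard_empty, c1]
    · simp only [SimpleGraph.mem_neighborSet, a2', a4', a5, if_false, c2, c3]
  · intro v w h
    rw [hcn, ncard_vertices]
    rcases v with _ | x | b <;> rcases w with _ | y | c
    · exact absurd h a0
    · simp [a0, a1, a1', a2, a3]
    · exact absurd h (a2 _)
    · simp [a0, a1, a1', a2, a3]
    · exact absurd h (a3 _ _)
    · rw [a4] at h
      have : {d : B | x ∈ (d : Finset α) ∧ Disjoint (c : Finset α) (d : Finset α)} = ∅ := by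
        ext d
        simpa using fun hd hcd => disjoint_left.mp hcd h hd
      simp [a1', a2', a3, a4, a4', a5, this]
    · exact absurd h (a2' _)
    · rw [a4'] at h
      have : {d : B | Disjoint (b : Finset α) (d : Finset α) ∧ y ∈ (d : Finset α)} = ∅ := by
        ext d
        simpa using fun hbd hd => disjoint_left.mp hbd h hd
      simp [a1', a2', a3, a4, a4', a5, this]
    · have hbc : b ≠ c := fun e => h.ne (by rw [e])
      rw [a5] at h
      have : {x : α | x ∈ (b : Finset α) ∧ x ∈ (c : Finset α)} = ∅ := by
        ext x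
        simpa using fun hx hx' => disjoint_left.mp h hx hx'
      simp only [Set.mem_ofPred_eq, a2', a4', a5, and_self, if_false, this, Set.ncard_empty,
        c6 b c hbc, if_pos h]
  · intro v w hvw h
    rw [hcn, ncard_vertices]
    rcases v with _ | x | b <;> rcases w with _ | y | c
    · exact absurd rfl hvw
    · exact absurd (a1 _) h
    · simp only [Set.mem_ofPred_eq, a0, a1, a2, a2', a4', false_and, true_and, if_false,
        Set.setOf_false, Set.ncard_empty, c3]
    · exact absurd (a1' _) h
    · simp only [Set.mem_ofPred_eq, a1', a3, a4, and_self, false_and, if_true, Set.setOf_false,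
        Set.ncard_empty, c4 x y (fun e => hvw (by rw [e]))]
    · rw [a4] at h
      simp only [Set.mem_ofPred_eq, a1', a2', a3, a4, a4', a5, and_false, false_and, if_false,
        Set.setOf_false, Set.ncard_empty, c5 x c h]
    · simp only [Set.mem_ofPred_eq, a0, a1, a2, a2', a4', and_false, and_true, if_false,
        Set.setOf_false, Set.ncard_empty, c3]
    · rw [a4'] at h
      simp only [Set.mem_ofPred_eq, a1', a2', a3, a4, a4', a5, and_false, false_and, if_false,
        Set.setOf_false, Set.ncard_empty, and_comm (a := Disjoint (b : Finset α) _), c5 y b h]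
    · have hbc : b ≠ c := fun e => hvw (by rw [e])
      rw [a5] at h
      have h2 : {x : α | x ∈ (b : Finset α) ∧ x ∈ (c : Finset α)}.ncard = 2 := by
        rw [show {x : α | x ∈ (b : Finset α) ∧ x ∈ (c : Finset α)}
          = (((b : Finset α) ∩ (c : Finset α) : Finset α) : Set α) by ext x; simp,
          Set.ncard_coe_finset]
        rcases inter_22 hα hB b.2 c.2 (fun e => hbc (Subtype.ext e)) with e | e
        · exact absurd (disjoint_iff_inter_eq_empty.mpr (card_eq_zero.mp e)) h
        · exact e
      simp only [Set.mem_ofPred_eq, a2', a4', a5, and_self, if_false, h2, c6 b c hbc, if_neg h]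

end Cfsg.Agent.Lib.Design
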