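import Cfsg.Agent.Lib.Design.Unique23
import Cfsg.Agent.Lib.Design.Graphs22

/-!
# Uniqueness and automorphisms of S(3,6,22)
-/

namespace Cfsg.Agent.Lib.Design

open Cfsg Finset Cfsg.Agent.Lib.Compute
open scoped Pointwise

/-- The points other than the extra point and 0. -/
abbrev Pt22 : Type := {p : GolayPt // p ≠ none ∧ p ≠ some 0}

/-- The blocks of the standard S(3,6,22). -/
def blocks22 : Set (Finset Pt22) :=
  {b' | ∃ o ∈ octads, (none : GolayPt) ∈ o ∧ (some 0 : GolayPt) ∈ o ∧
    b' = Finset.subtype (fun a => a ≠ none ∧ a ≠ some 0) o}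

theorem card_Pt22 : Fintype.card Pt22 = 22 := by decide +kernel

theorem none_ne_zeroPt : (none : GolayPt) ≠ some 0 := Option.some_ne_none _ |>.symm

theorem steiner_blocks22 : IsSteinerSystem 3 6 blocks22 := by
  refine ⟨?_, fun s hs => ?_⟩
  · rintro _ ⟨o, ho, h1, h2, rfl⟩
    rw [card_subtype]
    have : o.filter (fun a => a ≠ none ∧ a ≠ some 0) = (o.erase none).erase (some 0) := by
      ext a; simp only [mem_filter, mem_erase]; tauto
    rw [this, card_erase_of_mem (mem_erase.mpr ⟨none_ne_zeroPt.symm, h2⟩),
      card_erase_of_mem h1, card_of_mem_octads ho]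
  · have hn : none ∉ s.map (Function.Embedding.subtype _) := by
      intro h; obtain ⟨q, -, hq⟩ := mem_map.mp h; exact q.2.1 hq
    have hz : (some 0 : GolayPt) ∉ s.map (Function.Embedding.subtype _) := by
      intro h; obtain ⟨q, -, hq⟩ := mem_map.mp h; exact q.2.2 hq
    let s' : Finset GolayPt := insert none (insert (some 0) (s.map (Function.Embedding.subtype _)))
    obtain ⟨o, ⟨ho, hsub⟩, huniq⟩ := isSteinerSystem_octads.2 s' (by
      rw [card_insert_of_notMem (by simp only [mem_insert, none_ne_zeroPt, hn, or_self, not_false_iff]),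
        card_insert_of_notMem hz, card_map, hs])
    refine ⟨Finset.subtype (fun a => a ≠ none ∧ a ≠ some 0) o, ⟨⟨o, ho, hsub (mem_insert_self _ _),
      hsub (mem_insert_of_mem (mem_insert_self _ _)), rfl⟩, ?_⟩, ?_⟩
    · intro q hq
      exact mem_subtype.mpr (hsub (mem_insert_of_mem (mem_insert_of_mem (mem_map_of_mem _ hq))))
    · rintro _ ⟨⟨o', ho', h1, h2, rfl⟩, hsc⟩
      rw [huniq o' ⟨ho', insert_subset h1 (insert_subset h2 fun a ha => ?_)⟩]
      obtain ⟨q, hq, rfl⟩ := mem_map.mp ha
      exact mem_subtype.mp (hsc hq)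

variable {α : Type*} [Fintype α] [DecidableEq α] {B : Set (Finset α)}

theorem parity_set_22 (hα : Fintype.card α = 22) (hB : IsSteinerSystem 3 6 B) {s : Finset α}
    (hs : s.card ≤ 7) {p : ℕ} (hp : p < 2) (h : ∀ b ∈ B, (s ∩ b).card % 2 = p) :
    (p = 0 ∧ (s.card = 0 ∨ (s.card = 6 ∧ s ∈ B))) ∨ (p = 1 ∧ s.card = 7) := by
  have e0 := hit_equation hB s (j := 0) (m := 77) (by decide) (by decide) (by rw [hα]; decide +kernel)
  have e1 := hit_equation hB s (j := 1) (m := 21) (by decide) (by decide) (by rw [hα]; decide +kernel)
  have e2 := hit_equation hB s (j := 2) (m := 5) (by decide) (by decide) (by rw [hα]; decide +kernel)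
  have e3 := hit_equation hB s (j := 3) (m := 1) (by decide) (by decide) (by rw [hα]; decide +kernel)
  have hz : ∀ i, i % 2 ≠ p → hitNum B s i = 0 := fun i hi => hitNum_parity h hi
  have z7 : hitNum B s 7 = 0 := by
    rw [hitNum, card_eq_zero, filter_eq_empty_iff]
    intro b hb e
    have h1 : (s ∩ b).card ≤ b.card := card_le_card inter_subset_right
    rw [hB.1 b (mem_blockFinset.mp hb)] at h1
    omega
  have h6 : s.card = 6 → hitNum B s 6 ≠ 0 → s ∈ B := by
    intro hc hne
    obtain ⟨b, hb⟩ := card_ne_zero.mp hne
    rw [mem_filter, mem_blockFinset] at hb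
    have e1 : s ∩ b = s := eq_of_subset_of_card_le inter_subset_left (by omega)
    have e2 : s ∩ b = b := eq_of_subset_of_card_le inter_subset_right (by rw [hB.1 b hb.1]; omega)
    rw [← e1, e2]
    exact hb.1
  interval_cases p
  · have z1 := hz 1 (by decide)
    have z3 := hz 3 (by decide)
    have z5 := hz 5 (by decide)
    rcases eq_or_ne s.card 6 with hc | hc
    · refine Or.inl ⟨rfl, Or.inr ⟨hc, h6 hc fun z6 => ?_⟩⟩
      rw [hc] at e0 e1 e2 e3
      simp [sum_range_succ, Nat.choose, z1, z3, z5, z6] at e0 e1 e2 e3
      omega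
    · generalize s.card = c at *
      interval_cases c <;> simp [sum_range_succ, Nat.choose, z1, z3, z5, z7] at e0 e1 e2 e3 hc ⊢ <;>
        omega
  · have z0 := hz 0 (by decide)
    have z2 := hz 2 (by decide)
    have z4 := hz 4 (by decide)
    have z6 := hz 6 (by decide)
    generalize s.card = c at *
    interval_cases c <;> simp [sum_range_succ, Nat.choose, z0, z2, z4, z6, z7] at e0 e1 e2 e3 ⊢ <;>
      omega

/-- A block with the two added points. -/
def extTwo (b : Finset α) : Finset (Option (Option α)) := insertNone (insertNone b)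

theorem card_extTwo_inter (b : Finset α) (S : Finset (Option (Option α))) :
    (extTwo b ∩ S).card = (b ∩ eraseNone (eraseNone S)).card
      + (if some none ∈ S then 1 else 0) + if none ∈ S then 1 else 0 := by
  rw [extTwo, card_insertNone_inter, card_insertNone_inter]
  simp [mem_eraseNone]

theorem card_extTwo (b : Finset α) : (extTwo b).card = b.card + 2 := by
  rw [extTwo, card_insertNone, card_insertNone]

/-- The pair of added points. -/
def infPair : Finset (Option (Option α)) := {none, some none}

/-- Every S(3,6,22) is the standard one. -/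
theorem exists_famImg_blocks22 (hα : Fintype.card α = 22) (hB : IsSteinerSystem 3 6 B) :
    ∃ h : Pt22 ≃ α, B = famImg h blocks22 := by
  classical
  let F : Set (Finset (Option (Option α))) := extTwo '' B
  let W := famSpan F
  let D := dualSpace W
  let u : Option (Option α) → ZMod 2 := indWord infPair
  have hγ : Fintype.card (Option (Option α)) = 24 := by
    rw [Fintype.card_option, Fintype.card_option, hα]
  have hu2 : (support₂ u).card = 2 := by
    simp only [u]
    rw [support₂_indWord, infPair, card_pair (by simp)]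
  have hF8 : ∀ c ∈ F, c.card = 8 := by
    rintro _ ⟨b, hb, rfl⟩; rw [card_extTwo, hB.1 b hb]
  have heven : ∀ c ∈ F, ∀ d ∈ F, Even (c ∩ d).card := by
    rintro _ ⟨b, hb, rfl⟩ _ ⟨c, hc, rfl⟩
    rw [card_extTwo_inter, extTwo, eraseNone_insertNone, eraseNone_insertNone,
      if_pos (none_mem_insertNone), if_pos (some_mem_insertNone.mpr none_mem_insertNone)]
    rcases eq_or_ne b c with rfl | hne
    · rw [inter_self, hB.1 b hb]; decide
    · rcases inter_22 hα hB hb hc hne with e | e <;> rw [e] <;> decide
  have h4 := four_dvd_famSpan heven (fun b hb => by rw [hF8 b hb]; decide)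
  have hWD : W ≤ D := famSpan_le_dual heven
  have huD : u ∈ D := by
    simp only [D, W, u]
    rw [mem_dual_famSpan]
    rintro _ ⟨b, -, rfl⟩
    rw [support₂_indWord, card_extTwo_inter,
      show eraseNone (eraseNone (infPair (α := α))) = ∅ by ext a; simp [infPair, mem_eraseNone],
      inter_empty, card_empty, if_pos (by simp [infPair]), if_pos (by simp [infPair])]
    decide
  have hsmall : ∀ v ∈ D, (support₂ v).card = 0 ∨ 8 ≤ (support₂ v).card ∨ v = u
      ∨ v + u ∈ W := by
    intro v hv
    simp only [D, W] at hv
    rw [mem_dual_famSpan] at hv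
    let S := support₂ v
    let T := eraseNone (eraseNone S)
    have hc1 : S.card = (eraseNone S).card + if none ∈ S then 1 else 0 := card_eq_eraseNone_add S
    have hc2 : (eraseNone S).card = T.card + if some none ∈ S then 1 else 0 := by
      rw [card_eq_eraseNone_add (eraseNone S)]
      simp [T, mem_eraseNone]
    have hb : ∀ b ∈ B, ((T ∩ b).card + (if some none ∈ S then 1 else 0)
        + if none ∈ S then 1 else 0) % 2 = 0 := fun b hb => by
      rw [← Nat.even_iff, inter_comm, ← card_extTwo_inter]
      exact hv _ ⟨b, hb, rfl⟩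
    by_cases h8 : 8 ≤ S.card
    · exact Or.inr (Or.inl h8)
    split_ifs at hc1 hc2 hb with hn hs hs
    · -- both added points
      rcases parity_set_22 hα hB (s := T) (by omega) (p := 0) (by decide)
        (fun b hb' => by have := hb b hb'; omega) with ⟨-, e | ⟨e, -⟩⟩ | ⟨e, -⟩
      · refine Or.inr (Or.inr (Or.inl (support₂_injective ?_)))
        show S = support₂ (indWord infPair)
        rw [support₂_indWord]
        refine (eq_of_subset_of_card_le (insert_subset hn (singleton_subset_iff.mpr hs)) ?_).symm
        show S.card ≤ ({none, some none} : Finset (Option (Option α))).card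
        rw [card_pair (by simp)]
        omega
      · omega
      · omega
    · rcases parity_set_22 hα hB (s := T) (by omega) (p := 1) (by decide)
        (fun b hb' => by have := hb b hb'; omega) with ⟨e, -⟩ | ⟨-, e⟩ <;> omega
    · rcases parity_set_22 hα hB (s := T) (by omega) (p := 1) (by decide)
        (fun b hb' => by have := hb b hb'; omega) with ⟨e, -⟩ | ⟨-, e⟩ <;> omega
    · rcases parity_set_22 hα hB (s := T) (by omega) (p := 0) (by decide)
        (fun b hb' => by have := hb b hb'; omega) with ⟨-, e | ⟨-, e⟩⟩ | ⟨e, -⟩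
      · exact Or.inl (show S.card = 0 by omega)
      · refine Or.inr (Or.inr (Or.inr ?_))
        have hext : v + u = indWord (extTwo T) := by
          funext i
          rcases i with _ | _ | a
          · have : v none = 0 := by simpa [S, support₂] using hn
            simp [u, indWord, infPair, extTwo, this]
          · have : v (some none) = 0 := by simpa [S, support₂] using hs
            simp [u, indWord, infPair, extTwo, this]
          · rcases zmod2_cases (v (some (some a))) with h | h <;>
              simp [u, indWord, infPair, extTwo, T, S, support₂, h]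
        rw [hext]
        exact Submodule.subset_span ⟨_, ⟨T, e, rfl⟩, rfl⟩
      · omega
  have huW : u ∉ W := fun h => by
    have := h4 u h
    rw [hu2] at this
    omega
  -- a word of the dual separating the two added points
  obtain ⟨g, hgD, hgu⟩ : ∃ g ∈ D, dotTwo g u = 1 := by
    by_contra hc
    push Not at hc
    refine huW ?_
    rw [← dualSpace_dualSpace W, mem_dualSpace_iff]
    exact fun w hw => (zmod2_cases _).resolve_right (hc w hw)
  have hgW : ∀ w ∈ W, dotTwo w g = 0 := fun w hw => mem_dualSpace_iff.mp hgD w hw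
  have huWorth : ∀ w ∈ W, dotTwo w u = 0 := fun w hw => mem_dualSpace_iff.mp huD w hw
  have huu : dotTwo u u = 0 := by rw [dotTwo_self, hu2]; rfl
  have hmin : ∀ E : Submodule (ZMod 2) (Option (Option α) → ZMod 2), E ≤ D → W ≤ E → u ∉ E →
      ∀ w ∈ E, (support₂ w).card = 0 ∨ 8 ≤ (support₂ w).card := by
    intro E hED hWE huE w hw
    rcases hsmall w (hED hw) with e | e | e | e
    · exact Or.inl e
    · exact Or.inr e
    · exact absurd (e ▸ hw) huE
    · refine absurd ?_ huE
      have := E.sub_mem (hWE e) hw
      rwa [add_sub_cancel_left] at this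
  have hD13 : Module.finrank (ZMod 2) D ≤ 13 := by
    let E := D ⊓ LinearMap.ker (dotTwo g)
    have hE := finrank_le_of_minWeight E hγ (hmin E inf_le_left
      (le_inf hWD fun w hw => by
        rw [LinearMap.mem_ker, dotTwo_comm]; exact hgW w hw)
      (fun h => by
        have := LinearMap.mem_ker.mp (Submodule.mem_inf.mp h).2
        rw [hgu] at this
        exact one_ne_zero this))
    have h1 := Submodule.finrank_sup_add_finrank_inf_eq D (LinearMap.ker (dotTwo g))
    have h2 := (dotTwo g).finrank_range_add_finrank_ker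
    have h3 := Submodule.finrank_le (D ⊔ LinearMap.ker (dotTwo g))
    have h4' := Submodule.finrank_le (LinearMap.range (dotTwo g))
    rw [Module.finrank_self] at h4'
    change Module.finrank (ZMod 2) ↥(D ⊓ LinearMap.ker (dotTwo g)) ≤ 12 at hE
    omega
  have hWu : Module.finrank (ZMod 2) W + 1 ≤ Module.finrank (ZMod 2) D := by
    have hlt : W < D := lt_of_le_of_ne hWD fun e => huW (e.symm ▸ huD)
    exact Submodule.finrank_lt_finrank_of_lt hlt
  have hdW : Module.finrank (ZMod 2) W = 11 ∧ Module.finrank (ZMod 2) D = 13 := by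
    have h1 : Module.finrank (ZMod 2) D = 24 - Module.finrank (ZMod 2) W := by
      rw [finrank_dualSpace, hγ]
    omega
  have hgnW : g ∉ W := fun h => by
    have := huWorth g h
    rw [hgu] at this
    exact one_ne_zero this
  have hugW : u ∉ W ⊔ Submodule.span (ZMod 2) {g} := fun h => by
    obtain ⟨w, hw, z, hz, he⟩ := Submodule.mem_sup.mp h
    obtain ⟨a, rfl⟩ := Submodule.mem_span_singleton.mp hz
    have h0 : dotTwo (w + a • g) u = 0 := by rw [he, huu]
    rw [map_add, LinearMap.add_apply, map_smul, LinearMap.smul_apply, huWorth w hw, hgu, zero_add,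
      smul_eq_mul, mul_one] at h0
    rw [h0, zero_smul, add_zero] at he
    exact huW (he ▸ hw)
  let C := W ⊔ Submodule.span (ZMod 2) {g}
  have hCD : C ≤ D := sup_le hWD ((Submodule.span_singleton_le_iff_mem _ _).mpr hgD)
  have hdC : Module.finrank (ZMod 2) C = 12 := by
    have hlt : W < C := left_lt_sup.mpr fun h => hgnW (h (Submodule.mem_span_singleton_self g))
    have h1 := Submodule.finrank_lt_finrank_of_lt hlt
    have hltD : C < D := lt_of_le_of_ne hCD fun e => hugW (show u ∈ C from e.symm ▸ huD)
    have h2 := Submodule.finrank_lt_finrank_of_lt hltD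
    omega
  have hgg : dotTwo g g = 0 := by
    by_contra hgg
    have hgg1 : dotTwo g g = 1 := (zmod2_cases _).resolve_left hgg
    let z : Option (Option α) → ZMod 2 := 1 + u
    have hone : ∀ x : Option (Option α) → ZMod 2, dotTwo 1 x = dotTwo x x := fun x => by
      simp only [dotTwo_apply, Pi.one_apply, one_mul]
      refine Finset.sum_congr rfl fun i _ => ?_
      rcases zmod2_cases (x i) with h | h <;> simp [h]
    have hzC : ∀ x ∈ C ⊔ Submodule.span (ZMod 2) {u}, dotTwo z x = 0 := by
      intro x hx
      obtain ⟨c, hc, y, hy, rfl⟩ := Submodule.mem_sup.mp hx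
      obtain ⟨w, hw, z', hz', rfl⟩ := Submodule.mem_sup.mp hc
      obtain ⟨a, rfl⟩ := Submodule.mem_span_singleton.mp hz'
      obtain ⟨b, rfl⟩ := Submodule.mem_span_singleton.mp hy
      have e1 : dotTwo z w = 0 := by
        rw [show z = 1 + u from rfl, map_add, LinearMap.add_apply, hone, dotTwo_self, dotTwo_comm u,
          huWorth w hw, add_zero, ZMod.natCast_eq_zero_iff_even]
        exact (even_iff_two_dvd).mpr ((dvd_mul_right 2 2).trans (h4 w hw))
      have e2 : dotTwo z g = 0 := by
        rw [show z = 1 + u from rfl, map_add, LinearMap.add_apply, hone, hgg1, dotTwo_comm u, hgu]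
        rfl
      have e3 : dotTwo z u = 0 := by
        rw [show z = 1 + u from rfl, map_add, LinearMap.add_apply, hone, huu, add_zero]
      simp only [map_add, map_smul, e1, e2, e3, smul_zero, add_zero]
    have hDeq : C ⊔ Submodule.span (ZMod 2) {u} = D := by
      refine Submodule.eq_of_le_of_finrank_le (sup_le hCD ((Submodule.span_singleton_le_iff_mem _ _).mpr huD)) ?_
      have hlt : C < C ⊔ Submodule.span (ZMod 2) {u} :=
        left_lt_sup.mpr fun h => hugW (h (Submodule.mem_span_singleton_self u))
      have := Submodule.finrank_lt_finrank_of_lt hlt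
      omega
    have hz : z ∈ W := by
      rw [← dualSpace_dualSpace W, mem_dualSpace_iff]
      intro x hx
      rw [dotTwo_comm]
      exact hzC x (hDeq.symm ▸ hx)
    obtain ⟨q, hq⟩ : 4 ∣ (support₂ (1 + u)).card := h4 z hz
    have hc := card_support₂_add (1 : Option (Option α) → ZMod 2) u
    have h1 : support₂ (1 : Option (Option α) → ZMod 2) = univ := by ext; simp [support₂]
    rw [h1, univ_inter, card_univ, hγ, hu2] at hc
    omega
  have hCeven : ∀ w ∈ C, 2 ∣ (support₂ w).card := by
    intro x hx
    obtain ⟨w, hw, z, hz, rfl⟩ := Submodule.mem_sup.mp hx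
    obtain ⟨a, rfl⟩ := Submodule.mem_span_singleton.mp hz
    rw [← even_iff_two_dvd, ← ZMod.natCast_eq_zero_iff_even, ← dotTwo_self]
    have hww : dotTwo w w = 0 := mem_dualSpace_iff.mp (hWD hw) w hw
    simp only [map_add, map_smul, LinearMap.add_apply, LinearMap.smul_apply, hww, hgW w hw, hgg,
      dotTwo_comm g w, smul_zero, add_zero]
  obtain ⟨e, he⟩ := code_unique_even C hγ hdC hCeven (hmin C hCD le_sup_left hugW)
  obtain ⟨k, hk1, hk2⟩ : ∃ k : M24, k • (none : GolayPt) = e.symm none
      ∧ k • (some 0 : GolayPt) = e.symm (some none) := by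
    have h2 : MulAction.IsMultiplyPretransitive M24 GolayPt 2 :=
      haveI := M24_multiplyPretransitive
      MulAction.isMultiplyPretransitive_of_le (n := 5) (by decide) (by
        rw [Nat.card_eq_fintype_card]; exact (by decide : 5 ≤ Fintype.card GolayPt))
    exact MulAction.is_two_pretransitive_iff.mp h2 none_ne_zeroPt
      (e.symm.injective.ne (by simp))
  let e' : GolayPt ≃ Option (Option α) := (k : Equiv.Perm GolayPt).trans e
  have h0 : e' none = none := by
    show e (k • (none : GolayPt)) = none
    rw [hk1, Equiv.apply_symm_apply]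
  have h1 : e' (some 0) = some none := by
    show e (k • (some 0 : GolayPt)) = some none
    rw [hk2, Equiv.apply_symm_apply]
  have hblock : ∀ b ∈ B, (extTwo b).image e'.symm ∈ octads := by
    intro b hb
    have hFb : extTwo b ∈ F := ⟨b, hb, rfl⟩
    have h1 : (extTwo b).image e.symm ∈ octads := by
      have hw := (he (indWord (extTwo b))).mpr
        (Submodule.mem_sup_left (Submodule.subset_span ⟨_, hFb, rfl⟩))
      refine ⟨⟨_, hw, ?_⟩, by rw [card_image_of_injective _ e.symm.injective, hF8 _ hFb]⟩
      ext p
      simp [support₂, indWord, Equiv.symm_apply_eq]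
    have h2 := smul_mem_octads (k⁻¹).2 h1
    rw [smul_finset_eq_image, image_image] at h2
    exact h2
  have hne : ∀ q : Pt22, ∃ a, e' (q : GolayPt) = some (some a) := by
    intro q
    rcases hq : e' (q : GolayPt) with _ | _ | a
    · exact absurd (e'.injective (hq.trans h0.symm)) q.2.1
    · exact absurd (e'.injective (hq.trans h1.symm)) q.2.2
    · exact ⟨a, rfl⟩
  choose hf hhf using hne
  have hfinj : Function.Injective hf := fun p q hpq => Subtype.ext (e'.injective (by
    rw [hhf p, hhf q, hpq]))
  let h : Pt22 ≃ α := Equiv.ofBijective hf ((Fintype.bijective_iff_injective_and_card hf).mpr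
    ⟨hfinj, by rw [card_Pt22, hα]⟩)
  refine ⟨h, ?_⟩
  have hinv : famImg h.symm B = blocks22 := by
    refine eq_famImg_of_maps h.symm.injective (fun b hb => ?_) ?_
    · refine ⟨_, hblock b hb, ?_, ?_, ?_⟩
      · exact mem_image.mpr ⟨none, none_mem_insertNone, by rw [Equiv.symm_apply_eq, h0]⟩
      · exact mem_image.mpr ⟨some none, some_mem_insertNone.mpr none_mem_insertNone,
          by rw [Equiv.symm_apply_eq, h1]⟩
      · ext q
        simp only [mem_image, mem_subtype]
        constructor
        · rintro ⟨a, ha, rfl⟩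
          refine ⟨some (some a), some_mem_insertNone.mpr (some_mem_insertNone.mpr ha), ?_⟩
          rw [Equiv.symm_apply_eq, hhf, show hf (h.symm a) = a from h.apply_symm_apply a]
        · rintro ⟨o, ho, hoe⟩
          rw [Equiv.symm_apply_eq, hhf] at hoe
          subst hoe
          exact ⟨hf q, some_mem_insertNone.mp (some_mem_insertNone.mp ho), h.symm_apply_apply q⟩
    · rw [ncard_blocks hα hB, ncard_blocks card_Pt22 steiner_blocks22]
  rw [← hinv, famImg_famImg, Equiv.self_comp_symm, famImg_id]

end Cfsg.Agent.Lib.Design
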