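import Cfsg.Agent.Lib.Design.HSGroup
import Cfsg.Agent.Lib.Design.Graphs22
import Cfsg.Agent.Lib.Design.Unique22
import Cfsg.Prelude.Def_Sporadic

/-!
# The certified group acts on the point-block graph of S(3,6,22)
-/

namespace Cfsg.Agent.Lib.Design

open Cfsg Finset Cfsg.Agent.Lib.Compute

/-- Adjacency from the table of rows. -/
def hsAdj (i j : ℕ) : Bool := (hsRows.getD i 0).testBit j

/-- The mask of a block vertex. -/
def hsB (i : ℕ) : ℕ := hsBlk.getD (i - 23) 0

/-- Two masks share no point other than the removed ones. -/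
def hsDisj (a b : ℕ) : Bool := (List.range' 1 22).all fun p => !(a &&& b).testBit p

/-- Adjacency of the graph, by shape of the two vertices. -/
def hsAdjSpec (i j : ℕ) : Bool :=
  if i = 0 then decide (1 ≤ j ∧ j < 23)
  else if i < 23 then
    if j = 0 then true else if j < 23 then false else (hsB j).testBit i
  else if j = 0 then false else if j < 23 then (hsB i).testBit j
  else decide (i ≠ j) && hsDisj (hsB i) (hsB j)

theorem hsRows_ok :
    ((List.range 100).all fun i => (List.range 100).all fun j => hsAdj i j == hsAdjSpec i j) = true := by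
  decide +kernel

theorem hsBlk_ok : hsBlk.Nodup ∧ hsBlk.length = 77 ∧
    ∀ m ∈ hsBlk, inCode m = true ∧ pop m = 8 ∧ m.testBit 23 = true ∧ m.testBit 0 = true ∧
      m < 16777216 := by
  decide +kernel

/-- One row is mapped to a row. -/
def rowMap (g r r' : ℕ) : Bool :=
  (List.range 100).all fun j => r'.testBit (app g j) == r.testBit j

theorem hsGens_ok : (hsCert0.gens.all fun g => genOk 100 g &&
    (List.range 100).all fun i => rowMap g.1 (hsRows.getD i 0) (hsRows.getD (app g.1 i) 0)) = true := by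
  decide +kernel

theorem hsB_spec {i : ℕ} (h1 : 23 ≤ i) (h2 : i < 100) :
    inCode (hsB i) = true ∧ pop (hsB i) = 8 ∧ (hsB i).testBit 23 = true ∧ (hsB i).testBit 0 = true ∧
      hsB i < 16777216 := by
  refine hsBlk_ok.2.2 _ ?_
  rw [hsB, List.getD_eq_getElem _ _ (by rw [hsBlk_ok.2.1]; omega)]
  exact List.getElem_mem _

/-- The point of a small number. -/
def hsPt (i : ℕ) (h0 : i ≠ 0) (h1 : i < 23) : Pt22 :=
  ⟨enc.symm ⟨i, by omega⟩,
    fun e => by
      have := congrArg (fun p => (enc p : ℕ)) e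
      simp only [Equiv.apply_symm_apply] at this
      rw [show ((enc none : Fin 24) : ℕ) = 23 from rfl] at this
      omega,
    fun e => by
      have := congrArg (fun p => (enc p : ℕ)) e
      simp only [Equiv.apply_symm_apply] at this
      rw [show ((enc (some 0) : Fin 24) : ℕ) = 0 from rfl] at this
      omega⟩

/-- The block of a large number. -/
noncomputable def hsBlock (i : ℕ) (h1 : 23 ≤ i) (h2 : i < 100) : blocks22 :=
  ⟨Finset.subtype (fun a => a ≠ none ∧ a ≠ some 0) (setOf24 (hsB i)),
    setOf24 (hsB i), setOf24_mem_octads (hsB_spec h1 h2).1 (hsB_spec h1 h2).2.1,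
    mem_setOf24.mpr (hsB_spec h1 h2).2.2.1, mem_setOf24.mpr (hsB_spec h1 h2).2.2.2.1, rfl⟩

/-- The vertices in the order of the table. -/
noncomputable def hsVert (i : Fin 100) : Option (Pt22 ⊕ blocks22) :=
  if h0 : (i : ℕ) = 0 then none
  else if h1 : (i : ℕ) < 23 then some (Sum.inl (hsPt i h0 h1))
  else some (Sum.inr (hsBlock i (not_lt.mp h1) i.isLt))

theorem enc_hsPt {i : ℕ} (h0 : i ≠ 0) (h1 : i < 23) :
    ((enc (hsPt i h0 h1 : GolayPt) : Fin 24) : ℕ) = i := by
  simp [hsPt]

theorem mem_hsBlock {p : Pt22} {i : ℕ} (h1 : 23 ≤ i) (h2 : i < 100) :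
    p ∈ (hsBlock i h1 h2 : Finset Pt22) ↔ (hsB i).testBit (enc (p : GolayPt)) = true := by
  simp only [hsBlock, mem_subtype, mem_setOf24]

theorem range_Pt22 (p : Pt22) : ((enc (p : GolayPt) : Fin 24) : ℕ) ∈ List.range' 1 22 := by
  have h24 := (enc (p : GolayPt)).isLt
  have h0 : ((enc (p : GolayPt) : Fin 24) : ℕ) ≠ 0 := fun e =>
    p.2.2 (enc.injective (Fin.ext (e.trans (rfl : ((enc (some 0) : Fin 24) : ℕ) = 0).symm)))
  have h23 : ((enc (p : GolayPt) : Fin 24) : ℕ) ≠ 23 := fun e =>
    p.2.1 (enc.injective (Fin.ext (e.trans (rfl : ((enc none : Fin 24) : ℕ) = 23).symm)))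
  exact List.mem_range'_1.mpr ⟨by omega, by omega⟩

theorem hsVert_injective : Function.Injective hsVert := by
  intro i j h
  unfold hsVert at h
  split_ifs at h with a b c d e f <;> (try simp only [reduceCtorEq, Option.some.injEq,
    Sum.inl.injEq, Sum.inr.injEq] at h)
  · exact Fin.ext (by omega)
  all_goals first
    | exact Fin.ext (by
        have := congrArg (fun p : Pt22 => ((enc (p : GolayPt) : Fin 24) : ℕ)) h
        simpa [enc_hsPt] using this)
    | skip
  have hi : 23 ≤ (i : ℕ) := by omega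
  have hj : 23 ≤ (j : ℕ) := by omega
  have hm : hsB i = hsB j := by
    refine setOf24_injOn (hsB_spec hi i.isLt).2.2.2.2 (hsB_spec hj j.isLt).2.2.2.2 ?_
    ext p
    by_cases hp : p ≠ none ∧ p ≠ some 0
    · have := congrArg (fun b : blocks22 => (⟨p, hp⟩ : Pt22) ∈ (b : Finset Pt22)) h
      simp only [mem_hsBlock, eq_iff_iff] at this
      rw [mem_setOf24, mem_setOf24]
      exact this
    · rw [not_and_or, not_not, not_not] at hp
      rcases hp with rfl | rfl
      · exact iff_of_true (mem_setOf24.mpr (hsB_spec hi i.isLt).2.2.1)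
          (mem_setOf24.mpr (hsB_spec hj j.isLt).2.2.1)
      · exact iff_of_true (mem_setOf24.mpr (hsB_spec hi i.isLt).2.2.2.1)
          (mem_setOf24.mpr (hsB_spec hj j.isLt).2.2.2.1)
  refine Fin.ext ?_
  have hl := hsBlk_ok.2.1
  have hk : (i : ℕ) - 23 < hsBlk.length := by omega
  have hk' : (j : ℕ) - 23 < hsBlk.length := by omega
  rw [hsB, hsB, List.getD_eq_getElem _ _ hk, List.getD_eq_getElem _ _ hk',
    hsBlk_ok.1.getElem_inj_iff] at hm
  omega

theorem hsDisj_iff {i j : ℕ} (hi : 23 ≤ i) (hi' : i < 100) (hj : 23 ≤ j) (hj' : j < 100) :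
    Disjoint (hsBlock i hi hi' : Finset Pt22) (hsBlock j hj hj' : Finset Pt22) ↔
      hsDisj (hsB i) (hsB j) = true := by
  simp only [disjoint_left, mem_hsBlock, hsDisj, List.all_eq_true, Bool.not_eq_eq_eq_not,
    Bool.not_true, Nat.testBit_land, Bool.and_eq_false_iff]
  constructor
  · intro h n hn
    rw [List.mem_range'_1] at hn
    by_contra hc
    rw [not_or, Bool.not_eq_false, Bool.not_eq_false] at hc
    have he := enc_hsPt (i := n) (by omega) (by omega)
    exact h (a := hsPt n (by omega) (by omega)) (by rw [he]; exact hc.1) (by rw [he]; exact hc.2)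
  · intro h p hp hp'
    rcases h _ (range_Pt22 p) with e | e
    · rw [e] at hp; exact Bool.false_ne_true hp
    · rw [e] at hp'; exact Bool.false_ne_true hp'

theorem hsVert_adj (i j : Fin 100) :
    (pointBlockGraph blocks22).Adj (hsVert i) (hsVert j) ↔ hsAdj i j = true := by
  have hne : ∀ b ∈ blocks22, b.card ≠ 0 := fun b hb => by rw [steiner_blocks22.1 b hb]; decide
  rw [beq_iff_eq.mp (List.all_eq_true.mp (List.all_eq_true.mp hsRows_ok i
    (List.mem_range.mpr i.isLt)) j (List.mem_range.mpr j.isLt))]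
  unfold hsVert hsAdjSpec
  by_cases hi0 : (i : ℕ) = 0
  · by_cases hj0 : (j : ℕ) = 0
    · simp [hi0, hj0]
    by_cases hj1 : (j : ℕ) < 23
    · simp [hi0, hj0, hj1, pbg_none_inl]; omega
    · simp [hi0, hj0, hj1, pbg_none_inr]
  by_cases hi1 : (i : ℕ) < 23
  · by_cases hj0 : (j : ℕ) = 0
    · simp [hi0, hi1, hj0, (pbg_none_inl _).symm]
    by_cases hj1 : (j : ℕ) < 23
    · simp [hi0, hi1, hj0, hj1, pbg_inl_inl]
    · simp [hi0, hi1, hj0, hj1, pbg_inl_inr, mem_hsBlock, enc_hsPt]
  by_cases hj0 : (j : ℕ) = 0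
  · simp only [dif_neg hi0, dif_neg hi1, dif_pos hj0, if_neg hi0, if_neg hi1, if_pos hj0,
      Bool.false_eq_true, iff_false]
    exact fun h => pbg_none_inr _ h.symm
  by_cases hj1 : (j : ℕ) < 23
  · simp only [dif_neg hi0, dif_neg hi1, dif_neg hj0, dif_pos hj1, if_neg hi0, if_neg hi1,
      if_neg hj0, if_pos hj1]
    rw [(pointBlockGraph blocks22).adj_comm, pbg_inl_inr, mem_hsBlock, enc_hsPt]
  · simp only [dif_neg hi0, dif_neg hi1, dif_neg hj0, dif_neg hj1, if_neg hi0, if_neg hi1,
      if_neg hj0, if_neg hj1, Bool.and_eq_true, decide_eq_true_eq]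
    constructor
    · intro h
      refine ⟨fun e => ?_, (hsDisj_iff _ _ _ _).mp ((pbg_inr_inr hne _ _).mp h)⟩
      exact h.ne (by simp [show i = j from Fin.ext e])
    · rintro ⟨-, h⟩
      exact (pbg_inr_inr hne _ _).mpr ((hsDisj_iff _ _ _ _).mpr h)

/-- A numbering of the vertices turns certified elements into graph automorphisms. -/
theorem exists_hs_aut {V : Type*} (Γ : SimpleGraph V) (e : Fin 100 ≃ V)
    (he : ∀ i j, Γ.Adj (e i) (e j) ↔ hsAdj i j = true) :
    ∃ H : Subgroup (Γ ≃g Γ), IsHS H := by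
  have hgen : ∀ σ ∈ HS100, ∀ i j : Fin 100, hsAdj (σ i : Fin 100) (σ j : Fin 100) = hsAdj i j := by
    intro σ hσ
    refine Subgroup.closure_induction (p := fun σ _ =>
      ∀ i j : Fin 100, hsAdj (σ i : Fin 100) (σ j : Fin 100) = hsAdj i j) ?_ (fun _ _ => rfl)
      (fun x y _ _ hx hy i j => by rw [Equiv.Perm.mul_apply, Equiv.Perm.mul_apply, hx, hy])
      (fun x _ hx i j => by
        have := hx (x⁻¹ i) (x⁻¹ j)
        simpa using this.symm) hσ
    rintro _ ⟨g, hg, rfl⟩ i j
    have h := List.all_eq_true.mp hsGens_ok g hg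
    rw [Bool.and_eq_true, List.all_eq_true] at h
    have hr := repr_toPerm_of_genOk h.1
    have h2 := h.2 i (List.mem_range.mpr i.isLt)
    simp only [rowMap, List.all_eq_true, List.mem_range, beq_iff_eq] at h2
    simp only [hsAdj, hr i, hr j]
    exact h2 j j.isLt
  let ψ : HS100 →* (Γ ≃g Γ) :=
    { toFun := fun σ =>
        { toEquiv := e.permCongr (σ : Equiv.Perm (Fin 100))
          map_rel_iff' := fun {u v} => by
            obtain ⟨i, rfl⟩ := e.surjective u
            obtain ⟨j, rfl⟩ := e.surjective v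
            simp only [Equiv.permCongr_apply, Equiv.symm_apply_apply, he, hgen _ σ.2] }
      map_one' := RelIso.ext fun v => by simp
      map_mul' := fun σ τ => RelIso.ext fun v => by simp }
  have hψ : Function.Injective ψ := fun σ τ h => Subtype.ext (Equiv.ext fun i => e.injective (by
    have := congrArg (fun f : Γ ≃g Γ => f (e i)) h
    simpa [ψ] using this))
  haveI := hs100_simple
  refine ⟨ψ.range, (MonoidHom.ofInjective hψ).symm.isSimpleGroup, ?_⟩
  rw [← Nat.card_congr (MonoidHom.ofInjective hψ).toEquiv, card_hs]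

/-- The graph of every S(3,6,22) admits a group of type HS. -/
theorem exists_hs {α : Type*} [Fintype α] [DecidableEq α] (hα : Fintype.card α = 22)
    {B : Set (Finset α)} (hB : IsSteinerSystem 3 6 B) :
    ∃ H : Subgroup (pointBlockGraph B ≃g pointBlockGraph B), IsHS H := by
  classical
  obtain ⟨h, rfl⟩ := exists_famImg_blocks22 hα hB
  haveI : Fintype blocks22 := Fintype.ofFinite _
  have hcard : Fintype.card (Fin 100) = Fintype.card (Option (Pt22 ⊕ blocks22)) := by
    rw [Fintype.card_option, Fintype.card_sum, card_Pt22, Fintype.card_fin,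
      ← Nat.card_eq_fintype_card, Nat.card_coe_set_eq, ncard_blocks card_Pt22 steiner_blocks22]
  let v : Fin 100 ≃ Option (Pt22 ⊕ blocks22) :=
    Equiv.ofBijective hsVert ((Fintype.bijective_iff_injective_and_card _).mpr ⟨hsVert_injective, hcard⟩)
  let b : blocks22 ≃ famImg h blocks22 :=
    Equiv.Set.image (fun s : Finset Pt22 => s.image h) blocks22 (Finset.image_injective h.injective)
  let m : Option (Pt22 ⊕ blocks22) ≃ Option (α ⊕ famImg h blocks22) :=
    (Equiv.sumCongr h b).optionCongr
  refine exists_hs_aut _ (v.trans m) fun i j => ?_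
  rw [← hsVert_adj]
  show (pointBlockGraph (famImg h blocks22)).Adj (m (hsVert i)) (m (hsVert j)) ↔ _
  have hb : ∀ s : blocks22, (b s : Finset α) = (s : Finset Pt22).image h := fun _ => rfl
  rcases hsVert i with _ | x | s <;> rcases hsVert j with _ | y | t <;>
    simp [pointBlockGraph, pointBlockRel, m, hb, Finset.disjoint_image h.injective,
      h.injective.mem_finset_image]

end Cfsg.Agent.Lib.Design
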