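import Cfsg.Agent.Lib.Compute.CertTools
import Cfsg.Agent.Lib.Design.HSData

/-!
# The certified group on 100 points is simple of order 44352000
-/

set_option maxRecDepth 100000

namespace Cfsg.Agent.Lib.Design

open Cfsg.Agent.Lib.Compute Equiv MulAction
open scoped Pointwise

/-- The stabiliser of the point 0. -/
def hsRest : List Lvl := [hsCert1, hsCert2, hsCert3, hsCert4, hsCert5]

theorem hsCert_eq : hsCert = hsCert0 :: hsRest := rfl

theorem hsCert_ok : chk 100 hsCert = true := by decide +kernel

theorem hsRest_ok : chk 100 hsRest = true := by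
  have h : chk 100 (hsCert0 :: hsRest) = true := hsCert_ok
  simp only [chk, Bool.and_eq_true] at h
  exact h.2

theorem card_hs : Nat.card (grp 100 hsCert) = 44352000 := by
  rw [card_grp hsCert_ok]; decide +kernel

theorem card_hsRest : Nat.card (grp 100 hsRest) = 443520 := by
  rw [card_grp hsRest_ok]; decide +kernel

theorem isSimpleGroup_hsRest : IsSimpleGroup (grp 100 hsRest) :=
  isSimpleGroup_grp_of_pElements (p := 11) (a := 1) (base := m22HSBase) (steps := m22HSSteps)
    (L := hsCert1) (L' := hsCert2) (rest := [hsCert3, hsCert4, hsCert5])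
    hsRest_ok (by norm_num) (by decide +kernel) (by decide +kernel) (by decide +kernel)
    (by decide +kernel) (by decide +kernel) (by decide +kernel) (by decide +kernel)
    (by decide +kernel) (by
      have h : ∀ b ∈ m22HSBase, ∃ js ∈ m22HSWit, memOk 100 hsRest b js = true := by decide +kernel
      intro b hb
      obtain ⟨js, -, hj⟩ := h b hb
      exact (mem_grp_of_memOk hsRest_ok hj).2)

theorem hsOrbit_full : (List.range 100).all (fun x => (orbit hsCert0).contains x) = true := by
  decide +kernel

theorem hsSub_points : ((List.range' 1 22).all fun x => (orbit hsCert1).contains x) = true := by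
  decide +kernel

theorem hsSub_blocks :
    ((List.range 77).all fun k => sift hsRest (hsSubWit.getD k []) 23 == 23 + k) = true := by
  decide +kernel

/-- The group. -/
noncomputable abbrev HS100 : Subgroup (Perm (Fin 100)) := grp 100 hsCert

instance hs100_transitive : IsPretransitive HS100 (Fin 100) := by
  have hb : hsCert0.base = 0 := by decide +kernel
  refine (isPretransitive_iff_base (0 : Fin 100)).mpr fun x => ?_
  obtain ⟨σ, hσ, he⟩ := (mem_orbit_iff (L := hsCert0) (rest := hsRest) hsCert_ok 0 x
    (by rw [hb]; rfl)).mpr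
    (List.contains_iff_mem.mp (List.all_eq_true.mp hsOrbit_full x (List.mem_range.mpr x.isLt)))
  exact ⟨⟨σ, hσ⟩, he⟩

theorem mem_hsRest (σ : Perm (Fin 100)) :
    σ ∈ grp 100 hsRest ↔ σ ∈ HS100 ∧ σ 0 = 0 :=
  mem_grp_rest_iff (L := hsCert0) (rest := hsRest) hsCert_ok 0 (by decide +kernel) σ

/-- The three suborbits. -/
def hsLab (x : ℕ) : ℕ := if x = 0 then 0 else if x < 23 then 1 else 2

/-- Representatives of the three suborbits. -/
def hsRep : ℕ → Fin 100
  | 0 => 0
  | 1 => 1
  | _ => 23

theorem hs_sub (x : Fin 100) : ∃ h ∈ grp 100 hsRest, h (hsRep (hsLab x)) = x := by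
  by_cases h0 : (x : ℕ) = 0
  · exact ⟨1, one_mem _, by rw [hsLab, if_pos h0]; exact Fin.ext h0.symm⟩
  by_cases h1 : (x : ℕ) < 23
  · have hm := List.all_eq_true.mp hsSub_points x (List.mem_range'_1.mpr ⟨by omega, by omega⟩)
    have hb : hsCert1.base = 1 := by decide +kernel
    obtain ⟨σ, hσ, he⟩ := (mem_orbit_iff (L := hsCert1) (rest := [hsCert2, hsCert3, hsCert4, hsCert5])
      hsRest_ok 1 x (by rw [hb]; rfl)).mpr (List.contains_iff_mem.mp hm)
    exact ⟨σ, hσ, by rw [hsLab, if_neg h0, if_pos h1]; exact he⟩
  · have hk := List.all_eq_true.mp hsSub_blocks ((x : ℕ) - 23) (List.mem_range.mpr (by omega))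
    rw [beq_iff_eq, show 23 + ((x : ℕ) - 23) = x by omega] at hk
    obtain ⟨hr, hh⟩ := sift_spec hsRest_ok (hsSubWit.getD ((x : ℕ) - 23) [])
    refine ⟨_, hh, ?_⟩
    rw [hsLab, if_neg h0, if_neg h1]
    exact Fin.ext ((hr (23 : Fin 100)).trans hk)

/-- A union of suborbits containing the first has 1 or 100 points, if its size divides 100. -/
theorem hs_block_sizes : ∀ m : Fin 8, Nat.testBit m.1 0 = true →
    (Finset.univ.filter fun x : Fin 100 => Nat.testBit m.1 (hsLab x) = true).card ∣ 100 →
    (Finset.univ.filter fun x : Fin 100 => Nat.testBit m.1 (hsLab x) = true).card = 1 ∨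
    (Finset.univ.filter fun x : Fin 100 => Nat.testBit m.1 (hsLab x) = true).card = 100 := by
  decide +kernel

theorem hs_mask_exists : ∀ f : Fin 3 → Bool, ∃ m : Fin 8, ∀ i : Fin 3, Nat.testBit m.1 i.1 = f i := by
  decide +kernel

theorem hs100_primitive : IsPreprimitive HS100 (Fin 100) := by
  classical
  refine IsPreprimitive.of_isTrivialBlock_base (0 : Fin 100) fun {B} h0B hB => ?_
  have key : ∀ x : Fin 100, x ∈ B ↔ hsRep (hsLab x) ∈ B := by
    intro x
    obtain ⟨h, hh, he⟩ := hs_sub x
    obtain ⟨hhG, hfix⟩ := (mem_hsRest h).mp hh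
    have hst : (⟨h, hhG⟩ : HS100) • B = B :=
      hB.stabilizer_le h0B (show (⟨h, hhG⟩ : HS100) • (0 : Fin 100) = 0 from hfix)
    conv_lhs => rw [← he, ← hst]
    exact Set.smul_mem_smul_set_iff (a := (⟨h, hhG⟩ : HS100))
  obtain ⟨m, hm⟩ := hs_mask_exists fun i => decide (hsRep i.1 ∈ B)
  have hlab : ∀ x : Fin 100, hsLab x < 3 := fun x => by unfold hsLab; split_ifs <;> decide
  have hmem : ∀ x : Fin 100, x ∈ B ↔ Nat.testBit m.1 (hsLab x) = true := by
    intro x
    rw [key, hm ⟨hsLab x, hlab x⟩]
    simp
  have hset : B = ↑(Finset.univ.filter fun x : Fin 100 => Nat.testBit m.1 (hsLab x) = true) := by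
    ext x; simp [hmem]
  have hdvd := hB.ncard_dvd_card ⟨0, h0B⟩
  rw [Nat.card_eq_fintype_card, Fintype.card_fin, hset, Set.ncard_coe_finset] at hdvd
  rcases hs_block_sizes m ((hmem 0).mp h0B) hdvd with h | h
  · left
    rw [hset]
    intro x hx y hy
    exact Finset.card_le_one.mp h.le x hx y hy
  · right
    rw [hset, Finset.eq_univ_of_card _ (h.trans (Fintype.card_fin 100).symm), Finset.coe_univ]

theorem hs100_simple : IsSimpleGroup HS100 := by
  haveI := hs100_primitive
  haveI : Nontrivial HS100 := Finite.one_lt_card_iff_nontrivial.mp (by rw [card_hs]; norm_num)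
  let a : Fin 100 := 0
  have hst : stabilizer HS100 a = (grp 100 hsRest).subgroupOf HS100 := by
    ext σ
    rw [mem_stabilizer_iff, Subgroup.mem_subgroupOf, mem_hsRest, and_iff_right σ.2]
    rfl
  have hs : IsSimpleGroup (stabilizer HS100 a) := by
    rw [hst]
    haveI := isSimpleGroup_hsRest
    exact (Subgroup.subgroupOfEquivOfLe fun σ hσ => ((mem_hsRest σ).mp hσ).1).isSimpleGroup
  refine ⟨fun N hN => ?_⟩
  rcases eq_or_ne N ⊥ with h | h
  · exact Or.inl h
  haveI := hN
  haveI := isPretransitive_of_normal_ne_bot (α := Fin 100) h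
  rcases hs.eq_bot_or_eq_top_of_normal (N.subgroupOf (stabilizer HS100 a)) inferInstance with hb | ht
  · exfalso
    have hN100 : Nat.card N = 100 := by
      have e : stabilizer N a = ⊥ := by
        rw [Subgroup.eq_bot_iff_forall]
        intro x hx
        have : (⟨(x : HS100), hx⟩ : stabilizer HS100 a) ∈ (⊥ : Subgroup _) :=
          hb ▸ Subgroup.mem_subgroupOf.mpr x.2
        exact Subtype.ext (congrArg Subtype.val (Subgroup.mem_bot.mp this) :)
      have h' := (stabilizer N a).card_mul_index
      rw [e, Subgroup.card_bot, one_mul, ← e, index_stabilizer_of_transitive,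
        Nat.card_eq_fintype_card, Fintype.card_fin] at h'
      exact h'.symm
    haveI : Fact (Nat.Prime 5) := ⟨by norm_num⟩
    obtain ⟨P⟩ := (inferInstance : Nonempty (Sylow 5 N))
    have hP : Nat.card P = 25 := by
      rw [P.card_eq_multiplicity, hN100]
      have : Nat.factorization 100 5 = 2 := by
        rw [show (100 : ℕ) = 4 * 5 ^ 2 by norm_num, Nat.factorization_mul (by norm_num) (by norm_num),
          Finsupp.add_apply, Nat.Prime.factorization_pow (by norm_num),
          Nat.factorization_eq_zero_of_not_dvd (by norm_num)]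
        simp
      rw [this]
      norm_num
    have h1 := card_sylow_modEq_one 5 N
    have h2 : Nat.card (Sylow 5 N) ∣ 4 := by
      have := P.card_dvd_index
      have h' := (P : Subgroup N).card_mul_index
      rw [show Nat.card (P : Subgroup N) = 25 from hP, hN100] at h'
      rwa [show (P : Subgroup N).index = 4 by omega] at this
    have h3 : Nat.card (Sylow 5 N) = 1 := by
      have hle := Nat.le_of_dvd (by norm_num) h2
      unfold Nat.ModEq at h1
      generalize Nat.card (Sylow 5 N) = s at h1 hle
      interval_cases s <;> omega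
    haveI : Subsingleton (Sylow 5 N) := (Nat.card_eq_one_iff_unique.mp h3).1
    haveI : (P : Subgroup N).Characteristic :=
      P.characteristic_of_normal (P.normal_of_subsingleton)
    haveI : ((P : Subgroup N).map N.subtype).Normal :=
      ConjAct.normal_of_characteristic_of_normal
    have hc : Nat.card ((P : Subgroup N).map N.subtype) = 25 := by
      rw [← hP]
      exact (Nat.card_congr ((P : Subgroup N).equivMapOfInjective _ N.subtype_injective).toEquiv).symm
    haveI := isPretransitive_of_normal_ne_bot (α := Fin 100)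
      (N := (P : Subgroup N).map N.subtype) (fun e => by rw [e, Subgroup.card_bot] at hc; norm_num at hc)
    have hd := card_dvd_card_of_isPretransitive (α := Fin 100) ((P : Subgroup N).map N.subtype)
    rw [hc, Nat.card_eq_fintype_card, Fintype.card_fin] at hd
    norm_num at hd
  · refine Or.inr (eq_top_iff.mpr fun g _ => ?_)
    obtain ⟨m, hm⟩ := exists_smul_eq N a (g • a)
    have hs : (m : HS100)⁻¹ * g ∈ stabilizer HS100 a := by
      rw [mem_stabilizer_iff, mul_smul, ← hm]
      exact inv_smul_smul (m : HS100) a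
    have : (⟨_, hs⟩ : stabilizer HS100 a) ∈ N.subgroupOf (stabilizer HS100 a) :=
      ht ▸ Subgroup.mem_top _
    simpa using N.mul_mem m.2 (Subgroup.mem_subgroupOf.mp this)

end Cfsg.Agent.Lib.Design
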