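import Cfsg.Agent.Lib.Compute.Leech
import Cfsg.Agent.Lib.Compute.M24
import Cfsg.Agent.Lib.Design.Code24

/-!
# Characterisation of the rank 24 lattice without roots

A frame of 24 orthogonal vectors of norm 8, congruent modulo twice the lattice, is found by
counting classes modulo 2; its inner products are coordinates in which the lattice is visible.
-/

set_option autoImplicit false
set_option maxRecDepth 4000

namespace Cfsg.Agent.Lib.LeechUnique

open Cfsg Cfsg.Agent.Lib.Compute Matrix

variable {B : Matrix (Fin 24) (Fin 24) ℤ}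

/-- The bilinear form. -/
def bil (B : Matrix (Fin 24) (Fin 24) ℤ) (x y : Fin 24 → ℤ) : ℤ := x ⬝ᵥ (B *ᵥ y)

theorem bil_add_right (x y z : Fin 24 → ℤ) : bil B x (y + z) = bil B x y + bil B x z := by
  simp only [bil, mulVec_add, dotProduct_add]

theorem bil_add_left (x y z : Fin 24 → ℤ) : bil B (x + y) z = bil B x z + bil B y z := by
  simp only [bil, add_dotProduct]

theorem bil_neg_right (x y : Fin 24 → ℤ) : bil B x (-y) = -bil B x y := by
  simp only [bil, mulVec_neg, dotProduct_neg]

theorem bil_neg_left (x y : Fin 24 → ℤ) : bil B (-x) y = -bil B x y := by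
  simp only [bil, neg_dotProduct]

theorem bil_sub_left (x y z : Fin 24 → ℤ) : bil B (x - y) z = bil B x z - bil B y z := by
  rw [sub_eq_add_neg, bil_add_left, bil_neg_left]; rfl

theorem bil_sub_right (x y z : Fin 24 → ℤ) : bil B x (y - z) = bil B x y - bil B x z := by
  rw [sub_eq_add_neg, bil_add_right, bil_neg_right]; rfl

theorem bil_comm (hB : B.IsSymm) (x y : Fin 24 → ℤ) : bil B x y = bil B y x := by
  rw [bil, bil, dotProduct_mulVec, ← mulVec_transpose, hB.eq, dotProduct_comm]

theorem bil_zero_right (x : Fin 24 → ℤ) : bil B x 0 = 0 := by simp [bil]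

/-- The hypotheses on the form. -/
structure Good (B : Matrix (Fin 24) (Fin 24) ℤ) : Prop where
  symm : B.IsSymm
  pos : ∀ x, x ≠ 0 → 0 < bil B x x
  even : ∀ x, (2 : ℤ) ∣ bil B x x
  noTwo : ∀ x, bil B x x ≠ 2

theorem Good.four_le (h : Good B) {x : Fin 24 → ℤ} (hx : x ≠ 0) : 4 ≤ bil B x x := by
  have := h.pos x hx
  obtain ⟨k, hk⟩ := h.even x
  have := h.noTwo x
  omega

/-- The class modulo two. -/
def cls (x : Fin 24 → ℤ) : Fin 24 → ZMod 2 := fun i => (x i : ZMod 2)

theorem exists_half_of_cls {x y : Fin 24 → ℤ} (h : cls x = cls y) : ∃ z, x = y + (z + z) := by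
  refine ⟨fun i => (x i - y i) / 2, funext fun i => ?_⟩
  have h2 : ((x i : ℤ) : ZMod 2) = ((y i : ℤ) : ZMod 2) := congrFun h i
  rw [ZMod.intCast_eq_intCast_iff' _ _ 2] at h2
  simp only [Pi.add_apply]
  omega

theorem cls_neg (x : Fin 24 → ℤ) : cls (-x) = cls x := by
  funext i
  simp [cls, ZMod.neg_eq_self_mod_two]

/-- Two short vectors in the same class are equal up to sign, or both of norm 8 and orthogonal. -/
theorem Good.short_class (h : Good B) {x y : Fin 24 → ℤ} (hx : bil B x x ≤ 8) (hy : bil B y y ≤ 8)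
    (hc : cls x = cls y) :
    x = y ∨ x = -y ∨ (bil B x x = 8 ∧ bil B y y = 8 ∧ bil B x y = 0) := by
  obtain ⟨z, hz⟩ := exists_half_of_cls hc
  by_cases h0 : z = 0
  · left; rw [hz, h0]; simp
  by_cases h1 : y + z = 0
  · right; left
    rw [hz, eq_neg_of_add_eq_zero_right h1]; abel
  right; right
  have hzy : bil B z y = bil B y z := bil_comm h.symm z y
  have a := h.four_le h0
  have b := h.four_le h1
  have e1 : bil B x x = bil B y y + 4 * bil B y z + 4 * bil B z z := by
    rw [hz]
    simp only [bil_add_left, bil_add_right, hzy]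
    ring
  have e2 : bil B x y = bil B y y + 2 * bil B y z := by
    rw [hz]
    simp only [bil_add_left, hzy]
    ring
  have e3 : bil B (y + z) (y + z) = bil B y y + 2 * bil B y z + bil B z z := by
    simp only [bil_add_left, bil_add_right, hzy]
    ring
  omega

/-- A frame: 24 orthogonal vectors of norm 8 in one class modulo two. -/
structure Frame (B : Matrix (Fin 24) (Fin 24) ℤ) (f : GolayPt → Fin 24 → ℤ) : Prop where
  norm : ∀ i, bil B (f i) (f i) = 8
  orth : ∀ i j, i ≠ j → bil B (f i) (f j) = 0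
  cong : ∀ i j, cls (f i) = cls (f j)

theorem exists_frame (h : Good B) (h4 : {x : Fin 24 → ℤ | bil B x x = 4}.ncard = 196560)
    (h6 : {x : Fin 24 → ℤ | bil B x x = 6}.ncard = 16773120)
    (h8 : {x : Fin 24 → ℤ | bil B x x = 8}.ncard = 398034000) :
    ∃ f : GolayPt → Fin 24 → ℤ, Frame B f := by
  classical
  have fin4 : {x : Fin 24 → ℤ | bil B x x = 4}.Finite := Set.finite_of_ncard_ne_zero (by omega)
  have fin6 : {x : Fin 24 → ℤ | bil B x x = 6}.Finite := Set.finite_of_ncard_ne_zero (by omega)
  have fin8 : {x : Fin 24 → ℤ | bil B x x = 8}.Finite := Set.finite_of_ncard_ne_zero (by omega)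
  obtain ⟨s4, hs4, hc4⟩ : ∃ s : Finset (Fin 24 → ℤ), (∀ x, x ∈ s ↔ bil B x x = 4) ∧ s.card = 196560 :=
    ⟨fin4.toFinset, fun x => by simp, by rw [← Set.ncard_eq_toFinset_card _ fin4]; exact h4⟩
  obtain ⟨s6, hs6, hc6⟩ : ∃ s : Finset (Fin 24 → ℤ), (∀ x, x ∈ s ↔ bil B x x = 6) ∧ s.card = 16773120 :=
    ⟨fin6.toFinset, fun x => by simp, by rw [← Set.ncard_eq_toFinset_card _ fin6]; exact h6⟩
  obtain ⟨s8, hs8, hc8⟩ : ∃ s : Finset (Fin 24 → ℤ), (∀ x, x ∈ s ↔ bil B x x = 8) ∧ s.card = 398034000 :=
    ⟨fin8.toFinset, fun x => by simp, by rw [← Set.ncard_eq_toFinset_card _ fin8]; exact h8⟩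
  have hpair : ∀ (s : Finset (Fin 24 → ℤ)) (k : ℤ), k < 8 → (∀ x, x ∈ s ↔ bil B x x = k) →
      s.card ≤ 2 * (s.image cls).card := by
    intro s k hk hs
    refine Finset.card_le_mul_card_image s 2 fun c hc => ?_
    obtain ⟨x, hx, rfl⟩ := Finset.mem_image.1 hc
    refine (Finset.card_le_card (t := {x, -x}) fun y hy => ?_).trans Finset.card_le_two
    rw [Finset.mem_filter] at hy
    have hxk := (hs x).1 hx
    have hyk := (hs y).1 hy.1
    rcases h.short_class (by omega) (by omega) hy.2 with e | e | ⟨e, -, -⟩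
    · simp [e]
    · simp [e]
    · omega
  have b4 := hpair s4 4 (by norm_num) hs4
  have b6 := hpair s6 6 (by norm_num) hs6
  have hdis : Disjoint (s4.image cls) (s6.image cls) := Finset.disjoint_left.2 fun c h4c h6c => by
    obtain ⟨x, hx, rfl⟩ := Finset.mem_image.1 h4c
    obtain ⟨y, hy, e⟩ := Finset.mem_image.1 h6c
    rw [hs4] at hx; rw [hs6] at hy
    rcases h.short_class (by omega) (by omega) e with e | e | ⟨e, -, -⟩
    · rw [e] at hy; omega
    · rw [e, bil_neg_left, bil_neg_right] at hy; omega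
    · omega
  have hnz : ∀ x : Fin 24 → ℤ, 0 < bil B x x → bil B x x ≤ 8 → cls x ≠ cls 0 := by
    intro x h1 h2 e
    rcases h.short_class h2 (by rw [bil_zero_right]; norm_num) e with e' | e' | ⟨-, e', -⟩
    · rw [e', bil_zero_right] at h1; omega
    · rw [e', neg_zero, bil_zero_right] at h1; omega
    · rw [bil_zero_right] at e'; omega
  set bad := insert (cls 0) (s4.image cls ∪ s6.image cls) with hbad
  have hbad_card : 1 + 98280 + 8386560 ≤ bad.card := by
    rw [hbad, Finset.card_insert_of_notMem, Finset.card_union_of_disjoint hdis]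
    · omega
    · rw [Finset.mem_union]
      rintro (hc | hc) <;> obtain ⟨x, hx, e⟩ := Finset.mem_image.1 hc
      · rw [hs4] at hx; exact hnz x (by omega) (by omega) e
      · rw [hs6] at hx; exact hnz x (by omega) (by omega) e
  have hmap : ∀ x ∈ s8, cls x ∈ badᶜ := by
    intro x hx
    rw [hs8] at hx
    rw [Finset.mem_compl, hbad, Finset.mem_insert, Finset.mem_union]
    rintro (e | hc | hc)
    · exact hnz x (by omega) (by omega) e
    · obtain ⟨y, hy, e⟩ := Finset.mem_image.1 hc
      rw [hs4] at hy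
      rcases h.short_class (by omega) (by omega) e with e | e | ⟨e, -, -⟩
      · rw [e] at hy; omega
      · rw [e, bil_neg_left, bil_neg_right] at hy; omega
      · omega
    · obtain ⟨y, hy, e⟩ := Finset.mem_image.1 hc
      rw [hs6] at hy
      rcases h.short_class (by omega) (by omega) e with e | e | ⟨e, -, -⟩
      · rw [e] at hy; omega
      · rw [e, bil_neg_left, bil_neg_right] at hy; omega
      · omega
  have hcompl : (badᶜ).card ≤ 8292375 := by
    rw [Finset.card_compl, Fintype.card_fun, ZMod.card, Fintype.card_fin]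
    omega
  obtain ⟨c, -, hfib⟩ := Finset.exists_lt_card_fiber_of_mul_lt_card_of_maps_to (n := 47) hmap (by omega)
  set F := s8.filter fun x => cls x = c with hF
  let P : (Fin 24 → ℤ) → Finset (Fin 24 → ℤ) := fun x => {x, -x}
  have hP : 24 ≤ (F.image P).card := by
    have : F.card ≤ 2 * (F.image P).card := by
      refine Finset.card_le_mul_card_image F 2 fun t ht => ?_
      obtain ⟨x, -, rfl⟩ := Finset.mem_image.1 ht
      refine (Finset.card_le_card (t := P x) fun y hy => ?_).trans Finset.card_le_two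
      rw [← (Finset.mem_filter.1 hy).2]
      exact Finset.mem_insert_self _ _
    omega
  have hsec : ∀ t : ↥(F.image P), ∃ x ∈ F, P x = t.1 := fun t => Finset.mem_image.1 t.2
  choose sec hsecF hsecP using hsec
  obtain ⟨emb⟩ : Nonempty (GolayPt ↪ ↥(F.image P)) :=
    Function.Embedding.nonempty_of_card_le (by
      rw [Fintype.card_coe]
      exact (show Fintype.card GolayPt = 24 from rfl).le.trans hP)
  have hmem : ∀ i, bil B (sec (emb i)) (sec (emb i)) = 8 ∧ cls (sec (emb i)) = c := fun i => by
    have h1 := Finset.mem_filter.1 (hsecF (emb i))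
    exact ⟨(hs8 _).1 h1.1, h1.2⟩
  refine ⟨fun i => sec (emb i), ⟨fun i => (hmem i).1, fun i j hij => ?_,
    fun i j => (hmem i).2.trans (hmem j).2.symm⟩⟩
  have hne : P (sec (emb i)) ≠ P (sec (emb j)) := fun e => hij (emb.injective (Subtype.ext (by
    rw [← hsecP (emb i), ← hsecP (emb j), e])))
  rcases h.short_class (le_of_eq (hmem i).1) (le_of_eq (hmem j).1) ((hmem i).2.trans (hmem j).2.symm) with
    e | e | ⟨-, -, e⟩
  · exact absurd (by rw [e]) hne
  · exact absurd (by
      show ({sec (emb i), -sec (emb i)} : Finset (Fin 24 → ℤ)) = {sec (emb j), -sec (emb j)}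
      rw [e, neg_neg, Finset.pair_comm]) hne
  · exact e

/-- Coordinates with respect to a frame. -/
def coord (B : Matrix (Fin 24) (Fin 24) ℤ) (f : GolayPt → Fin 24 → ℤ) : (Fin 24 → ℤ) →+ (GolayPt → ℤ) where
  toFun x := fun i => bil B (f i) x
  map_zero' := funext fun i => bil_zero_right _
  map_add' x y := funext fun i => bil_add_right _ x y

theorem coord_apply (f : GolayPt → Fin 24 → ℤ) (x : Fin 24 → ℤ) (i : GolayPt) :
    coord B f x i = bil B (f i) x := rfl

theorem Frame.sqNorm_coord {f : GolayPt → Fin 24 → ℤ} (h : Frame B f) (hg : Good B) (x : Fin 24 → ℤ) :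
    sqNorm (coord B f x) = 8 * bil B x x := by
  classical
  let M : Matrix (Fin 24) (Fin 24) ℚ := fun a b => (f (enc.symm a) b : ℚ)
  let Bq : Matrix (Fin 24) (Fin 24) ℚ := B.map ((↑) : ℤ → ℚ)
  have hb : ∀ u w : Fin 24 → ℤ, ((bil B u w : ℤ) : ℚ) = ∑ a, ∑ b, (u a : ℚ) * ((B a b : ℚ) * (w b : ℚ)) := by
    intro u w
    simp only [bil, dotProduct, mulVec, Finset.mul_sum]
    push_cast
    rfl
  have hMB : ∀ a p, (M * Bq) a p = ∑ q, (f (enc.symm a) q : ℚ) * ((B q p : ℤ) : ℚ) :=
    fun a p => Matrix.mul_apply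
  have hM : (M * Bq) * ((1 / 8 : ℚ) • Mᵀ) = 1 := by
    rw [Matrix.mul_smul]
    ext a c
    have e : ((M * Bq) * Mᵀ) a c = ((bil B (f (enc.symm a)) (f (enc.symm c)) : ℤ) : ℚ) := by
      rw [hb]
      rw [Matrix.mul_apply]
      simp only [hMB, Matrix.transpose_apply, Finset.sum_mul]
      rw [Finset.sum_comm]
      refine Finset.sum_congr rfl fun p _ => Finset.sum_congr rfl fun q _ => ?_
      show _ * (f (enc.symm c) q : ℚ) = _
      ring
    rw [Matrix.smul_apply, e, smul_eq_mul]
    by_cases hac : a = c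
    · subst hac; rw [h.norm, Matrix.one_apply_eq]; norm_num
    · rw [h.orth _ _ fun e' => hac (enc.symm.injective e'), Matrix.one_apply_ne hac]; norm_num
  have hM' := mul_eq_one_comm.1 hM
  rw [Matrix.smul_mul] at hM'
  let xq : Fin 24 → ℚ := fun a => (x a : ℚ)
  let X : Fin 24 → ℚ := (M * Bq) *ᵥ xq
  have hX : ∀ a, X a = ((coord B f x (enc.symm a) : ℤ) : ℚ) := by
    intro a
    rw [coord_apply, hb]
    show ∑ p, (M * Bq) a p * xq p = _
    simp only [hMB, Finset.sum_mul, xq]
    rw [Finset.sum_comm]
    refine Finset.sum_congr rfl fun p _ => Finset.sum_congr rfl fun q _ => ?_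
    ring
  have hB : Bqᵀ = Bq := by
    ext a c
    simp only [Matrix.transpose_apply, Bq, Matrix.map_apply, hg.symm.apply a c]
  have key : X ⬝ᵥ X = 8 * (xq ⬝ᵥ (Bq *ᵥ xq)) := by
    have h1 : Mᵀ * (M * Bq) = (8 : ℚ) • (1 : Matrix (Fin 24) (Fin 24) ℚ) := by
      rw [← hM', smul_smul]; norm_num
    calc X ⬝ᵥ X = (Bq *ᵥ xq) ⬝ᵥ ((Mᵀ * (M * Bq)) *ᵥ xq) := by
          simp only [X]
          rw [← Matrix.mulVec_mulVec xq Mᵀ (M * Bq), Matrix.dotProduct_mulVec _ Mᵀ,
            Matrix.vecMul_transpose, Matrix.mulVec_mulVec]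
      _ = 8 * ((Bq *ᵥ xq) ⬝ᵥ xq) := by
          rw [h1, Matrix.smul_mulVec, Matrix.one_mulVec, dotProduct_smul, smul_eq_mul]
      _ = _ := by rw [dotProduct_comm]
  have hl : ((sqNorm (coord B f x) : ℤ) : ℚ) = X ⬝ᵥ X := by
    simp only [dotProduct, hX, sqNorm]
    push_cast
    rw [← Equiv.sum_comp enc.symm fun i => ((coord B f x i : ℤ) : ℚ) ^ 2]
    exact Finset.sum_congr rfl fun a _ => pow_two _
  have hr : ((bil B x x : ℤ) : ℚ) = xq ⬝ᵥ (Bq *ᵥ xq) := by
    rw [hb]
    simp only [dotProduct, Matrix.mulVec, Finset.mul_sum, Bq, Matrix.map_apply, xq]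
  have : ((sqNorm (coord B f x) : ℤ) : ℚ) = ((8 * bil B x x : ℤ) : ℚ) := by
    rw [hl, key]; push_cast; rw [hr]
  exact_mod_cast this

theorem Frame.coord_injective {f : GolayPt → Fin 24 → ℤ} (h : Frame B f) (hg : Good B) :
    Function.Injective (coord B f) := by
  refine (injective_iff_map_eq_zero (coord B f)).2 fun x hx => ?_
  by_contra h0
  have h1 := h.sqNorm_coord hg x
  have h2 := hg.pos x h0
  rw [hx, show sqNorm (0 : GolayPt → ℤ) = 0 by simp [sqNorm]] at h1
  omega

theorem Frame.congr_half {f : GolayPt → Fin 24 → ℤ} (h : Frame B f) (x : Fin 24 → ℤ) (i j : GolayPt) :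
    (2 : ℤ) ∣ coord B f x i - coord B f x j := by
  obtain ⟨z, hz⟩ := exists_half_of_cls (h.cong i j)
  refine ⟨bil B z x, ?_⟩
  rw [coord_apply, coord_apply, hz]
  simp only [bil_add_left]
  ring

/-- Vectors with coordinates divisible by four and even quotient sum. -/
theorem Frame.four_mem {f : GolayPt → Fin 24 → ℤ} (h : Frame B f) (hg : Good B) (z : GolayPt → ℤ)
    (hz : (2 : ℤ) ∣ ∑ i, z i) : (fun i => 4 * z i) ∈ (coord B f).range := by
  classical
  have h8 : ∀ j, coord B f (f j) = fun i => if i = j then 8 else 0 := fun j => funext fun i => by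
    rw [coord_apply]
    split_ifs with e
    · subst e; exact h.norm i
    · exact h.orth i j e
  have hd : ∀ j, ∃ u, coord B f u = fun i => (if i = j then 4 else 0) - (if i = none then 4 else 0) := by
    intro j
    obtain ⟨u, hu⟩ := exists_half_of_cls (h.cong j none)
    refine ⟨u, funext fun i => ?_⟩
    have e := congrFun (congrArg (coord B f) hu) i
    rw [map_add, map_add, Pi.add_apply, Pi.add_apply, h8, h8] at e
    simp only at e
    split_ifs at e ⊢ <;> omega
  choose u hu using hd
  obtain ⟨k, hk⟩ := hz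
  refine ⟨(∑ j, z j • u j) + k • f none, ?_⟩
  funext i
  rw [map_add, map_sum, map_zsmul, Pi.add_apply, Finset.sum_apply, Pi.smul_apply, h8]
  simp only [map_zsmul, Pi.smul_apply, hu, smul_eq_mul, mul_sub, Finset.sum_sub_distrib, mul_ite, mul_zero,
    Finset.sum_ite_eq, Finset.mem_univ, if_true]
  split_ifs with e
  · subst e
    simp only [← Finset.sum_mul, hk]
    ring
  · simp only [Finset.sum_const_zero]
    ring

theorem Frame.eq_zero_of_norm16 {f : GolayPt → Fin 24 → ℤ} (h : Frame B f) (hg : Good B)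
    {X : GolayPt → ℤ} (hX : X ∈ (coord B f).range) (hn : sqNorm X = 16) : False := by
  obtain ⟨x, rfl⟩ := hX
  rw [h.sqNorm_coord hg] at hn
  exact hg.noTwo x (by omega)

theorem Frame.sixteen_dvd {f : GolayPt → Fin 24 → ℤ} (h : Frame B f) (hg : Good B)
    {X : GolayPt → ℤ} (hX : X ∈ (coord B f).range) : (16 : ℤ) ∣ sqNorm X := by
  obtain ⟨x, rfl⟩ := hX
  rw [h.sqNorm_coord hg]
  obtain ⟨k, hk⟩ := hg.even x
  exact ⟨k, by omega⟩

/-- The binary code of halved even coordinate vectors. -/
def codeOf (B : Matrix (Fin 24) (Fin 24) ℤ) (f : GolayPt → Fin 24 → ℤ) : Submodule (ZMod 2) (GolayPt → ZMod 2) where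
  carrier := {w | ∃ y, (fun i => 2 * y i) ∈ (coord B f).range ∧ redTwo y = w}
  zero_mem' := ⟨0, by convert zero_mem (coord B f).range using 1; funext i; simp, by funext i; simp [redTwo]⟩
  add_mem' := by
    rintro _ _ ⟨y, hy, rfl⟩ ⟨y', hy', rfl⟩
    refine ⟨y + y', ?_, redTwo_add y y'⟩
    convert add_mem hy hy' using 1
    funext i; simp [mul_add]
  smul_mem' := by
    rintro c _ ⟨y, hy, rfl⟩
    rcases zmod2_cases c with rfl | rfl
    · refine ⟨0, by convert zero_mem (coord B f).range using 1; funext i; simp, ?_⟩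
      funext i; simp [redTwo]
    · exact ⟨y, hy, (one_smul _ _).symm⟩

theorem mem_codeOf {f : GolayPt → Fin 24 → ℤ} {w : GolayPt → ZMod 2} :
    w ∈ codeOf B f ↔ ∃ y, (fun i => 2 * y i) ∈ (coord B f).range ∧ redTwo y = w := Iff.rfl

theorem redTwo_eq_iff {y y' : GolayPt → ℤ} : redTwo y = redTwo y' ↔ ∀ i, y i % 2 = y' i % 2 := by
  simp only [funext_iff, redTwo]
  exact forall_congr' fun i => ZMod.intCast_eq_intCast_iff' _ _ 2

theorem mem_support_redTwo {y : GolayPt → ℤ} {i : GolayPt} : i ∈ support₂ (redTwo y) ↔ y i % 2 = 1 := by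
  rw [mem_support₂, redTwo, intCast_zmod2_ne_zero_iff]

/-- A word of the code has a lift with entries `±2` on its support and zero elsewhere. -/
theorem Frame.lift {f : GolayPt → Fin 24 → ℤ} (h : Frame B f) (hg : Good B) {w : GolayPt → ZMod 2}
    (hw : w ∈ codeOf B f) : w = 0 ∨ ∃ X ∈ (coord B f).range, sqNorm X = 4 * ((support₂ w).card : ℤ) := by
  classical
  obtain ⟨y, hy, rfl⟩ := hw
  by_cases he : (support₂ (redTwo y)) = ∅
  · left
    funext i
    have : i ∉ support₂ (redTwo y) := by simp [he]
    simpa [mem_support₂] using this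
  right
  obtain ⟨a, ha⟩ := Finset.nonempty_iff_ne_empty.2 he
  let t : GolayPt → ℤ := fun i => if y i % 2 = 1 then 1 else 0
  let s : ℤ := (∑ i, (y i - t i) / 2) % 2
  let t' : GolayPt → ℤ := fun i => t i - if i = a then 2 * s else 0
  have hdiff : ∀ i, 2 * y i - 2 * t' i = 4 * ((y i - t i) / 2 + if i = a then s else 0) := by
    intro i
    simp only [t', t]
    split_ifs <;> omega
  have hsum : (2 : ℤ) ∣ ∑ i, ((y i - t i) / 2 + if i = a then s else 0) := by
    rw [Finset.sum_add_distrib, Finset.sum_ite_eq' Finset.univ a fun _ => s]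
    simp only [Finset.mem_univ, if_true, s]
    omega
  refine ⟨fun i => 2 * t' i, ?_, ?_⟩
  · have h1 := sub_mem hy (h.four_mem hg _ hsum)
    convert h1 using 1
    funext i
    have := hdiff i
    simp only [Pi.sub_apply]
    omega
  · have hsq : ∀ i, (2 * t' i) ^ 2 = if i ∈ support₂ (redTwo y) then 4 else 0 := by
      intro i
      rw [mem_support_redTwo] at ha
      simp only [mem_support_redTwo, t', t]
      have hs : s = 0 ∨ s = 1 := by simp only [s]; omega
      by_cases hi : i = a
      · subst hi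
        rcases hs with e | e <;> simp [ha, e]
      · simp only [hi, if_false, sub_zero]
        split_ifs <;> norm_num
    simp only [sqNorm, hsq, Finset.sum_ite_mem, Finset.univ_inter, Finset.sum_const, nsmul_eq_mul]
    ring

theorem Frame.code_weights {f : GolayPt → Fin 24 → ℤ} (h : Frame B f) (hg : Good B) {w : GolayPt → ZMod 2}
    (hw : w ∈ codeOf B f) :
    4 ∣ (support₂ w).card ∧ (support₂ w).card ≠ 4 ∧ ((support₂ w).card = 0 ∨ 8 ≤ (support₂ w).card) := by
  rcases h.lift hg hw with rfl | ⟨X, hX, hn⟩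
  · simp [support₂]
  · have h16 := h.sixteen_dvd hg hX
    rw [hn] at h16
    have hne : (support₂ w).card ≠ 4 := fun e => h.eq_zero_of_norm16 hg hX (by rw [hn, e]; rfl)
    have h4 : (4 : ℤ) ∣ ((support₂ w).card : ℤ) := by omega
    have h4' : 4 ∣ (support₂ w).card := by exact_mod_cast h4
    exact ⟨h4', hne, by omega⟩

/-- The supports of the words of weight eight number at most 759. -/
theorem card_octads_le {C : Submodule (ZMod 2) (GolayPt → ZMod 2)}
    (hw : ∀ w ∈ C, (support₂ w).card = 0 ∨ 8 ≤ (support₂ w).card) (O : Finset (Finset GolayPt))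
    (hO : ∀ o ∈ O, o.card = 8 ∧ ∃ w ∈ C, support₂ w = o) : O.card ≤ 759 := by
  classical
  have hdis : (O : Set (Finset GolayPt)).PairwiseDisjoint fun o => o.powersetCard 5 := by
    intro a ha b hb hab
    rw [Function.onFun, Finset.disjoint_left]
    intro s hsa hsb
    obtain ⟨ha8, w, hwC, rfl⟩ := hO a ha
    obtain ⟨hb8, w', hwC', rfl⟩ := hO b hb
    rw [Finset.mem_powersetCard] at hsa hsb
    have h5 := Finset.card_le_card (Finset.subset_inter hsa.1 hsb.1)
    rw [hsa.2] at h5
    have hc := card_support₂_add w w'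
    rw [ha8, hb8] at hc
    rcases hw _ (add_mem hwC hwC') with e | e
    · refine hab ?_
      have h1 : support₂ w ∩ support₂ w' = support₂ w :=
        Finset.eq_of_subset_of_card_le Finset.inter_subset_left (by omega)
      have h2 : support₂ w ∩ support₂ w' = support₂ w' :=
        Finset.eq_of_subset_of_card_le Finset.inter_subset_right (by omega)
      exact h1.symm.trans h2
    · omega
  have hsub : O.biUnion (fun o => o.powersetCard 5) ⊆ (Finset.univ : Finset GolayPt).powersetCard 5 := by
    intro s hs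
    obtain ⟨o, -, hs⟩ := Finset.mem_biUnion.1 hs
    exact Finset.mem_powersetCard.2 ⟨Finset.subset_univ _, (Finset.mem_powersetCard.1 hs).2⟩
  have := Finset.card_le_card hsub
  rw [Finset.card_biUnion hdis, Finset.sum_congr rfl (g := fun _ => 56) (fun o ho => by
      rw [Finset.card_powersetCard, (hO o ho).1]; rfl),
    Finset.sum_const, smul_eq_mul, Finset.card_powersetCard, Finset.card_univ,
    show Fintype.card GolayPt = 24 from rfl, show (24 : ℕ).choose 5 = 42504 by decide] at this
  omega

/-- The code has at most `4096` words. -/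
theorem card_code_le {C : Submodule (ZMod 2) (GolayPt → ZMod 2)}
    (hw : ∀ w ∈ C, (support₂ w).card = 0 ∨ 8 ≤ (support₂ w).card) : Nat.card C < 8192 := by
  classical
  let small := (Finset.univ : Finset (Finset GolayPt)).filter fun s => s.card ≤ 3
  let ofSet : Finset GolayPt → GolayPt → ZMod 2 := fun s a => if a ∈ s then 1 else 0
  have hsupp : ∀ s, support₂ (ofSet s) = s := fun s => by ext a; simp [support₂, ofSet]
  have hinj : Function.Injective fun p : ↥C × ↥small => (p.1 : GolayPt → ZMod 2) + ofSet p.2 := by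
    rintro ⟨w, s, hs⟩ ⟨w', t, ht⟩ e
    simp only [small, Finset.mem_filter, Finset.mem_univ, true_and] at hs ht
    simp only at e
    have hm : ofSet s + ofSet t ∈ C := by
      have : ofSet s + ofSet t = (w' : GolayPt → ZMod 2) + w := by
        funext a
        have := congrFun e a
        simp only [Pi.add_apply] at this ⊢
        revert this
        generalize (w : GolayPt → ZMod 2) a = p
        generalize (w' : GolayPt → ZMod 2) a = q
        generalize ofSet s a = r
        generalize ofSet t a = u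
        revert p q r u
        decide
      rw [this]; exact add_mem w'.2 w.2
    have hc := card_support₂_add (ofSet s) (ofSet t)
    rw [hsupp, hsupp] at hc
    rcases hw _ hm with h0 | h8
    · have h1 : s ∩ t = s := Finset.eq_of_subset_of_card_le Finset.inter_subset_left (by
        have := Finset.card_le_card (Finset.inter_subset_right (s₁ := s) (s₂ := t)); omega)
      have h2 : s ∩ t = t := Finset.eq_of_subset_of_card_le Finset.inter_subset_right (by
        have := Finset.card_le_card (Finset.inter_subset_left (s₁ := s) (s₂ := t)); omega)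
      have hst : s = t := h1.symm.trans h2
      subst hst
      exact Prod.ext (Subtype.ext (add_right_cancel e)) rfl
    · omega
  have hsmall : small.card = 2325 := by
    have hu : small = (Finset.range 4).biUnion fun k => (Finset.univ : Finset GolayPt).powersetCard k := by
      ext s
      simp only [small, Finset.mem_filter, Finset.mem_univ, true_and, Finset.mem_biUnion, Finset.mem_range,
        Finset.mem_powersetCard, Finset.subset_univ]
      exact ⟨fun h => ⟨s.card, by omega, rfl⟩, fun ⟨k, hk, e⟩ => by omega⟩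
    rw [hu, Finset.card_biUnion]
    · simp only [Finset.card_powersetCard, Finset.card_univ, show Fintype.card GolayPt = 24 from rfl]
      decide
    · exact fun a _ b _ hab => Finset.pairwise_disjoint_powersetCard _ hab
  have := Nat.card_le_card_of_injective _ hinj
  rw [Nat.card_prod, Nat.card_eq_fintype_card (α := ↥small), Fintype.card_coe, hsmall,
    Nat.card_fun, Nat.card_zmod, show Nat.card GolayPt = 24 from Nat.card_eq_fintype_card,
    show (2 : ℕ) ^ 24 = 16777216 from rfl] at this
  omega

/-- Counting vectors of norm 32: the code has dimension 12 and odd vectors exist. -/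
theorem Frame.code_dim {f : GolayPt → Fin 24 → ℤ} (h : Frame B f) (hg : Good B)
    (h4 : {x : Fin 24 → ℤ | bil B x x = 4}.ncard = 196560) :
    Module.finrank (ZMod 2) (codeOf B f) = 12 ∧ ∃ X ∈ (coord B f).range, X none % 2 = 1 := by
  classical
  set C := codeOf B f
  have hwt : ∀ w ∈ C, (support₂ w).card = 0 ∨ 8 ≤ (support₂ w).card := fun w hw => (h.code_weights hg hw).2.2
  have fin4 : {x : Fin 24 → ℤ | bil B x x = 4}.Finite := Set.finite_of_ncard_ne_zero (by omega)
  let E : Finset (GolayPt → ℤ) := fin4.toFinset.image (coord B f)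
  have hE : ∀ X ∈ E, X ∈ (coord B f).range ∧ sqNorm X = 32 := by
    intro X hX
    obtain ⟨x, hx, rfl⟩ := Finset.mem_image.1 hX
    rw [Set.Finite.mem_toFinset, Set.mem_ofPred_eq] at hx
    exact ⟨⟨x, rfl⟩, by rw [h.sqNorm_coord hg, hx]; norm_num⟩
  have hEc : E.card = 196560 := by
    rw [Finset.card_image_of_injective _ (h.coord_injective hg), ← Set.ncard_eq_toFinset_card _ fin4, h4]
  have hpar : ∀ X ∈ E, ∀ i, X i % 2 = X none % 2 := by
    intro X hX i
    obtain ⟨x, rfl⟩ := (hE X hX).1
    obtain ⟨k, hk⟩ := h.congr_half x i none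
    omega
  have hbound : ∀ X ∈ E, ∀ i, -5 ≤ X i ∧ X i ≤ 5 := by
    intro X hX i
    have h1 : X i ^ 2 ≤ sqNorm X := Finset.single_le_sum (fun j _ => sq_nonneg (X j)) (Finset.mem_univ i)
    rw [(hE X hX).2] at h1
    constructor <;> nlinarith
  let E0 := E.filter fun X => X none % 2 = 0 ∧ ∀ i, X i % 4 = 0
  let E8 := E.filter fun X => X none % 2 = 0 ∧ ¬ ∀ i, X i % 4 = 0
  let E1 := E.filter fun X => ¬ X none % 2 = 0
  have hsplit : E.card ≤ E0.card + E8.card + E1.card := by
    have hs : E ⊆ E0 ∪ E8 ∪ E1 := fun X hX => by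
      simp only [E0, E8, E1, Finset.mem_union, Finset.mem_filter]
      tauto
    exact (Finset.card_le_card hs).trans ((Finset.card_union_le _ _).trans
      (Nat.add_le_add_right (Finset.card_union_le _ _) _))
  have hneg : ∀ X : GolayPt → ℤ, ∀ i, i ∈ Finset.univ.filter (fun j => X j < 0) ↔ X i < 0 := by simp
  -- four-fold vectors
  have b0 : E0.card ≤ 1104 := by
    let T := ((Finset.univ : Finset GolayPt).powersetCard 2).sigma fun s => s.powerset
    let e : (GolayPt → ℤ) → (Σ _ : Finset GolayPt, Finset GolayPt) := fun X =>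
      ⟨Finset.univ.filter fun i => X i ≠ 0, Finset.univ.filter fun i => X i < 0⟩
    have hval : ∀ X ∈ E0, ∀ i, X i = 0 ∨ X i = 4 ∨ X i = -4 := by
      intro X hX i
      simp only [E0, Finset.mem_filter] at hX
      have := hbound X hX.1 i
      have := hX.2.2 i
      omega
    have hT : T.card = 1104 := by
      rw [Finset.card_sigma, Finset.sum_congr rfl (g := fun _ => 4) (fun s hs => by
        rw [Finset.card_powerset, (Finset.mem_powersetCard.1 hs).2]; rfl), Finset.sum_const,
        Finset.card_powersetCard, Finset.card_univ, show Fintype.card GolayPt = 24 from rfl]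
      decide
    rw [← hT]
    refine Finset.card_le_card_of_injOn e (fun X hX => ?_) (fun X hX Y hY eq => ?_)
    · have hXE : X ∈ E := (Finset.mem_filter.1 hX).1
      have hn := (hE X hXE).2
      have hsq : ∀ i, X i ^ 2 = if X i ≠ 0 then 16 else 0 := fun i => by
        rcases hval X hX i with e | e | e <;> simp [e]
      rw [sqNorm] at hn
      simp only [hsq, ← Finset.sum_filter, Finset.sum_const, nsmul_eq_mul] at hn
      simp only [T, e, Finset.mem_coe, Finset.mem_sigma, Finset.mem_powersetCard, Finset.mem_powerset,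
        Finset.subset_univ, true_and]
      refine ⟨by omega, fun i hi => ?_⟩
      simp only [Finset.mem_filter, Finset.mem_univ, true_and] at hi ⊢
      omega
    · simp only [e, Sigma.mk.injEq, heq_eq_eq] at eq
      funext i
      have h1 := Finset.ext_iff.1 eq.1 i
      have h2 := Finset.ext_iff.1 eq.2 i
      simp only [Finset.mem_filter, Finset.mem_univ, true_and] at h1 h2
      rcases hval X hX i with a | a | a <;> rcases hval Y hY i with b | b | b <;> rw [a, b] at h1 h2 ⊢ <;>
        simp at h1 h2 ⊢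
  -- vectors on a word of weight eight
  let O := (Finset.univ : Finset (Finset GolayPt)).filter fun o => o.card = 8 ∧ ∃ w ∈ C, support₂ w = o
  have hO : O.card ≤ 759 := card_octads_le hwt O fun o ho => (Finset.mem_filter.1 ho).2
  have hval8 : ∀ X ∈ E8, ∃ o ∈ O, ∀ i, (i ∈ o → X i = 2 ∨ X i = -2) ∧ (i ∉ o → X i = 0) := by
    intro X hX
    simp only [E8, Finset.mem_filter] at hX
    obtain ⟨hXE, hev, hnot⟩ := hX
    have hev' : ∀ i, X i % 2 = 0 := fun i => by rw [hpar X hXE i]; exact hev
    have hmem : redTwo (fun i => X i / 2) ∈ C := by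
      refine ⟨fun i => X i / 2, ?_, rfl⟩
      convert (hE X hXE).1 using 1
      funext i; have := hev' i; show 2 * (X i / 2) = X i; omega
    set o := support₂ (redTwo fun i => X i / 2) with ho
    have hmo : ∀ i, i ∈ o ↔ X i % 4 = 2 := fun i => by
      rw [ho, mem_support_redTwo]
      have := hev' i; omega
    have hone : ∀ i, (if i ∈ o then (4 : ℤ) else 0) ≤ X i ^ 2 := fun i => by
      split_ifs with hi
      · rw [hmo] at hi
        have : 2 ≤ X i ∨ X i ≤ -2 := by omega
        rcases this with h | h <;> nlinarith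
      · exact sq_nonneg _
    have hle := Finset.sum_le_sum (s := Finset.univ) fun i _ => hone i
    rw [Finset.sum_ite_mem, Finset.univ_inter, Finset.sum_const, nsmul_eq_mul,
      show ∑ i, X i ^ 2 = 32 from (hE X hXE).2] at hle
    have h8 : o.card = 8 := by
      rcases hwt _ hmem with e | e
      · refine absurd (fun i => ?_) hnot
        have : i ∉ o := by rw [ho, Finset.card_eq_zero.1 e]; simp
        rw [hmo] at this
        have := hev' i; omega
      · change 8 ≤ o.card at e; omega
    have heq := (Finset.sum_eq_sum_iff_of_le (s := Finset.univ) fun i _ => hone i).1 (by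
      rw [Finset.sum_ite_mem, Finset.univ_inter, Finset.sum_const, h8,
        show ∑ i, X i ^ 2 = 32 from (hE X hXE).2]; rfl)
    refine ⟨o, Finset.mem_filter.2 ⟨Finset.mem_univ _, h8, _, hmem, rfl⟩, fun i => ⟨fun hi => ?_, fun hi => ?_⟩⟩
    · have := heq i (Finset.mem_univ i)
      rw [if_pos hi] at this
      have : (X i - 2) * (X i + 2) = 0 := by ring_nf; linarith
      rcases mul_eq_zero.1 this with e | e <;> omega
    · have := heq i (Finset.mem_univ i)
      rw [if_neg hi] at this
      exact pow_eq_zero_iff two_ne_zero |>.1 this.symm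
  have b8 : E8.card ≤ 759 * 128 := by
    have hpick : ∀ o : Finset GolayPt, ∃ a, o.Nonempty → a ∈ o := fun o => by
      by_cases hne : o.Nonempty
      · exact ⟨hne.choose, fun _ => hne.choose_spec⟩
      · exact ⟨none, fun h' => absurd h' hne⟩
    choose pick hpick using hpick
    let T := O.sigma fun o => (o.erase (pick o)).powerset
    let e : (GolayPt → ℤ) → (Σ _ : Finset GolayPt, Finset GolayPt) := fun X =>
      ⟨Finset.univ.filter fun i => X i ≠ 0,
        (Finset.univ.filter fun i => X i < 0).erase (pick (Finset.univ.filter fun i => X i ≠ 0))⟩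
    have hsupp : ∀ X ∈ E8, ∀ o : Finset GolayPt, (∀ i, (i ∈ o → X i = 2 ∨ X i = -2) ∧ (i ∉ o → X i = 0)) →
        (Finset.univ.filter fun i => X i ≠ 0) = o := by
      intro X _ o ho
      ext i
      rw [Finset.mem_filter]
      by_cases hi : i ∈ o
      · rcases (ho i).1 hi with e | e <;> simp [hi, e]
      · simp [hi, (ho i).2 hi]
    have hT : T.card ≤ 759 * 128 := by
      rw [Finset.card_sigma, Finset.sum_congr rfl (g := fun _ => 128) (fun o ho => by
        have h8 : o.card = 8 := (Finset.mem_filter.1 ho).2.1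
        rw [Finset.card_powerset, Finset.card_erase_of_mem (hpick o (Finset.card_pos.1 (by omega))), h8]; rfl),
        Finset.sum_const, smul_eq_mul]
      exact Nat.mul_le_mul_right _ hO
    refine le_trans (Finset.card_le_card_of_injOn e (fun X hX => ?_) (fun X hX Y hY eq => ?_)) hT
    · obtain ⟨o, ho, hXo⟩ := hval8 X (Finset.mem_coe.1 hX)
      simp only [T, e, Finset.mem_coe, Finset.mem_sigma, Finset.mem_powerset, hsupp X hX o hXo]
      refine ⟨ho, fun i hi => ?_⟩
      simp only [Finset.mem_erase, Finset.mem_filter, Finset.mem_univ, true_and] at hi ⊢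
      refine ⟨hi.1, ?_⟩
      by_contra hn
      rw [(hXo i).2 hn] at hi
      omega
    · obtain ⟨o, ho, hXo⟩ := hval8 X (Finset.mem_coe.1 hX)
      obtain ⟨o', ho', hYo⟩ := hval8 Y (Finset.mem_coe.1 hY)
      simp only [e, Sigma.mk.injEq, heq_eq_eq, hsupp X hX o hXo, hsupp Y hY o' hYo] at eq
      obtain ⟨rfl, eq⟩ := eq
      have hagree : ∀ i, i ≠ pick o → X i = Y i := by
        intro i hi
        by_cases hio : i ∈ o
        · have h2 := Finset.ext_iff.1 eq i
          simp only [Finset.mem_erase, hi, ne_eq, not_false_eq_true, true_and, Finset.mem_filter,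
            Finset.mem_univ] at h2
          rcases (hXo i).1 hio with a | a <;> rcases (hYo i).1 hio with b | b <;> rw [a, b] at h2 ⊢ <;>
            simp at h2 ⊢
        · rw [(hXo i).2 hio, (hYo i).2 hio]
      funext i
      by_cases hi : i = pick o
      · subst hi
        by_contra hne
        refine h.eq_zero_of_norm16 hg (sub_mem (hE X (Finset.mem_filter.1 hX).1).1
          (hE Y (Finset.mem_filter.1 hY).1).1) ?_
        rw [sqNorm, Finset.sum_eq_single (pick o) (fun j _ hj => by simp [hagree j hj]) (by simp)]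
        have hp : pick o ∈ o := hpick o (Finset.card_pos.1 (by
          have := (Finset.mem_filter.1 ho).2.1; omega))
        rcases (hXo _).1 hp with a | a <;> rcases (hYo _).1 hp with b | b <;>
          simp only [Pi.sub_apply, a, b] <;> first | rfl | (exact absurd (a.trans b.symm) hne)
      · exact hagree i hi
  -- odd vectors
  let Cf : Finset (GolayPt → ZMod 2) := Finset.univ.filter fun w => w ∈ C
  have hCf : Cf.card = Nat.card C := by
    rw [Nat.card_eq_fintype_card, Fintype.card_subtype]
  have hval1 : ∀ X ∈ E1, ∃ a, (X a = 3 ∨ X a = -3) ∧ ∀ i, i ≠ a → X i = 1 ∨ X i = -1 := by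
    intro X hX
    simp only [E1, Finset.mem_filter] at hX
    have hodd : ∀ i, X i % 2 = 1 := fun i => by have := hpar X hX.1 i; omega
    have hn := (hE X hX.1).2
    have hge : ∀ i, 0 ≤ X i ^ 2 - 1 := fun i => by
      have : 1 ≤ X i ∨ X i ≤ -1 := by have := hodd i; omega
      rcases this with h | h <;> nlinarith
    have hbig : ∀ i, X i ≠ 1 → X i ≠ -1 → 8 ≤ X i ^ 2 - 1 := fun i a b => by
      have : 3 ≤ X i ∨ X i ≤ -3 := by have := hodd i; omega
      rcases this with h | h <;> nlinarith
    have hs : ∑ i, (X i ^ 2 - 1) = 8 := by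
      rw [Finset.sum_sub_distrib, show ∑ i, X i ^ 2 = 32 from hn, sum_const_golayPt]; norm_num
    obtain ⟨a, ha1, ha2⟩ : ∃ a, X a ≠ 1 ∧ X a ≠ -1 := by
      by_contra hc
      push Not at hc
      rw [Finset.sum_eq_zero fun i _ => ?_] at hs
      · omega
      · by_cases h1 : X i = 1
        · rw [h1]; norm_num
        · rw [hc i h1]; norm_num
    have hrest : ∀ i, i ≠ a → X i = 1 ∨ X i = -1 := by
      intro i hi
      by_contra hc
      push Not at hc
      have h2 := Finset.sum_le_sum_of_subset_of_nonneg (f := fun i => X i ^ 2 - 1)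
        (Finset.subset_univ ({i, a} : Finset GolayPt)) fun j _ _ => hge j
      rw [Finset.sum_pair hi, hs] at h2
      linarith [hbig i hc.1 hc.2, hbig a ha1 ha2]
    refine ⟨a, ?_, hrest⟩
    rw [Finset.sum_eq_single a (fun j _ hj => by rcases hrest j hj with e | e <;> simp [e]) (by simp)] at hs
    have : (X a - 3) * (X a + 3) = 0 := by ring_nf; linarith
    rcases mul_eq_zero.1 this with e | e <;> omega
  have b1 : E1.card ≤ 24 * Cf.card := by
    rcases E1.eq_empty_or_nonempty with e0 | ⟨X0, hX0⟩
    · simp [e0]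
    choose! pos hpos using hval1
    let e : (GolayPt → ℤ) → GolayPt × (GolayPt → ZMod 2) := fun X =>
      (pos X, redTwo fun i => (X i - X0 i) / 2)
    have hodd : ∀ X ∈ E1, ∀ i, X i % 2 = 1 := fun X hX i => by
      simp only [E1, Finset.mem_filter] at hX
      have := hpar X hX.1 i; omega
    have hT : ((Finset.univ : Finset GolayPt) ×ˢ Cf).card = 24 * Cf.card := by
      rw [Finset.card_product, Finset.card_univ]; rfl
    rw [← hT]
    refine Finset.card_le_card_of_injOn e (fun X hX => ?_) (fun X hX Y hY eq => ?_)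
    · refine Finset.mem_product.2 ⟨Finset.mem_univ _, Finset.mem_filter.2 ⟨Finset.mem_univ _, ?_⟩⟩
      refine ⟨_, ?_, rfl⟩
      convert sub_mem (hE X (Finset.mem_filter.1 hX).1).1 (hE X0 (Finset.mem_filter.1 hX0).1).1 using 1
      funext i
      have := hodd X hX i; have := hodd X0 hX0 i
      simp only [Pi.sub_apply]
      omega
    · simp only [e, Prod.mk.injEq] at eq
      funext i
      have h4 := redTwo_eq_iff.1 eq.2 i
      have := hodd X0 hX0 i
      by_cases hi : i = pos X
      · rcases hpos X hX with ⟨a, -⟩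
        rcases hpos Y hY with ⟨b, -⟩
        rw [← hi] at a
        rw [← eq.1, ← hi] at b
        omega
      · have a := (hpos X hX).2 i hi
        have b := (hpos Y hY).2 i (eq.1 ▸ hi)
        omega
  have hlt := card_code_le hwt
  have hpow := Module.natCard_eq_pow_finrank (K := ZMod 2) (V := C)
  rw [Nat.card_zmod] at hpow
  have hd : Module.finrank (ZMod 2) C = 12 := by
    have h1 : 2 ^ Module.finrank (ZMod 2) C > 2 ^ 11 := by
      rw [← hpow, show (2 : ℕ) ^ 11 = 2048 from rfl]
      omega
    have h2 : 2 ^ Module.finrank (ZMod 2) C < 2 ^ 13 := by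
      rw [← hpow]; exact lt_of_lt_of_le hlt (by norm_num)
    have := (Nat.pow_lt_pow_iff_right (le_refl 2)).1 h1
    have := (Nat.pow_lt_pow_iff_right (le_refl 2)).1 h2
    omega
  refine ⟨hd, ?_⟩
  by_contra hno
  push Not at hno
  have h0 : E1 = ∅ := Finset.filter_eq_empty_iff.2 fun X hX => by
    have := hno X (hE X hX).1
    omega
  rw [h0, Finset.card_empty] at hsplit
  omega

theorem Frame.relabel {f : GolayPt → Fin 24 → ℤ} (h : Frame B f) (e : Equiv.Perm GolayPt) : Frame B (f ∘ e) :=
  ⟨fun i => h.norm _, fun i j hij => h.orth _ _ (e.injective.ne hij), fun i j => h.cong _ _⟩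

theorem Frame.signs {f : GolayPt → Fin 24 → ℤ} (h : Frame B f) (p : GolayPt → Bool) :
    Frame B (fun i => if p i then -f i else f i) := by
  refine ⟨fun i => ?_, fun i j hij => ?_, fun i j => ?_⟩
  · cases p i <;> simp [bil_neg_left, bil_neg_right, h.norm]
  · cases p i <;> cases p j <;> simp [bil_neg_left, bil_neg_right, h.orth i j hij]
  · cases p i <;> cases p j <;> simp [cls_neg, h.cong i j]

/-- A frame in standard position. -/
theorem exists_standard (hg : Good B) (h4 : {x : Fin 24 → ℤ | bil B x x = 4}.ncard = 196560)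
    (h6 : {x : Fin 24 → ℤ | bil B x x = 6}.ncard = 16773120)
    (h8 : {x : Fin 24 → ℤ | bil B x x = 8}.ncard = 398034000) :
    ∃ f, Frame B f ∧ (∀ w, w ∈ codeOf B f ↔ w ∈ golayCode) ∧
      ∃ Y ∈ (coord B f).range, ∀ i, Y i % 4 = 1 := by
  obtain ⟨f, hf⟩ := exists_frame hg h4 h6 h8
  obtain ⟨e, he⟩ := Cfsg.Agent.Lib.Design.code_unique (codeOf B f) rfl (hf.code_dim hg h4).1
    (fun w hw => (hf.code_weights hg hw).1) (fun w hw => (hf.code_weights hg hw).2.1)
  have h1 := hf.relabel e
  obtain ⟨-, Y, ⟨y, rfl⟩, hY⟩ := h1.code_dim hg h4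
  set ε : GolayPt → Bool := fun i => decide (coord B (f ∘ e) y i % 4 = 3) with hε
  refine ⟨_, h1.signs ε, fun w => ?_, _, ⟨y, rfl⟩, fun i => ?_⟩
  · have hc : ∀ x i, coord B (fun i => if ε i then -(f ∘ e) i else (f ∘ e) i) x i =
        if ε i then -coord B f x (e i) else coord B f x (e i) := by
      intro x i
      simp only [coord_apply]
      cases ε i <;> simp [bil_neg_left]
    constructor
    · rintro ⟨t, ⟨x, hx⟩, rfl⟩
      have hw : redTwo (fun q => coord B f x q / 2) ∈ codeOf B f := ⟨_, ⟨x, funext fun q => by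
        have h2 := congrFun hx (e.symm q)
        rw [hc, Equiv.apply_symm_apply] at h2
        split_ifs at h2 <;> omega⟩, rfl⟩
      have h2 := (he _).2 hw
      convert h2 using 1
      funext i
      show (t i : ZMod 2) = ((coord B f x (e i) / 2 : ℤ) : ZMod 2)
      rw [ZMod.intCast_eq_intCast_iff' _ _ 2]
      have h3 := congrFun hx i
      rw [hc] at h3
      split_ifs at h3 <;> omega
    · intro hw
      have h2 : (fun q => w (e.symm q)) ∈ codeOf B f := (he _).1 (by simpa using hw)
      obtain ⟨t, ⟨x, hx⟩, ht⟩ := h2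
      refine ⟨fun i => coord B (fun i => if ε i then -(f ∘ e) i else (f ∘ e) i) x i / 2, ⟨x, funext fun i => ?_⟩, ?_⟩
      · have h3 := congrFun hx (e i)
        simp only at h3 ⊢
        rw [hc]
        split_ifs <;> omega
      · funext i
        have h3 := congrFun hx (e i)
        have h4 := congrFun ht (e i)
        simp only [redTwo, Equiv.symm_apply_apply] at h4
        rw [← h4, redTwo, ZMod.intCast_eq_intCast_iff' _ _ 2, hc]
        split_ifs <;> omega
  · have hodd : coord B (f ∘ e) y i % 2 = 1 := by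
      obtain ⟨k, hk⟩ := h1.congr_half y i none
      omega
    by_cases h3 : coord B (f ∘ e) y i % 4 = 3
    · have : ε i = true := by simp [hε, h3]
      simp only [coord_apply, this, if_true, bil_neg_left]
      rw [coord_apply] at h3 hodd
      omega
    · have : ε i = false := by simp [hε, h3]
      simp only [coord_apply, this, Bool.false_eq_true, if_false]
      rw [coord_apply] at h3 hodd
      omega

theorem range_eq_leech {f : GolayPt → Fin 24 → ℤ} (h : Frame B f) (hg : Good B)
    (hC : ∀ w, w ∈ codeOf B f ↔ w ∈ golayCode) {Y : GolayPt → ℤ} (hY : Y ∈ (coord B f).range)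
    (hY4 : ∀ i, Y i % 4 = 1) : (coord B f).range = leechLattice := by
  have hYe : Y = fun i => 1 + 4 * ((Y i - 1) / 4) := funext fun i => by have := hY4 i; omega
  have hYs : (∑ i, (Y i - 1) / 4) % 2 = 1 := by
    have h16 := h.sixteen_dvd hg hY
    have e : sqNorm Y = 24 + 8 * ∑ i, (Y i - 1) / 4 + 16 * ∑ i, ((Y i - 1) / 4) ^ 2 := by
      rw [Finset.mul_sum, Finset.mul_sum, ← sum_const_golayPt 1 |>.trans (mul_one (24 : ℤ)),
        ← Finset.sum_add_distrib, ← Finset.sum_add_distrib, sqNorm]
      refine Finset.sum_congr rfl fun i _ => ?_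
      conv_lhs => rw [hYe]
      ring
    omega
  have hYL : Y ∈ leechLattice := by
    refine mem_leechLattice_iff.2 ⟨1, fun i => 2 * ((Y i - 1) / 4), fun i => ?_, ?_, ?_⟩
    · have := hY4 i; show Y i = 1 + 2 * (2 * ((Y i - 1) / 4)); omega
    · convert zero_mem golayCode using 1
      funext i
      simp only [redTwo, Pi.zero_apply]
      exact (ZMod.intCast_eq_intCast_iff' _ 0 2).mpr (by omega) |>.trans Int.cast_zero
    · simp only [Int.ModEq, ← Finset.mul_sum]
      omega
  have hdot : ∀ X ∈ (coord B f).range, (8 : ℤ) ∣ dotInt X Y := by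
    intro X hX
    have e := sqNorm_add X Y
    obtain ⟨a, ha⟩ := h.sixteen_dvd hg hX
    obtain ⟨b, hb⟩ := h.sixteen_dvd hg hY
    obtain ⟨c, hc⟩ := h.sixteen_dvd hg (add_mem hX hY)
    omega
  have heven : ∀ X ∈ (coord B f).range, (∀ i, X i % 2 = 0) → X ∈ leechLattice := by
    intro X hX hev
    refine mem_leechLattice_iff.2 ⟨0, fun i => X i / 2, fun i => ?_, ?_, ?_⟩
    · have := hev i; show X i = 0 + 2 * (X i / 2); omega
    · refine (hC _).1 ⟨fun i => X i / 2, ?_, rfl⟩
      convert hX using 1
      funext i; have := hev i; show 2 * (X i / 2) = X i; omega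
    · simp only [Int.ModEq]
      have h8 := hdot X hX
      have e : dotInt X Y = 2 * (∑ i, X i / 2) + 8 * ∑ i, X i / 2 * ((Y i - 1) / 4) := by
        rw [dotInt, Finset.mul_sum, Finset.mul_sum, ← Finset.sum_add_distrib]
        refine Finset.sum_congr rfl fun i _ => ?_
        have h2 := hev i
        conv_lhs => rw [hYe, show X i = 2 * (X i / 2) by omega]
        ring
      omega
  refine le_antisymm (fun X hX => ?_) (fun x hx => ?_)
  · obtain ⟨x, rfl⟩ := hX
    by_cases hev : ∀ i, coord B f x i % 2 = 0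
    · exact heven _ ⟨x, rfl⟩ hev
    · push Not at hev
      obtain ⟨j, hj⟩ := hev
      have hd : coord B f x - Y ∈ leechLattice := heven _ (sub_mem ⟨x, rfl⟩ hY) fun i => by
        obtain ⟨k, hk⟩ := h.congr_half x i j
        have := hY4 i
        simp only [Pi.sub_apply]
        omega
      simpa using add_mem hd hYL
  · obtain ⟨m, w, hform, hw, hs⟩ := mem_leechLattice_iff.1 hx
    obtain ⟨m', w', hform', hw', hs'⟩ :=
      mem_leechLattice_iff.1 (sub_mem hx (zsmul_mem hYL m))
    have hev : ∀ i, (x - m • Y) i % 2 = 0 := fun i => by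
      simp only [Pi.sub_apply, Pi.smul_apply, smul_eq_mul, hform i]
      have := hY4 i
      obtain ⟨k, hk⟩ : ∃ k, Y i = 1 + 2 * k := ⟨(Y i - 1) / 2, by omega⟩
      rw [hk, mul_add, mul_one]
      have : m * (2 * k) = 2 * (m * k) := by ring
      omega
    have hm' : m' % 2 = 0 := by
      have := hev none
      rw [hform' none] at this
      omega
    let u : GolayPt → ℤ := fun i => (x - m • Y) i / 2
    have hu : redTwo u ∈ codeOf B f := by
      refine (hC _).2 ?_
      have e : redTwo u = redTwo w' + ((m' / 2 : ℤ) : ZMod 2) • (1 : GolayPt → ZMod 2) := by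
        funext i
        simp only [redTwo, Pi.add_apply, Pi.smul_apply, Pi.one_apply, smul_eq_mul, mul_one, u]
        rw [← Int.cast_add, ZMod.intCast_eq_intCast_iff' _ _ 2, hform' i]
        omega
      rw [e]
      exact add_mem hw' (Submodule.smul_mem _ _ one_mem_golayCode)
    obtain ⟨t, ht, htu⟩ := hu
    have ht4 := redTwo_eq_iff.1 htu
    have hsum : (2 : ℤ) ∣ ∑ i, (u i - t i) / 2 := by
      have h1 : (∑ i, u i) % 4 = 0 := by
        have hs2 := hs'
        simp only [Int.ModEq] at hs2
        have e : ∑ i, u i = 24 * (m' / 2) + ∑ i, w' i := by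
          rw [← sum_const_golayPt, ← Finset.sum_add_distrib]
          refine Finset.sum_congr rfl fun i _ => ?_
          simp only [u, hform' i]
          omega
        omega
      have h2 : (∑ i, t i) % 4 = 0 := by
        have h8 := hdot _ ht
        have e : dotInt (fun i => 2 * t i) Y = 2 * (∑ i, t i) + 8 * ∑ i, t i * ((Y i - 1) / 4) := by
          rw [dotInt, Finset.mul_sum, Finset.mul_sum, ← Finset.sum_add_distrib]
          refine Finset.sum_congr rfl fun i _ => ?_
          conv_lhs => rw [hYe]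
          ring
        omega
      have e : ∑ i, (u i - t i) = 2 * ∑ i, (u i - t i) / 2 := by
        rw [Finset.mul_sum]
        exact Finset.sum_congr rfl fun i _ => by have := ht4 i; omega
      rw [Finset.sum_sub_distrib] at e
      omega
    have hx' : x = m • Y + ((fun i => 2 * t i) + fun i => 4 * ((u i - t i) / 2)) := by
      funext i
      have := ht4 i
      have := hev i
      simp only [u, Pi.add_apply, Pi.sub_apply, Pi.smul_apply, smul_eq_mul] at *
      omega
    rw [hx']
    exact add_mem (zsmul_mem hY m) (add_mem ht (h.four_mem hg _ hsum))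

/-- The characterisation. -/
theorem exists_addEquiv (hg : Good B) (h4 : {x : Fin 24 → ℤ | bil B x x = 4}.ncard = 196560)
    (h6 : {x : Fin 24 → ℤ | bil B x x = 6}.ncard = 16773120)
    (h8 : {x : Fin 24 → ℤ | bil B x x = 8}.ncard = 398034000) :
    ∃ φ : (Fin 24 → ℤ) ≃+ leechLattice, ∀ x, sqNorm ((φ x : leechLattice) : GolayPt → ℤ) = 8 * bil B x x := by
  obtain ⟨f, hf, hC, Y, hY, hY4⟩ := exists_standard hg h4 h6 h8
  have hr := range_eq_leech hf hg hC hY hY4
  refine ⟨(AddMonoidHom.ofInjective (hf.coord_injective hg)).trans (AddEquiv.addSubgroupCongr hr), fun x => ?_⟩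
  exact hf.sqNorm_coord hg x

end Cfsg.Agent.Lib.LeechUnique
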