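import Cfsg.Agent.Lib.Design.UniqueHS
import Cfsg.Agent.Lib.Design.AutHS
import Mathlib.Analysis.Real.Sqrt
import Mathlib.LinearAlgebra.Trace

/-!
Rank three groups on 100 points with subdegrees 22 and 77 embed in the automorphism group of the
Higman–Sims graph.
-/

set_option autoImplicit false

namespace Cfsg.Agent.Lib.Design

open Matrix MulAction
open scoped Pointwise

theorem exists_nat_trace {V : Type*} [Fintype V] [DecidableEq V] {E : Matrix V V ℝ}
    (hE : E * E = E) : ∃ n : ℕ, E.trace = n := by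
  have hp : (Matrix.toLin' E) * Matrix.toLin' E = Matrix.toLin' E := by
    rw [Module.End.mul_eq_comp, ← Matrix.toLin'_mul, hE]
  refine ⟨Module.finrank ℝ (LinearMap.range (Matrix.toLin' E)), ?_⟩
  have := LinearMap.IsProj.trace ((LinearMap.isProj_range_iff_isIdempotentElem _).mpr hp)
  rwa [Matrix.trace_toLin'_eq] at this

section Param

variable {V : Type*} [Fintype V] [DecidableEq V] {Γ : SimpleGraph V} [DecidableRel Γ.Adj]

/-- The all-ones matrix. -/
def allOnes (V : Type*) : Matrix V V ℝ := fun _ _ => 1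

theorem allOnes_mul_self : allOnes V * allOnes V = (Fintype.card V : ℝ) • allOnes V := by
  ext i j
  simp [allOnes, Matrix.mul_apply]

theorem adj_mul_allOnes {k : ℕ} (h : Γ.IsRegularOfDegree k) :
    Γ.adjMatrix ℝ * allOnes V = (k : ℝ) • allOnes V := by
  ext i j
  simp [allOnes, h i]

theorem allOnes_mul_adj {k : ℕ} (h : Γ.IsRegularOfDegree k) :
    allOnes V * Γ.adjMatrix ℝ = (k : ℝ) • allOnes V := by
  ext i j
  simp [allOnes, h j]

theorem compl_adjMatrix :
    Γᶜ.adjMatrix ℝ = allOnes V - 1 - Γ.adjMatrix ℝ := by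
  ext i j
  rcases eq_or_ne i j with rfl | hij
  · simp [allOnes]
  · by_cases ha : Γ.Adj i j <;> simp [allOnes, hij, ha]

theorem srg_hs_params {l m : ℕ} (h : Γ.IsSRGWith 100 22 l m) : l = 0 ∧ m = 6 := by
  have hp := SimpleGraph.IsSRGWith.param_eq Γ h (by norm_num)
  set A := Γ.adjMatrix ℝ
  set J := allOnes V with hJdef
  have hA2 : A * A = ((22 : ℝ) - m) • (1 : Matrix V V ℝ) + ((l : ℝ) - m) • A + (m : ℝ) • J := by
    rw [← sq, h.matrix_eq (α := ℝ), compl_adjMatrix]
    simp only [← Nat.cast_smul_eq_nsmul ℝ]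
    push_cast
    module
  have hJJ : J * J = (100 : ℝ) • J := by
    rw [hJdef, allOnes_mul_self, h.card]; norm_num
  have hAJ : A * J = (22 : ℝ) • J := by rw [hJdef, adj_mul_allOnes h.regular]; norm_num
  have hJA : J * A = (22 : ℝ) • J := by rw [hJdef, allOnes_mul_adj h.regular]; norm_num
  have htA : A.trace = 0 := Γ.trace_adjMatrix ℝ
  have htJ : J.trace = 100 := by simp [J, allOnes, Matrix.trace, h.card]
  have ht1 : (1 : Matrix V V ℝ).trace = 100 := by simp [h.card]
  have hle : l < 22 := by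
    obtain ⟨x⟩ : Nonempty V := Fintype.card_pos_iff.mp (by rw [h.card]; norm_num)
    obtain ⟨y, hy⟩ : (Γ.neighborFinset x).Nonempty := Finset.card_pos.mp (by
      rw [SimpleGraph.card_neighborFinset_eq_degree, h.regular x]; norm_num)
    rw [SimpleGraph.mem_neighborFinset] at hy
    have h1 := h.of_adj x y hy
    rw [← Nat.card_eq_fintype_card, Nat.card_coe_set_eq] at h1
    rw [← h1, ← h.regular x, ← SimpleGraph.card_neighborSet_eq_degree, ← Nat.card_eq_fintype_card,
      Nat.card_coe_set_eq]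
    exact Set.ncard_lt_ncard ⟨fun z hz => hz.1, fun hsub => Γ.irrefl (hsub hy).2⟩ (Set.toFinite _)
  have hl : l = 0 ∨ l = 7 ∨ l = 14 ∨ l = 21 := by omega
  rcases hl with rfl | rfl | rfl | rfl
  · exact ⟨rfl, by omega⟩
  · exfalso
    obtain rfl : m = 4 := by omega
    obtain ⟨n, hn⟩ := exists_nat_trace (E := (1 / 9 : ℝ) • (A + (3 : ℝ) • 1 - (1 / 4 : ℝ) • J)) (by
      simp only [smul_mul_smul_comm, add_mul, mul_add, sub_mul, mul_sub, smul_mul_assoc,
        mul_smul_comm, one_mul, mul_one, hA2, hJJ, hAJ, hJA]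
      push_cast
      module)
    simp only [Matrix.trace_smul, Matrix.trace_sub, Matrix.trace_add, htA, htJ, ht1, smul_eq_mul] at hn
    have : ((275 : ℕ) : ℝ) = ((9 * n : ℕ) : ℝ) := by push_cast; linarith
    have := Nat.cast_injective this
    omega
  · exfalso
    obtain rfl : m = 2 := by omega
    obtain ⟨n, hn⟩ := exists_nat_trace (E := (1 / 2 : ℝ) • (((1 : Matrix V V ℝ) - (1 / 100 : ℝ) • J) +
        (Real.sqrt 56)⁻¹ • (A - (6 : ℝ) • 1 - (4 / 25 : ℝ) • J))) (by
      have hs : (Real.sqrt 56)⁻¹ * (Real.sqrt 56)⁻¹ = 1 / 56 := by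
        rw [← mul_inv, Real.mul_self_sqrt (by norm_num)]; norm_num
      simp only [smul_mul_smul_comm, add_mul, mul_add, sub_mul, mul_sub, smul_mul_assoc,
        mul_smul_comm, one_mul, mul_one, hA2, hJJ, hAJ, hJA, smul_add, smul_sub, smul_smul, hs]
      push_cast
      have hs2 : (Real.sqrt 56)⁻¹ ^ 2 = 1 / 56 := by rw [sq]; exact hs
      match_scalars <;> ring_nf <;> (try simp only [hs2]) <;> ring)
    simp only [Matrix.trace_smul, Matrix.trace_sub, Matrix.trace_add, htA, htJ, ht1, smul_eq_mul] at hn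
    have hs : Real.sqrt 56 * Real.sqrt 56 = 56 := Real.mul_self_sqrt (by norm_num)
    have hs0 : Real.sqrt 56 ≠ 0 := by positivity
    have e : (2 * (n : ℝ) - 99) * Real.sqrt 56 = -616 := by
      rw [← hn]; field_simp; ring
    have h2 : (2 * (n : ℝ) - 99) ^ 2 = 6776 := by nlinarith [e, hs]
    have h3 : (2 * (n : ℤ) - 99) ^ 2 = 6776 := by exact_mod_cast h2
    have h4 : 2 * (n : ℤ) - 99 < 83 := by nlinarith
    have h5 : -83 < 2 * (n : ℤ) - 99 := by nlinarith
    generalize 2 * (n : ℤ) - 99 = z at h3 h4 h5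
    interval_cases z <;> norm_num at h3
  · exfalso
    obtain rfl : m = 0 := by omega
    obtain ⟨n, hn⟩ := exists_nat_trace (E := (1 / 23 : ℝ) • (A + 1)) (by
      simp only [smul_mul_smul_comm, add_mul, mul_add, one_mul, mul_one, hA2]
      push_cast
      module)
    simp only [Matrix.trace_smul, Matrix.trace_add, htA, ht1, smul_eq_mul] at hn
    have : ((100 : ℕ) : ℝ) = ((23 * n : ℕ) : ℝ) := by push_cast; linarith
    have := Nat.cast_injective this
    omega

end Param

variable {Ω : Type*} [Fintype Ω]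

theorem card_orbit_mul (G : Subgroup (Equiv.Perm Ω)) (x y : Ω) :
    (orbit (stabilizer G x) y).ncard * Nat.card ↥(stabilizer G x ⊓ stabilizer G y) =
      Nat.card ↥(stabilizer G x) := by
  have h := (stabilizer (stabilizer G x) y).card_mul_index
  rw [index_stabilizer] at h
  have e : stabilizer (stabilizer G x) y =
      (stabilizer G x ⊓ stabilizer G y).subgroupOf (stabilizer G x) := by
    ext s
    rw [Subgroup.mem_subgroupOf, Subgroup.mem_inf, mem_stabilizer_iff]
    exact ⟨fun hs => ⟨s.2, hs⟩, fun hs => hs.2⟩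
  rw [e, Nat.card_congr (Subgroup.subgroupOfEquivOfLe inf_le_left).toEquiv, mul_comm] at h
  exact h

theorem ncard_orbit_smul (G : Subgroup (Equiv.Perm Ω)) (g : G) (x y : Ω) :
    (orbit (stabilizer G (g • x)) (g • y)).ncard = (orbit (stabilizer G x) y).ncard := by
  rw [← Set.ncard_image_of_injective (orbit (stabilizer G x) y) (MulAction.injective g)]
  congr 1
  ext z
  constructor
  · rintro ⟨⟨s, hs⟩, rfl⟩
    refine ⟨(g⁻¹ * s * g) • y, ⟨⟨g⁻¹ * s * g, ?_⟩, rfl⟩, ?_⟩
    · rw [mem_stabilizer_iff, mul_smul, mul_smul, mem_stabilizer_iff.mp hs, inv_smul_smul]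
    · show g • ((g⁻¹ * s * g) • y) = s • g • y
      rw [mul_smul, mul_smul, smul_inv_smul]
  · rintro ⟨_, ⟨⟨s, hs⟩, rfl⟩, rfl⟩
    refine ⟨⟨g * s * g⁻¹, ?_⟩, ?_⟩
    · rw [mem_stabilizer_iff, mul_smul, mul_smul, inv_smul_smul, mem_stabilizer_iff.mp hs]
    · show (g * s * g⁻¹) • g • y = g • s • y
      rw [mul_smul, mul_smul, inv_smul_smul]

theorem exists_hom_aut_hundred [DecidableEq Ω] (hΩ : Fintype.card Ω = 100)
    (G : Subgroup (Equiv.Perm Ω)) [IsPretransitive G Ω] (a b c : Ω)
    (hb : (orbit (stabilizer G a) b).ncard = 22) (hc : (orbit (stabilizer G a) c).ncard = 77) :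
    ∃ f : G →* (Cfsg.pointBlockGraph blocks22 ≃g Cfsg.pointBlockGraph blocks22),
      Function.Injective f := by
  classical
  have hcardst : ∀ x y : Ω, Nat.card ↥(stabilizer G x) = Nat.card ↥(stabilizer G y) := by
    intro x y
    obtain ⟨g, rfl⟩ := exists_smul_eq G x y
    exact Nat.card_congr (stabilizerEquivStabilizer (g := g) rfl).toEquiv
  let Γ : SimpleGraph Ω :=
    { Adj := fun x y => (orbit (stabilizer G x) y).ncard = 22
      symm := ⟨fun x y h => by
        have h1 := card_orbit_mul G x y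
        have h2 := card_orbit_mul G y x
        rw [inf_comm, hcardst y x] at h2
        rw [h, ← h2] at h1
        exact (Nat.eq_of_mul_eq_mul_right Nat.card_pos h1).symm⟩
      loopless := ⟨fun x h => by
        have : orbit (stabilizer G x) x = {x} := by
          refine Set.eq_singleton_iff_unique_mem.mpr ⟨mem_orbit_self x, ?_⟩
          rintro _ ⟨s, rfl⟩
          exact s.2
        rw [this, Set.ncard_singleton] at h
        norm_num at h⟩ }
  have hmap : ∀ (g : G) (x y : Ω), Γ.Adj (g • x) (g • y) ↔ Γ.Adj x y := fun g x y => by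
    show (orbit (stabilizer G (g • x)) (g • y)).ncard = 22 ↔ _
    rw [ncard_orbit_smul]
  have hcover : ∀ y, y ≠ a → y ∈ orbit (stabilizer G a) b ∨ y ∈ orbit (stabilizer G a) c := by
    have hdis : Disjoint (orbit (stabilizer G a) b) (orbit (stabilizer G a) c) := by
      rw [Set.disjoint_left]
      intro y h1 h2
      rw [← orbit_eq_iff.mpr h1, orbit_eq_iff.mpr h2, hc] at hb
      norm_num at hb
    have hsa : orbit (stabilizer G a) a = {a} := by
      refine Set.eq_singleton_iff_unique_mem.mpr ⟨mem_orbit_self a, ?_⟩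
      rintro _ ⟨s, rfl⟩
      exact s.2
    have hna : ∀ z, (orbit (stabilizer G a) z).ncard ≠ 1 → a ∉ orbit (stabilizer G a) z := by
      intro z hz ha
      rw [← orbit_eq_iff.mpr ha, hsa, Set.ncard_singleton] at hz
      exact hz rfl
    intro y hy
    by_contra hcon
    rw [not_or] at hcon
    have hsub : insert a (insert y (orbit (stabilizer G a) b ∪ orbit (stabilizer G a) c)) ⊆ Set.univ :=
      Set.subset_univ _
    have h1 := Set.ncard_le_ncard hsub (Set.toFinite _)
    rw [Set.ncard_univ, Nat.card_eq_fintype_card, hΩ, Set.ncard_insert_of_notMem,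
      Set.ncard_insert_of_notMem, Set.ncard_union_eq hdis, hb, hc] at h1
    · norm_num at h1
    · simp [hcon.1, hcon.2]
    · simp [hy.symm, hna b (by rw [hb]; norm_num), hna c (by rw [hc]; norm_num)]
  have hnb : ∀ y, Γ.Adj a y ↔ y ∈ orbit (stabilizer G a) b := by
    intro y
    constructor
    · intro h
      rcases hcover y h.ne.symm with h' | h'
      · exact h'
      · have h22 : (orbit (stabilizer G a) y).ncard = 22 := h
        rw [orbit_eq_iff.mpr h', hc] at h22
        norm_num at h22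
    · intro h
      show (orbit (stabilizer G a) y).ncard = 22
      rw [orbit_eq_iff.mpr h, hb]
  have hcn : ∀ (g : G) (x y : Ω), (Γ.commonNeighbors (g • x) (g • y)).ncard =
      (Γ.commonNeighbors x y).ncard := by
    intro g x y
    rw [← Set.ncard_image_of_injective (Γ.commonNeighbors x y) (MulAction.injective g)]
    congr 1
    ext z
    constructor
    · rintro ⟨h1, h2⟩
      refine ⟨g⁻¹ • z, ⟨?_, ?_⟩, smul_inv_smul g z⟩
      · rw [SimpleGraph.mem_neighborSet, ← hmap g, smul_inv_smul]; exact h1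
      · rw [SimpleGraph.mem_neighborSet, ← hmap g, smul_inv_smul]; exact h2
    · rintro ⟨w, ⟨h1, h2⟩, rfl⟩
      exact ⟨(hmap g x w).mpr h1, (hmap g y w).mpr h2⟩
  have hmove : ∀ x y : Ω, x ≠ y → (Γ.commonNeighbors x y).ncard =
      if Γ.Adj x y then (Γ.commonNeighbors a b).ncard else (Γ.commonNeighbors a c).ncard := by
    intro x y hxy
    obtain ⟨g, hg⟩ := exists_smul_eq G x a
    rw [← hcn g x y, hg]
    have hne : g • y ≠ a := fun e => hxy (MulAction.injective g (hg.trans e.symm))
    have hadj : Γ.Adj x y ↔ Γ.Adj a (g • y) := by rw [← hg, hmap]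
    split_ifs with h
    · obtain ⟨s, hs⟩ := (hnb _).mp (hadj.mp h)
      rw [← hs]
      have e := hcn (s : G) a b
      rw [show (s : G) • a = a from s.2] at e
      exact e
    · rcases hcover _ hne with h' | h'
      · exact absurd (hadj.mpr ((hnb _).mpr h')) h
      · obtain ⟨s, hs⟩ := h'
        rw [← hs]
        have e := hcn (s : G) a c
        rw [show (s : G) • a = a from s.2] at e
        exact e
  have hdeg : ∀ x, (Γ.neighborSet x).ncard = 22 := by
    intro x
    obtain ⟨g, rfl⟩ := exists_smul_eq G a x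
    rw [← hb, ← Set.ncard_image_of_injective (orbit (stabilizer G a) b) (MulAction.injective g)]
    congr 1
    ext z
    rw [SimpleGraph.mem_neighborSet, ← smul_inv_smul g z, hmap, hnb, smul_inv_smul]
    exact ⟨fun h => ⟨_, h, smul_inv_smul g z⟩, fun ⟨w, hw, e⟩ => by rw [← e, inv_smul_smul]; exact hw⟩
  have hsrg : Γ.IsSRGWith 100 22 (Γ.commonNeighbors a b).ncard (Γ.commonNeighbors a c).ncard :=
    { card := hΩ
      regular := fun x => by
        rw [← SimpleGraph.card_neighborSet_eq_degree, ← Nat.card_eq_fintype_card,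
          Nat.card_coe_set_eq, hdeg]
      of_adj := fun x y h => by
        rw [← Nat.card_eq_fintype_card, Nat.card_coe_set_eq, hmove x y h.ne, if_pos h]
      of_not_adj := fun x y hne h => by
        rw [← Nat.card_eq_fintype_card, Nat.card_coe_set_eq, hmove x y hne, if_neg h] }
  obtain ⟨hl, hm⟩ := srg_hs_params hsrg
  rw [hl, hm] at hsrg
  obtain ⟨iso⟩ := exists_iso_pointBlock hsrg
  let aut : G → (Γ ≃g Γ) := fun g => ⟨(g : Equiv.Perm Ω), fun {x y} => hmap g x y⟩
  refine ⟨MonoidHom.mk' (fun g => iso.symm.trans ((aut g).trans iso)) fun g h => ?_, fun g h e => ?_⟩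
  · refine RelIso.ext fun x => ?_
    show iso (((g : Equiv.Perm Ω) * (h : Equiv.Perm Ω)) (iso.symm x)) =
      iso ((g : Equiv.Perm Ω) (iso.symm (iso ((h : Equiv.Perm Ω) (iso.symm x)))))
    rw [iso.symm_apply_apply]
    rfl
  · refine Subtype.ext (Equiv.ext fun x => iso.injective ?_)
    have h1 := RelIso.ext_iff.mp e (iso x)
    simpa [aut] using h1

end Cfsg.Agent.Lib.Design
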