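import Cfsg.Prelude.Def_Sporadic_a

/-!
# Counting in Steiner systems
-/

namespace Cfsg.Agent.Lib.Design

open Cfsg Finset

variable {α : Type*} [Fintype α] [DecidableEq α] {t k : ℕ} {B : Set (Finset α)}

/-- The blocks as a finset. -/
noncomputable def blockFinset (B : Set (Finset α)) : Finset (Finset α) := (Set.toFinite B).toFinset

@[simp] theorem mem_blockFinset {b : Finset α} : b ∈ blockFinset B ↔ b ∈ B :=
  (Set.toFinite B).mem_toFinset

theorem card_blockFinset : (blockFinset B).card = B.ncard :=
  (Set.ncard_eq_toFinset_card B).symm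

/-- The number of blocks containing a given set. -/
noncomputable def containing (B : Set (Finset α)) (s : Finset α) : Finset (Finset α) :=
  (blockFinset B).filter fun b => s ⊆ b

theorem mem_containing {s b : Finset α} : b ∈ containing B s ↔ b ∈ B ∧ s ⊆ b := by
  simp [containing]

/-- Double counting of the blocks through a set of at most `t` points. -/
theorem containing_mul (hB : IsSteinerSystem t k B) {s : Finset α} (hs : s.card ≤ t) :
    (containing B s).card * (k - s.card).choose (t - s.card)
      = (Fintype.card α - s.card).choose (t - s.card) := by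
  have h1 : (Finset.univ \ s).powersetCard (t - s.card) =
      (containing B s).biUnion fun b => (b \ s).powersetCard (t - s.card) := by
    ext u
    simp only [Finset.mem_biUnion, mem_powersetCard, mem_containing, subset_sdiff]
    constructor
    · rintro ⟨⟨-, hd⟩, hc⟩
      have hcard : (u ∪ s).card = t := by rw [card_union_of_disjoint hd, hc]; omega
      obtain ⟨b, ⟨hb, hsub⟩, -⟩ := hB.2 _ hcard
      exact ⟨b, ⟨hb, subset_union_right.trans hsub⟩, ⟨subset_union_left.trans hsub, hd⟩, hc⟩
    · rintro ⟨b, -, ⟨-, hd⟩, hc⟩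
      exact ⟨⟨subset_univ _, hd⟩, hc⟩
  have h2 := congrArg Finset.card h1
  rw [card_powersetCard, Finset.card_univ_sdiff, Finset.card_biUnion ?_] at h2
  · rw [h2, sum_congr rfl (g := fun _ => (k - s.card).choose (t - s.card)), sum_const, smul_eq_mul]
    intro b hb
    rw [mem_containing] at hb
    rw [card_powersetCard, card_sdiff_of_subset hb.2, hB.1 b hb.1]
  · intro b hb c hc hbc
    rw [Function.onFun, disjoint_left]
    intro u hu hu'
    simp only [mem_coe, mem_containing] at hb hc
    simp only [mem_powersetCard, subset_sdiff] at hu hu'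
    apply hbc
    have hcard : (u ∪ s).card = t := by rw [card_union_of_disjoint hu.1.2, hu.2]; omega
    exact (hB.2 _ hcard).unique ⟨hb.1, union_subset hu.1.1 hb.2⟩ ⟨hc.1, union_subset hu'.1.1 hc.2⟩

theorem containing_eq (hB : IsSteinerSystem t k B) {s : Finset α} {j m : ℕ} (hs : s.card = j)
    (hj : j ≤ t) (hk : (k - j).choose (t - j) ≠ 0)
    (hm : m * (k - j).choose (t - j) = (Fintype.card α - j).choose (t - j)) :
    (containing B s).card = m := by
  have h := containing_mul hB (hs ▸ hj)
  rw [hs, ← hm] at h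
  exact Nat.eq_of_mul_eq_mul_right (Nat.pos_of_ne_zero hk) h

theorem block_count (hB : IsSteinerSystem t k B) :
    B.ncard * k.choose t = (Fintype.card α).choose t := by
  have h := containing_mul hB (s := ∅) (Nat.zero_le _)
  simp only [card_empty, Nat.sub_zero] at h
  rwa [show containing B ∅ = blockFinset B from filter_true_of_mem fun b _ => empty_subset b,
    card_blockFinset] at h

theorem card_inter_lt (hB : IsSteinerSystem t k B) {b c : Finset α} (hb : b ∈ B) (hc : c ∈ B)
    (hbc : b ≠ c) : (b ∩ c).card < t := by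
  by_contra h
  push Not at h
  obtain ⟨s, hs, hst⟩ := exists_subset_card_eq h
  exact hbc ((hB.2 s hst).unique ⟨hb, hs.trans inter_subset_left⟩ ⟨hc, hs.trans inter_subset_right⟩)

/-- The number of the other blocks meeting `b` in exactly `i` points. -/
noncomputable def meetNum (B : Set (Finset α)) (b : Finset α) (i : ℕ) : ℕ :=
  (((blockFinset B).erase b).filter fun c => (b ∩ c).card = i).card

/-- The `j`-th intersection equation of a block. -/
theorem meet_equation (hB : IsSteinerSystem t k B) {b : Finset α} (hb : b ∈ B) {j m : ℕ}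
    (hj : j ≤ t) (hk : (k - j).choose (t - j) ≠ 0)
    (hm : m * (k - j).choose (t - j) = (Fintype.card α - j).choose (t - j)) :
    ∑ i ∈ range t, i.choose j * meetNum B b i = k.choose j * (m - 1) := by
  have h1 : ∑ i ∈ range t, i.choose j * meetNum B b i
      = ∑ c ∈ (blockFinset B).erase b, ((b ∩ c).powersetCard j).card := by
    rw [← sum_fiberwise_of_maps_to (g := fun c => (b ∩ c).card) (t := range t)]
    · refine sum_congr rfl fun i _ => ?_
      rw [sum_congr rfl (g := fun _ => i.choose j), sum_const, smul_eq_mul, mul_comm]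
      · rfl
      · intro c hc
        rw [card_powersetCard, (mem_filter.mp hc).2]
    · intro c hc
      rw [mem_erase, mem_blockFinset] at hc
      exact mem_range.mpr (card_inter_lt hB hb hc.2 hc.1.symm)
  rw [h1]
  have h2 : ∑ c ∈ (blockFinset B).erase b, ((b ∩ c).powersetCard j).card
      = ∑ s ∈ b.powersetCard j, ((containing B s).erase b).card := by
    have hl : ∀ c, ((b ∩ c).powersetCard j).card = ((b.powersetCard j).filter fun s => s ⊆ c).card := by
      intro c
      congr 1
      ext s
      simp only [mem_powersetCard, mem_filter, subset_inter_iff]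
      tauto
    simp only [hl, card_filter]
    rw [sum_comm]
    refine sum_congr rfl fun s _ => ?_
    rw [← card_filter]
    congr 1
    ext c
    simp only [mem_filter, mem_erase, mem_containing, mem_blockFinset]
    tauto
  rw [h2, sum_congr rfl (g := fun _ => m - 1), sum_const, card_powersetCard, hB.1 b hb, smul_eq_mul]
  intro s hs
  rw [mem_powersetCard] at hs
  rw [card_erase_of_mem (mem_containing.mpr ⟨hb, hs.1⟩), containing_eq hB hs.2 hj hk hm]

theorem eq_zero_of_meetNum {b c : Finset α} (hc : c ∈ B) (hbc : b ≠ c) {i : ℕ}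
    (hi : (b ∩ c).card = i) : meetNum B b i ≠ 0 :=
  (card_pos.mpr ⟨c, mem_filter.mpr ⟨mem_erase.mpr ⟨hbc.symm, mem_blockFinset.mpr hc⟩, hi⟩⟩).ne'

theorem meetNum_24 (hα : Fintype.card α = 24) (hB : IsSteinerSystem 5 8 B) {b : Finset α}
    (hb : b ∈ B) : meetNum B b 0 = 30 ∧ meetNum B b 1 = 0 ∧ meetNum B b 2 = 448
      ∧ meetNum B b 3 = 0 ∧ meetNum B b 4 = 280 := by
  have e0 := meet_equation hB hb (j := 0) (m := 759) (by decide) (by decide) (by rw [hα]; decide +kernel)
  have e1 := meet_equation hB hb (j := 1) (m := 253) (by decide) (by decide) (by rw [hα]; decide +kernel)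
  have e2 := meet_equation hB hb (j := 2) (m := 77) (by decide) (by decide) (by rw [hα]; decide +kernel)
  have e3 := meet_equation hB hb (j := 3) (m := 21) (by decide) (by decide) (by rw [hα]; decide +kernel)
  have e4 := meet_equation hB hb (j := 4) (m := 5) (by decide) (by decide) (by rw [hα]; decide +kernel)
  simp [sum_range_succ, Nat.choose] at e0 e1 e2 e3 e4
  omega

theorem meetNum_23 (hα : Fintype.card α = 23) (hB : IsSteinerSystem 4 7 B) {b : Finset α}
    (hb : b ∈ B) : meetNum B b 0 = 0 ∧ meetNum B b 1 = 112 ∧ meetNum B b 2 = 0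
      ∧ meetNum B b 3 = 140 := by
  have e0 := meet_equation hB hb (j := 0) (m := 253) (by decide) (by decide) (by rw [hα]; decide +kernel)
  have e1 := meet_equation hB hb (j := 1) (m := 77) (by decide) (by decide) (by rw [hα]; decide +kernel)
  have e2 := meet_equation hB hb (j := 2) (m := 21) (by decide) (by decide) (by rw [hα]; decide +kernel)
  have e3 := meet_equation hB hb (j := 3) (m := 5) (by decide) (by decide) (by rw [hα]; decide +kernel)
  simp [sum_range_succ, Nat.choose] at e0 e1 e2 e3
  omega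

theorem meetNum_22 (hα : Fintype.card α = 22) (hB : IsSteinerSystem 3 6 B) {b : Finset α}
    (hb : b ∈ B) : meetNum B b 0 = 16 ∧ meetNum B b 1 = 0 ∧ meetNum B b 2 = 60 := by
  have e0 := meet_equation hB hb (j := 0) (m := 77) (by decide) (by decide) (by rw [hα]; decide +kernel)
  have e1 := meet_equation hB hb (j := 1) (m := 21) (by decide) (by decide) (by rw [hα]; decide +kernel)
  have e2 := meet_equation hB hb (j := 2) (m := 5) (by decide) (by decide) (by rw [hα]; decide +kernel)
  simp [sum_range_succ, Nat.choose] at e0 e1 e2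
  omega

theorem meetNum_12 (hα : Fintype.card α = 12) (hB : IsSteinerSystem 5 6 B) {b : Finset α}
    (hb : b ∈ B) : meetNum B b 0 = 1 ∧ meetNum B b 1 = 0 ∧ meetNum B b 2 = 45
      ∧ meetNum B b 3 = 40 ∧ meetNum B b 4 = 45 := by
  have e0 := meet_equation hB hb (j := 0) (m := 132) (by decide) (by decide) (by rw [hα]; decide +kernel)
  have e1 := meet_equation hB hb (j := 1) (m := 66) (by decide) (by decide) (by rw [hα]; decide +kernel)
  have e2 := meet_equation hB hb (j := 2) (m := 30) (by decide) (by decide) (by rw [hα]; decide +kernel)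
  have e3 := meet_equation hB hb (j := 3) (m := 12) (by decide) (by decide) (by rw [hα]; decide +kernel)
  have e4 := meet_equation hB hb (j := 4) (m := 4) (by decide) (by decide) (by rw [hα]; decide +kernel)
  simp [sum_range_succ, Nat.choose] at e0 e1 e2 e3 e4
  omega

theorem inter_24 (hα : Fintype.card α = 24) (hB : IsSteinerSystem 5 8 B) {b c : Finset α}
    (hb : b ∈ B) (hc : c ∈ B) (hbc : b ≠ c) :
    (b ∩ c).card = 0 ∨ (b ∩ c).card = 2 ∨ (b ∩ c).card = 4 := by
  obtain ⟨-, h1, -, h3, -⟩ := meetNum_24 hα hB hb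
  have hlt := card_inter_lt hB hb hc hbc
  have n1 : (b ∩ c).card ≠ 1 := fun e => eq_zero_of_meetNum hc hbc e h1
  have n3 : (b ∩ c).card ≠ 3 := fun e => eq_zero_of_meetNum hc hbc e h3
  omega

theorem inter_23 (hα : Fintype.card α = 23) (hB : IsSteinerSystem 4 7 B) {b c : Finset α}
    (hb : b ∈ B) (hc : c ∈ B) (hbc : b ≠ c) : (b ∩ c).card = 1 ∨ (b ∩ c).card = 3 := by
  obtain ⟨h0, -, h2, -⟩ := meetNum_23 hα hB hb
  have hlt := card_inter_lt hB hb hc hbc
  have n0 : (b ∩ c).card ≠ 0 := fun e => eq_zero_of_meetNum hc hbc e h0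
  have n2 : (b ∩ c).card ≠ 2 := fun e => eq_zero_of_meetNum hc hbc e h2
  omega

theorem inter_22 (hα : Fintype.card α = 22) (hB : IsSteinerSystem 3 6 B) {b c : Finset α}
    (hb : b ∈ B) (hc : c ∈ B) (hbc : b ≠ c) : (b ∩ c).card = 0 ∨ (b ∩ c).card = 2 := by
  obtain ⟨-, h1, -⟩ := meetNum_22 hα hB hb
  have hlt := card_inter_lt hB hb hc hbc
  have n1 : (b ∩ c).card ≠ 1 := fun e => eq_zero_of_meetNum hc hbc e h1
  omega

theorem inter_even_24 (hα : Fintype.card α = 24) (hB : IsSteinerSystem 5 8 B) {b c : Finset α}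
    (hb : b ∈ B) (hc : c ∈ B) : Even (b ∩ c).card := by
  rcases eq_or_ne b c with rfl | h
  · rw [inter_self, hB.1 b hb]; decide
  · rcases inter_24 hα hB hb hc h with e | e | e <;> rw [e] <;> decide

/-- No set of four points of an S(5,8,24) meets every block evenly. -/
theorem exists_odd_inter_four (hα : Fintype.card α = 24) (hB : IsSteinerSystem 5 8 B)
    {s : Finset α} (hs : s.card = 4) : ∃ b ∈ B, ¬ Even (s ∩ b).card := by
  obtain ⟨r, hrs, hr⟩ := exists_subset_card_eq (by omega : 3 ≤ s.card)
  have h3 := containing_eq hB hr (by decide) (m := 21) (by decide) (by rw [hα]; decide +kernel)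
  have h4 := containing_eq hB hs (by decide) (m := 5) (by decide) (by rw [hα]; decide +kernel)
  by_contra h
  push Not at h
  have hsub : containing B r ⊆ containing B s := by
    intro b hb
    rw [mem_containing] at hb ⊢
    refine ⟨hb.1, ?_⟩
    have h1 : 3 ≤ (s ∩ b).card := hr ▸ card_le_card (subset_inter hrs hb.2)
    have h2 : (s ∩ b).card ≤ 4 := hs ▸ card_le_card inter_subset_left
    obtain ⟨q, hq⟩ := h b hb.1
    exact (eq_of_subset_of_card_le inter_subset_left (by omega)).ge.trans inter_subset_right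
  have := card_le_card hsub
  omega

theorem even_card_symmDiff_inter (x y z : Finset α) (hx : Even (x ∩ z).card) (hy : Even (y ∩ z).card) :
    Even (symmDiff x y ∩ z).card := by
  have e : symmDiff x y ∩ z = symmDiff (x ∩ z) (y ∩ z) := by
    ext a; simp only [mem_inter, mem_symmDiff]; tauto
  rw [e]
  have h1 := card_sdiff_add_card_inter (x ∩ z) (y ∩ z)
  have h2 := card_sdiff_add_card_inter (y ∩ z) (x ∩ z)
  rw [inter_comm (y ∩ z)] at h2
  rw [symmDiff_def, sup_eq_union, card_union_of_disjoint disjoint_sdiff_sdiff]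
  obtain ⟨p, hp⟩ := hx
  obtain ⟨q, hq⟩ := hy
  rw [Nat.even_iff]
  omega

theorem card_symmDiff_add (x y : Finset α) :
    (symmDiff x y).card + 2 * (x ∩ y).card = x.card + y.card := by
  have h1 := card_sdiff_add_card_inter x y
  have h2 := card_sdiff_add_card_inter y x
  rw [inter_comm y] at h2
  rw [symmDiff_def, sup_eq_union, card_union_of_disjoint disjoint_sdiff_sdiff]
  omega

theorem symmDiff_mem_24 (hα : Fintype.card α = 24) (hB : IsSteinerSystem 5 8 B) {b c : Finset α}
    (hb : b ∈ B) (hc : c ∈ B) (h4 : (b ∩ c).card = 4) : symmDiff b c ∈ B := by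
  have hT : (symmDiff b c).card = 8 := by
    have := card_symmDiff_add b c
    rw [hB.1 b hb, hB.1 c hc] at this
    omega
  have hbc : (b \ c).card = 4 := by
    have := card_sdiff_add_card_inter b c
    rw [hB.1 b hb] at this
    omega
  have hcb : (c \ b).card = 4 := by
    have := card_sdiff_add_card_inter c b
    rw [hB.1 c hc, inter_comm] at this
    omega
  obtain ⟨x, hx⟩ := card_pos.mp (by omega : 0 < (c \ b).card)
  have hx' : x ∉ b \ c := fun h => (mem_sdiff.mp h).2 (mem_sdiff.mp hx).1
  obtain ⟨e, ⟨he, hsub⟩, -⟩ := hB.2 (insert x (b \ c)) (by rw [card_insert_of_notMem hx', hbc])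
  have hins : insert x (b \ c) ⊆ symmDiff b c := by
    intro a ha
    rw [mem_symmDiff]
    rcases mem_insert.mp ha with rfl | ha
    · exact Or.inr ⟨(mem_sdiff.mp hx).1, (mem_sdiff.mp hx).2⟩
    · exact Or.inl ⟨(mem_sdiff.mp ha).1, (mem_sdiff.mp ha).2⟩
  have h5 : 5 ≤ (symmDiff b c ∩ e).card := by
    refine le_trans ?_ (card_le_card (subset_inter hins hsub))
    rw [card_insert_of_notMem hx', hbc]
  have heven : ∀ d ∈ B, Even (symmDiff b c ∩ d).card := fun d hd =>
    even_card_symmDiff_inter _ _ _ (inter_even_24 hα hB hb hd) (inter_even_24 hα hB hc hd)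
  have h8 : (symmDiff b c ∩ e).card ≤ 8 := hT ▸ card_le_card inter_subset_left
  have hS := card_symmDiff_add (symmDiff b c) e
  rw [hT, hB.1 e he] at hS
  obtain ⟨q, hq⟩ := heven e he
  have h7 : (symmDiff b c ∩ e).card ≠ 6 := by
    intro h6
    obtain ⟨d, hd, hodd⟩ := exists_odd_inter_four hα hB (s := symmDiff (symmDiff b c) e) (by omega)
    exact hodd (even_card_symmDiff_inter _ _ _ (heven d hd) (inter_even_24 hα hB he hd))
  have heq : symmDiff b c = e := by
    refine (eq_of_subset_of_card_le (s := symmDiff b c) ?_ (by rw [hT, hB.1 e he]))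
    intro a ha
    have : symmDiff b c ∩ e = symmDiff b c := eq_of_subset_of_card_le inter_subset_left (by omega)
    rw [← this] at ha
    exact (mem_inter.mp ha).2
  rw [heq]
  exact he

theorem ncard_disjoint (b : Finset α) (hne : b.card ≠ 0) :
    {c : Finset α | c ∈ B ∧ Disjoint b c}.ncard = meetNum B b 0 := by
  rw [meetNum, ← Set.ncard_coe_finset]
  congr 1
  ext c
  simp only [Set.mem_ofPred_eq, coe_filter, mem_erase, mem_blockFinset, card_eq_zero,
    ← disjoint_iff_inter_eq_empty]
  constructor
  · rintro ⟨hc, hd⟩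
    refine ⟨⟨?_, hc⟩, hd⟩
    rintro rfl
    exact hne (card_eq_zero.mpr (disjoint_self.mp hd))
  · rintro ⟨⟨-, hc⟩, hd⟩; exact ⟨hc, hd⟩

theorem compl_mem_12 (hα : Fintype.card α = 12) (hB : IsSteinerSystem 5 6 B) {b : Finset α}
    (hb : b ∈ B) : bᶜ ∈ B := by
  obtain ⟨h0, -⟩ := meetNum_12 hα hB hb
  obtain ⟨c, hc⟩ := card_pos.mp (h0 ▸ Nat.one_pos : 0 < meetNum B b 0)
  rw [mem_filter, mem_erase, mem_blockFinset, card_eq_zero, ← disjoint_iff_inter_eq_empty] at hc
  have : c = bᶜ := by
    refine eq_of_subset_of_card_le (fun a ha => ?_) ?_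
    · rw [mem_compl]
      exact fun hab => disjoint_left.mp hc.2 hab ha
    · rw [card_compl, hα, hB.1 b hb, hB.1 c hc.1.2]
  rw [← this]
  exact hc.1.2

theorem derived (hB : IsSteinerSystem (t + 1) (k + 1) B) (p : α) :
    IsSteinerSystem t k {b' : Finset {a : α // a ≠ p} |
      ∃ b ∈ B, p ∈ b ∧ b' = Finset.subtype (fun a => a ≠ p) b} := by
  refine ⟨?_, fun s hs => ?_⟩
  · rintro _ ⟨b, hb, hp, rfl⟩
    rw [card_subtype, filter_ne', card_erase_of_mem hp, hB.1 b hb]
    rfl
  · have hp : p ∉ s.map (Function.Embedding.subtype _) := by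
      intro h
      obtain ⟨q, -, hq⟩ := mem_map.mp h
      exact q.2 hq
    obtain ⟨b, ⟨hb, hsub⟩, huniq⟩ := hB.2 (insert p (s.map (Function.Embedding.subtype _)))
      (by rw [card_insert_of_notMem hp, card_map, hs])
    refine ⟨Finset.subtype (fun a => a ≠ p) b, ⟨⟨b, hb, hsub (mem_insert_self _ _), rfl⟩, ?_⟩, ?_⟩
    · intro q hq
      exact mem_subtype.mpr (hsub (mem_insert_of_mem (mem_map_of_mem _ hq)))
    · rintro _ ⟨⟨c, hc, hpc, rfl⟩, hsc⟩
      rw [huniq c ⟨hc, insert_subset hpc fun a ha => ?_⟩]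
      obtain ⟨q, hq, rfl⟩ := mem_map.mp ha
      exact mem_subtype.mp (hsc hq)

end Cfsg.Agent.Lib.Design
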