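import Cfsg.Agent.Lib.Design.Steiner

/-!
# Finite checks for the uniqueness of S(5,6,12)

A block `O` and its complement `O'` are fixed.  A pair of points of `O` gives a syntheme of `O'`, a
point of `O` gives a total (five disjoint synthemes), and the six totals are distinct; after
relabelling `O` accordingly, 92 blocks are known and every other block is forced.
-/

namespace Cfsg.Agent.Lib.Design

open Cfsg Finset

/-- The standard S(5,6,12) as masks on `Fin 12`. -/
def std12 : List ℕ :=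
  [0x3f, 0xd7, 0xee, 0xf9, 0x14f, 0x173, 0x17c, 0x19d, 0x1ab, 0x1b6, 0x1da, 0x1e5, 0x25d, 0x267,
   0x27a, 0x29e, 0x2ad, 0x2b3, 0x2cb, 0x2f4, 0x31b, 0x32e, 0x335, 0x356, 0x369, 0x387, 0x3b8,
   0x3cc, 0x3d1, 0x3e2, 0x45b, 0x46d, 0x476, 0x48f, 0x4b5, 0x4ba, 0x4dc, 0x4e3, 0x51e, 0x527,
   0x539, 0x555, 0x56a, 0x593, 0x5ac, 0x5c6, 0x5c9, 0x5f0, 0x617, 0x62b, 0x63c, 0x64e, 0x671,
   0x699, 0x6a6, 0x6c5, 0x6d2, 0x6e8, 0x70d, 0x732, 0x743, 0x758, 0x764, 0x78a, 0x794, 0x7a1,
   0x85e, 0x86b, 0x875, 0x89b, 0x8a7, 0x8bc, 0x8cd, 0x8f2, 0x917, 0x92d, 0x93a, 0x959, 0x966,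
   0x98e, 0x9b1, 0x9c3, 0x9d4, 0x9e8, 0xa0f, 0xa36, 0xa39, 0xa53, 0xa6c, 0xa95, 0xaaa, 0xac6,
   0xad8, 0xae1, 0xb1c, 0xb23, 0xb45, 0xb4a, 0xb70, 0xb89, 0xb92, 0xba4, 0xc1d, 0xc2e, 0xc33,
   0xc47, 0xc78, 0xc96, 0xca9, 0xcca, 0xcd1, 0xce4, 0xd0b, 0xd34, 0xd4c, 0xd52, 0xd61, 0xd85,
   0xd98, 0xda2, 0xe1a, 0xe25, 0xe49, 0xe54, 0xe62, 0xe83, 0xe8c, 0xeb0, 0xf06, 0xf11, 0xf28,
   0xfc0]

/-- Partners in the fifteen synthemes of six points. -/
def synTab : List (List ℕ) :=
  [[1, 0, 3, 2, 5, 4], [1, 0, 4, 5, 2, 3], [1, 0, 5, 4, 3, 2], [2, 3, 0, 1, 5, 4],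
   [2, 4, 0, 5, 1, 3], [2, 5, 0, 4, 3, 1], [3, 2, 1, 0, 5, 4], [3, 4, 5, 0, 1, 2],
   [3, 5, 4, 0, 2, 1], [4, 2, 1, 5, 0, 3], [4, 3, 5, 1, 0, 2], [4, 5, 3, 2, 0, 1],
   [5, 2, 1, 4, 3, 0], [5, 3, 4, 1, 2, 0], [5, 4, 3, 2, 1, 0]]

/-- The six totals, indexed by the six points of the first block. -/
def totTab : List (List ℕ) :=
  [[0, 5, 7, 9, 13], [1, 5, 6, 10, 14], [1, 3, 7, 11, 12], [2, 3, 8, 9, 14], [0, 4, 8, 10, 12], [2, 4, 6, 11, 13]]

/-- The syntheme attached to a pair of points of the first block. -/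
def phiTab : List (List ℕ) :=
  [[0, 5, 7, 9, 0, 13], [5, 0, 1, 14, 10, 6], [7, 1, 0, 3, 12, 11], [9, 14, 3, 0, 8, 2], [0, 10, 12, 8, 0, 4], [13, 6, 11, 2, 4, 0]]

/-- The points of a mask. -/
def pts12 (m : ℕ) : Finset (Fin 12) := Finset.univ.filter fun i => m.testBit i

/-- The standard S(5,6,12). -/
def stdSet12 : Set (Finset (Fin 12)) := pts12 '' {m | m ∈ std12}

/-- Population count below 12. -/
def pop12 (m : ℕ) : ℕ := (List.range 12).countP fun i => m.testBit i

theorem card_pts12 (m : ℕ) : (pts12 m).card = pop12 m := by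
  rw [pop12, List.countP_eq_length_filter, ← List.toFinset_card_of_nodup (List.nodup_range.filter _),
    ← card_map Fin.valEmbedding]
  congr 1
  ext i
  simp only [pts12, mem_map, mem_filter, mem_univ, true_and, Fin.valEmbedding_apply,
    List.mem_toFinset, List.mem_filter, List.mem_range]
  constructor
  · rintro ⟨j, hj, rfl⟩; exact ⟨j.isLt, hj⟩
  · rintro ⟨hi, hb⟩; exact ⟨⟨i, hi⟩, hb, rfl⟩

theorem pts12_land (a b : ℕ) : pts12 (a &&& b) = pts12 a ∩ pts12 b := by
  ext i
  simp [pts12, Nat.testBit_land]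

theorem pts12_injOn {a b : ℕ} (ha : a < 4096) (hb : b < 4096) (h : pts12 a = pts12 b) : a = b := by
  refine Nat.eq_of_testBit_eq fun i => ?_
  by_cases hi : i < 12
  · have := congrArg (fun s => (⟨i, hi⟩ : Fin 12) ∈ s) h
    simpa [pts12] using this
  · have hle : (4096 : ℕ) ≤ 2 ^ i :=
      le_trans (le_of_eq (by norm_num)) (Nat.pow_le_pow_right (by decide) (by omega : 12 ≤ i))
    rw [Nat.testBit_lt_two_pow (lt_of_lt_of_le ha hle), Nat.testBit_lt_two_pow (lt_of_lt_of_le hb hle)]

theorem exists_mask12 (s : Finset (Fin 12)) : ∃ m < 4096, pts12 m = s := by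
  induction s using Finset.induction with
  | empty => exact ⟨0, by norm_num, by ext i; simp [pts12]⟩
  | insert a s _ ih =>
    obtain ⟨m, hm, rfl⟩ := ih
    refine ⟨m ||| 1 <<< (a : ℕ), ?_, ?_⟩
    · refine Nat.or_lt_two_pow (n := 12) (by simpa using hm) ?_
      rw [Nat.one_shiftLeft]
      exact Nat.pow_lt_pow_right (by decide) a.isLt
    · ext p
      simp only [pts12, mem_filter, mem_univ, true_and, mem_insert, Nat.testBit_lor,
        Nat.one_shiftLeft, Nat.testBit_two_pow, Bool.or_eq_true, decide_eq_true_eq, Fin.val_inj]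
      tauto

/-- Partner of a point in a syntheme. -/
def synP (s : Fin 15) (u : Fin 6) : Fin 6 := Fin.ofNat 6 ((synTab.getD s []).getD u 0)

/-- The synthemes of a total. -/
def totSet (t : Fin 6) : Finset (Fin 15) := ((totTab.getD t []).map (Fin.ofNat 15)).toFinset

/-- The syntheme of a pair of points in the standard system. -/
def phi12 (i j : Fin 6) : Fin 15 := Fin.ofNat 15 ((phiTab.getD i []).getD j 0)

/-- All the points of the first block except `i`, `j`. -/
def quad12 (i j : Fin 6) : ℕ := 63 ^^^ ((1 <<< (i : ℕ)) ^^^ (1 <<< (j : ℕ)))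

/-- A block meeting the first block in four points. -/
def blk12 (i j u v : Fin 6) : ℕ :=
  quad12 i j ||| ((1 <<< (6 + (u : ℕ))) ||| (1 <<< (6 + (v : ℕ))))

/-- Three points of the first block, two of the second. -/
def five12 (i j k u v : Fin 6) : ℕ :=
  (63 ^^^ ((1 <<< (i : ℕ)) ^^^ (1 <<< (j : ℕ)) ^^^ (1 <<< (k : ℕ))))
    ||| ((1 <<< (6 + (u : ℕ))) ||| (1 <<< (6 + (v : ℕ))))

/-- The 92 blocks that meet the first one in 0, 2, 4 or 6 points. -/
def known12 : List ℕ :=
  let l := (List.finRange 6).flatMap fun i => (List.finRange 6).flatMap fun j =>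
    if i < j then ((List.finRange 6).filter fun u => u < synP (phi12 i j) u).map
      fun u => blk12 i j u (synP (phi12 i j) u)
    else []
  [63, 4032] ++ l ++ l.map (4095 ^^^ ·)

theorem blk12_testBit : ∀ i j u v : Fin 6, i ≠ j → ∀ x : Fin 6,
    (blk12 i j u v).testBit (Fin.castAdd 6 x : Fin 12) = decide (x ≠ i ∧ x ≠ j) ∧
    (blk12 i j u v).testBit (Fin.natAdd 6 x : Fin 12) = decide (x = u ∨ x = v) := by decide +kernel

theorem blk12_pop : ∀ i j u v : Fin 6, i ≠ j → u ≠ v → pop12 (blk12 i j u v) = 6 := by decide +kernel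

theorem blk12_facts : ∀ i j u v : Fin 6, i ≠ j →
    blk12 i j u v < 4096 ∧ blk12 i j u v = blk12 j i u v ∧ blk12 i j u v = blk12 i j v u := by
  decide +kernel

/-- The last three values of an involution of six points are forced to be a syntheme. -/
def invTail (a b c : Fin 6) : Bool :=
  (List.finRange 6).all fun d =>
    !decide (d ≠ 3 ∧ (a = 3 → d = 0) ∧ (b = 3 → d = 1) ∧ (c = 3 → d = 2)) ||
    (List.finRange 6).all fun e =>
      !decide (e ≠ 4 ∧ (a = 4 → e = 0) ∧ (b = 4 → e = 1) ∧ (c = 4 → e = 2) ∧ (d = 4 → e = 3)) ||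
      (List.finRange 6).all fun f =>
        !(decide (f ≠ 5) &&
          (List.finRange 6).all fun u => ![a, b, c, d, e, f] (![a, b, c, d, e, f] u) == u) ||
        (List.finRange 15).any fun s =>
          (List.finRange 6).all fun u => synP s u == ![a, b, c, d, e, f] u

theorem invTail_true : ∀ a : Fin 6, a ≠ 0 → ∀ b : Fin 6, b ≠ 1 → (a = 1 → b = 0) →
    ∀ c : Fin 6, c ≠ 2 → (a = 2 → c = 0) → (b = 2 → c = 1) → invTail a b c = true := by
  decide +kernel

theorem syn_of_involution (a : Fin 6) (ha : a ≠ 0) (b : Fin 6) (hb : b ≠ 1) (hab : a = 1 → b = 0)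
    (c : Fin 6) (hc : c ≠ 2) (hac : a = 2 → c = 0) (hbc : b = 2 → c = 1)
    (d : Fin 6) (hd : d ≠ 3) (had : a = 3 → d = 0) (hbd : b = 3 → d = 1) (hcd : c = 3 → d = 2)
    (e : Fin 6) (he : e ≠ 4) (hae : a = 4 → e = 0) (hbe : b = 4 → e = 1) (hce : c = 4 → e = 2)
    (hde : d = 4 → e = 3) (f : Fin 6) (hf : f ≠ 5)
    (hinv : ∀ u : Fin 6, ![a, b, c, d, e, f] (![a, b, c, d, e, f] u) = u) :
    ∃ s : Fin 15, ∀ u : Fin 6, synP s u = ![a, b, c, d, e, f] u := by
  have h := invTail_true a ha b hb hab c hc hac hbc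
  simp only [invTail, List.all_eq_true, List.mem_finRange, forall_const] at h
  have h1 := h d
  rw [decide_eq_true (⟨hd, had, hbd, hcd⟩ : d ≠ 3 ∧ _), Bool.not_true, Bool.false_or] at h1
  simp only [List.all_eq_true, List.mem_finRange, forall_const] at h1
  have h2 := h1 e
  rw [decide_eq_true (⟨he, hae, hbe, hce, hde⟩ : e ≠ 4 ∧ _), Bool.not_true, Bool.false_or] at h2
  simp only [List.all_eq_true, List.mem_finRange, forall_const] at h2
  have h3 := h2 f
  have hA : ((List.finRange 6).all fun u =>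
      ![a, b, c, d, e, f] (![a, b, c, d, e, f] u) == u) = true := by
    rw [List.all_eq_true]; exact fun u _ => beq_iff_eq.mpr (hinv u)
  rw [hA, decide_eq_true hf, Bool.and_self, Bool.not_true, Bool.false_or, List.any_eq_true] at h3
  obtain ⟨s, -, hs⟩ := h3
  exact ⟨s, fun u => beq_iff_eq.mp (List.all_eq_true.mp hs u (List.mem_finRange u))⟩

theorem synP_facts : ∀ (s : Fin 15) (u : Fin 6), synP s (synP s u) = u ∧ synP s u ≠ u := by
  decide +kernel

theorem synP_inj : ∀ s t : Fin 15, (∀ u : Fin 6, synP s u = synP t u) → s = t := by decide +kernel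

/-- Two synthemes have no pair in common. -/
def synDisj (a b : Fin 15) : Bool := (List.finRange 6).all fun u => synP a u != synP b u

/-- Sorted five-element cliques of the disjointness relation are the totals. -/
def totsOK : Bool :=
  (List.finRange 15).all fun a => (List.finRange 15).all fun b =>
    !(decide (a < b) && synDisj a b) || (List.finRange 15).all fun c =>
      !(decide (b < c) && synDisj a c && synDisj b c) || (List.finRange 15).all fun d =>
        !(decide (c < d) && synDisj a d && synDisj b d && synDisj c d) ||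
        (List.finRange 15).all fun e =>
          !(decide (d < e) && synDisj a e && synDisj b e && synDisj c e && synDisj d e) ||
            totTab.contains [a.val, b.val, c.val, d.val, e.val]

theorem totsOK_true : totsOK = true := by decide +kernel

theorem five_disjoint : ∀ F ∈ (Finset.univ : Finset (Fin 15)).powersetCard 5,
    (∀ a ∈ F, ∀ b ∈ F, a ≠ b → ∀ u : Fin 6, synP a u ≠ synP b u) → ∃ t : Fin 6, F = totSet t := by
  intro F hF hdis
  have hlen : (F.sort (· ≤ ·)).length = 5 := by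
    rw [Finset.length_sort]; exact (Finset.mem_powersetCard.mp hF).2
  obtain ⟨a, b, c, d, e, hl⟩ : ∃ a b c d e, F.sort (· ≤ ·) = [a, b, c, d, e] := by
    match h : F.sort (· ≤ ·), hlen with
    | [a, b, c, d, e], _ => exact ⟨a, b, c, d, e, rfl⟩
  have hnd : List.Pairwise (· < ·) [a, b, c, d, e] := by
    rw [← hl]; exact (Finset.sortedLT_sort F).pairwise
  simp [List.pairwise_cons] at hnd
  have hF' : F = [a, b, c, d, e].toFinset := by rw [← hl, Finset.sort_toFinset]
  have hd : ∀ x y, x ∈ F → y ∈ F → x < y → synDisj x y = true := fun x y hx hy hxy => by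
    simp only [synDisj, List.all_eq_true, bne_iff_ne]
    exact fun u _ => hdis x hx y hy hxy.ne u
  have m1 : a ∈ F := by simp [hF']
  have m2 : b ∈ F := by simp [hF']
  have m3 : c ∈ F := by simp [hF']
  have m4 : d ∈ F := by simp [hF']
  have m5 : e ∈ F := by simp [hF']
  obtain ⟨⟨ab, ac, ad, ae⟩, ⟨bc, bd, be⟩, ⟨cd, ce⟩, de⟩ := hnd
  have h := totsOK_true
  simp only [totsOK, List.all_eq_true, List.mem_finRange, forall_const] at h
  have h1 := h a b
  simp only [ab, hd a b m1 m2 ab, decide_true, Bool.and_self, Bool.not_true, Bool.false_or,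
    List.all_eq_true, List.mem_finRange, forall_const] at h1
  have h2 := h1 c
  simp only [bc, hd a c m1 m3 ac, hd b c m2 m3 bc, decide_true, Bool.and_self, Bool.not_true,
    Bool.false_or, List.all_eq_true, List.mem_finRange, forall_const] at h2
  have h3 := h2 d
  simp only [cd, hd a d m1 m4 ad, hd b d m2 m4 bd, hd c d m3 m4 cd, decide_true, Bool.and_self,
    Bool.not_true, Bool.false_or, List.all_eq_true, List.mem_finRange, forall_const] at h3
  have h4 := h3 e
  simp only [de, hd a e m1 m5 ae, hd b e m2 m5 be, hd c e m3 m5 ce, hd d e m4 m5 de, decide_true,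
    Bool.and_self, Bool.not_true, Bool.false_or, List.contains_iff_mem] at h4
  obtain ⟨i, hi, he⟩ := List.getElem_of_mem h4
  refine ⟨⟨i, hi⟩, ?_⟩
  rw [hF', totSet, List.getD_eq_getElem _ _ hi, he]
  simp [Fin.ofNat, Nat.mod_eq_of_lt]

theorem totSet_inter : ∀ a b : Fin 6, a ≠ b → totSet a ∩ totSet b = {phi12 a b} := by decide +kernel

set_option synthInstance.maxSize 1000 in
theorem totSet_hexagon : ∀ t : Fin 6, ∀ p ∈ totSet t, ∀ q ∈ totSet t, ∀ r ∈ totSet t,
    p ≠ q → p ≠ r → q ≠ r →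
    (∃ u v : Fin 6, u ≠ v ∧ synP p u ≠ v ∧ synP q u ≠ v ∧ synP r u ≠ v) ∧
    (∀ u v w : Fin 6, u ≠ v → u ≠ w → v ≠ w →
      synP p u = v ∨ synP q u = v ∨ synP r u = v ∨ synP p u = w ∨ synP q u = w ∨ synP r u = w ∨
      synP p v = w ∨ synP q v = w ∨ synP r v = w) := by decide +kernel

theorem phi12_covers : ∀ s : Fin 15, ∃ i j : Fin 6, i ≠ j ∧ phi12 i j = s := by decide +kernel

theorem synP_separates : ∀ u w : Fin 6, u ≠ w → ∃ s t : Fin 15,
    synP s u = synP t u ∧ synP s w ≠ synP t w := by decide +kernel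

/-- Population count below 4096, by nibbles. -/
def popN (m : ℕ) : ℕ :=
  (0x4332322132212110 >>> (4 * (m % 16))) % 16 + (0x4332322132212110 >>> (4 * (m / 16 % 16))) % 16
    + (0x4332322132212110 >>> (4 * (m / 256))) % 16

theorem popN_eq : ((List.range 4096).all fun m => pop12 m == popN m) = true := by decide +kernel

theorem pop12_eq_popN {m : ℕ} (hm : m < 4096) : pop12 m = popN m :=
  beq_iff_eq.mp (List.all_eq_true.mp popN_eq m (List.mem_range.mpr hm))

/-- `known12`, evaluated. -/
def known12Tab : List ℕ := [63, 4032, 380, 2236, 1596, 634, 1210, 2362, 1142, 438, 2614, 238, 814, 3118, 2142, 670, 1310, 249, 1337, 2617, 2165, 1205, 821, 1133, 685, 2349, 605, 413, 3101, 371, 691, 3123, 2155, 427, 1579, 1115, 2203, 795, 615, 2215, 1319, 215, 2327, 1559, 335, 1167, 2575, 3715, 1859, 2499, 3461, 2885, 1733, 2953, 3657, 1481, 3857, 3281, 977, 1953, 3425, 2785, 3846, 2758, 1478, 1930, 2890, 3274, 2962, 3410, 1746, 3490, 3682, 994, 3724, 3404, 972, 1940, 3668, 2516, 2980, 1892,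 3300, 3480, 1880, 2776, 3880, 1768, 2536, 3760, 2928, 1520]

theorem known12_eq : known12 = known12Tab := by decide +kernel

theorem known12_forces_aux : ((List.range 4096).all fun m => (popN m != 6) || std12.contains m ||
    known12Tab.any fun k => (k != m) && Nat.ble 5 (popN (m &&& k))) = true := by decide +kernel

theorem known12_forces : ((List.range 4096).all fun m => (pop12 m != 6) || std12.contains m ||
    known12.any fun k => (k != m) && decide (5 ≤ pop12 (m &&& k))) = true := by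
  have hp : ∀ m < 4096, pop12 m = popN m := fun m hm =>
    beq_iff_eq.mp (List.all_eq_true.mp popN_eq m (List.mem_range.mpr hm))
  rw [List.all_eq_true]
  intro m hm
  have h := List.all_eq_true.mp known12_forces_aux m hm
  rw [List.mem_range] at hm
  simp only [known12_eq, hp m hm, hp _ (lt_of_le_of_lt Nat.and_le_left hm)]
  simpa [Nat.ble_eq] using h

theorem std12_facts : (std12.all fun m => decide (m < 4096) && (pop12 m == 6)) = true
    ∧ std12.length = 132 := by decide +kernel

/-- Blocks over two pairs with a common point and the same outer pair meet in five points. -/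
def pairMeetOK : Bool :=
  (List.finRange 6).all fun i => (List.finRange 6).all fun j => (List.finRange 6).all fun k =>
    !decide (i ≠ j ∧ i ≠ k ∧ j ≠ k) ||
    (List.finRange 6).all fun u => (List.finRange 6).all fun v => decide (v = u) ||
      (Nat.ble 5 (popN (blk12 i j u v &&& blk12 i k u v)) && blk12 i j u v != blk12 i k u v)

theorem pairMeetOK_true : pairMeetOK = true := by decide +kernel

theorem pairMeet {i j k u v : Fin 6} (hij : i ≠ j) (hik : i ≠ k) (hjk : j ≠ k) (huv : v ≠ u) :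
    5 ≤ pop12 (blk12 i j u v &&& blk12 i k u v) ∧ blk12 i j u v ≠ blk12 i k u v := by
  have h := pairMeetOK_true
  simp only [pairMeetOK, List.all_eq_true, List.mem_finRange, forall_const] at h
  have h1 := h i j k
  simp only [hij, hik, hjk, ne_eq, not_false_eq_true, and_self, decide_true, Bool.not_true,
    Bool.false_or, List.all_eq_true, List.mem_finRange, forall_const] at h1
  have h2 := h1 u v
  simp only [decide_eq_false huv, Bool.false_or, Bool.and_eq_true, Nat.ble_eq, bne_iff_ne] at h2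
  exact ⟨by rw [pop12_eq_popN (lt_of_le_of_lt Nat.and_le_left (blk12_facts i j u v hij).1)]
            exact h2.1, h2.2⟩

/-- The possible sixth points over a five-point set meeting the first block in three points. -/
def shapeOK : Bool :=
  (List.finRange 6).all fun i => (List.finRange 6).all fun j => (List.finRange 6).all fun k =>
    !decide (i ≠ j ∧ i ≠ k ∧ j ≠ k) ||
    (List.finRange 6).all fun u => (List.finRange 6).all fun v => decide (u = v) ||
      (List.finRange 12).all fun n =>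
        let c := five12 i j k u v ||| 1 <<< (n : ℕ)
        popN c != 6 || c == blk12 i j u v || c == blk12 i k u v || c == blk12 j k u v ||
          (List.finRange 6).any fun w => decide (w ≠ u ∧ w ≠ v ∧ (n : ℕ) = 6 + (w : ℕ)) &&
            [(i, j), (i, k), (j, k)].all fun p => [(u, w), (v, w)].all fun q =>
              Nat.ble 5 (popN (c &&& blk12 p.1 p.2 q.1 q.2)) && c != blk12 p.1 p.2 q.1 q.2

theorem shapeOK_true : shapeOK = true := by decide +kernel

theorem shape12 {i j k u v : Fin 6} (hij : i ≠ j) (hik : i ≠ k) (hjk : j ≠ k) (huv : u ≠ v)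
    (hlt : five12 i j k u v < 4096) (n : Fin 12)
    (h6 : pop12 (five12 i j k u v ||| 1 <<< (n : ℕ)) = 6) :
    (∃ w : Fin 6, w ≠ u ∧ w ≠ v ∧ ∀ x y z z' : Fin 6,
      ((x = i ∧ y = j) ∨ (x = i ∧ y = k) ∨ (x = j ∧ y = k)) →
      ((z = u ∧ z' = w) ∨ (z = v ∧ z' = w)) →
        5 ≤ pop12 ((five12 i j k u v ||| 1 <<< (n : ℕ)) &&& blk12 x y z z') ∧
          five12 i j k u v ||| 1 <<< (n : ℕ) ≠ blk12 x y z z') ∨
    five12 i j k u v ||| 1 <<< (n : ℕ) = blk12 i j u v ∨
    five12 i j k u v ||| 1 <<< (n : ℕ) = blk12 i k u v ∨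
    five12 i j k u v ||| 1 <<< (n : ℕ) = blk12 j k u v := by
  have hc : five12 i j k u v ||| 1 <<< (n : ℕ) < 4096 :=
    Nat.or_lt_two_pow (n := 12) (by simpa using hlt) (by
      rw [Nat.one_shiftLeft]; exact Nat.pow_lt_pow_right (by decide) n.isLt)
  have h := shapeOK_true
  simp only [shapeOK, List.all_eq_true, List.mem_finRange, forall_const] at h
  have h1 := h i j k
  simp only [hij, hik, hjk, ne_eq, not_false_eq_true, and_self, decide_true, Bool.not_true,
    Bool.false_or, List.all_eq_true, List.mem_finRange, forall_const] at h1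
  have h2 := h1 u v
  simp only [decide_eq_false huv, Bool.false_or, List.all_eq_true, List.mem_finRange,
    forall_const] at h2
  have h3 := h2 n
  rw [← pop12_eq_popN hc, h6] at h3
  simp only [bne_self_eq_false, Bool.false_or, Bool.or_eq_true, beq_iff_eq, List.any_eq_true,
    List.mem_finRange, true_and, Bool.and_eq_true, decide_eq_true_eq] at h3
  rcases h3 with ((h3 | h3) | h3) | ⟨w, ⟨hwu, hwv, -⟩, hall⟩
  · exact Or.inr (Or.inl h3)
  · exact Or.inr (Or.inr (Or.inl h3))
  · exact Or.inr (Or.inr (Or.inr h3))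
  · refine Or.inl ⟨w, hwu, hwv, fun x y z z' hxy hz => ?_⟩
    simp only [List.all_eq_true, List.mem_cons, List.not_mem_nil, or_false, forall_eq_or_imp,
      forall_eq, Bool.and_eq_true, Nat.ble_eq, bne_iff_ne] at hall
    rw [pop12_eq_popN (lt_of_le_of_lt Nat.and_le_left hc)]
    rcases hxy with ⟨rfl, rfl⟩ | ⟨rfl, rfl⟩ | ⟨rfl, rfl⟩ <;>
      rcases hz with ⟨rfl, rfl⟩ | ⟨rfl, rfl⟩
    · exact hall.1.1
    · exact hall.1.2
    · exact hall.2.1.1
    · exact hall.2.1.2
    · exact hall.2.2.1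
    · exact hall.2.2.2

/-- Blocks over one pair with a common outer point meet in five points. -/
theorem pairSame : ∀ i j u v w : Fin 6, i ≠ j → v ≠ u → w ≠ u →
    5 ≤ pop12 (blk12 i j u v &&& blk12 i j u w) ∧
      (blk12 i j u v = blk12 i j u w → v = w) := by decide +kernel

end Cfsg.Agent.Lib.Design
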