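import Cfsg.Agent.Lib.Design.DerivedMasks

/-!
# Uniqueness and automorphisms of S(4,7,23)
-/

namespace Cfsg.Agent.Lib.Design

open Cfsg Finset Cfsg.Agent.Lib.Compute
open scoped Pointwise

/-- The points other than the extra point. -/
abbrev Pt23 : Type := {p : GolayPt // p ≠ none}

/-- The blocks of the standard S(4,7,23). -/
def blocks23 : Set (Finset Pt23) :=
  {b' | ∃ b ∈ octads, (none : GolayPt) ∈ b ∧ b' = Finset.subtype (fun a => a ≠ none) b}

theorem steiner_blocks23 : IsSteinerSystem 4 7 blocks23 :=
  derived (t := 4) (k := 7) isSteinerSystem_octads (none : GolayPt)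

theorem card_Pt23 : Fintype.card Pt23 = 23 := by decide +kernel

theorem ncard_23 {α : Type*} [Fintype α] [DecidableEq α] (hα : Fintype.card α = 23)
    {B : Set (Finset α)} (hB : IsSteinerSystem 4 7 B) : B.ncard = 253 := by
  have h := block_count hB
  rw [hα, show Nat.choose 7 4 = 35 from rfl, show Nat.choose 23 4 = 8855 by decide +kernel] at h
  omega

variable {α : Type*} [Fintype α] [DecidableEq α] {B : Set (Finset α)}

theorem parity_set_23 (hα : Fintype.card α = 23) (hB : IsSteinerSystem 4 7 B) {s : Finset α}
    (hs : s.card ≤ 7) {p : ℕ} (hp : p < 2) (h : ∀ b ∈ B, (s ∩ b).card % 2 = p) :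
    (p = 0 ∧ s.card = 0) ∨ (p = 1 ∧ s.card = 7) := by
  have e0 := hit_equation hB s (j := 0) (m := 253) (by decide) (by decide) (by rw [hα]; decide +kernel)
  have e1 := hit_equation hB s (j := 1) (m := 77) (by decide) (by decide) (by rw [hα]; decide +kernel)
  have e2 := hit_equation hB s (j := 2) (m := 21) (by decide) (by decide) (by rw [hα]; decide +kernel)
  have e3 := hit_equation hB s (j := 3) (m := 5) (by decide) (by decide) (by rw [hα]; decide +kernel)
  have e4 := hit_equation hB s (j := 4) (m := 1) (by decide) (by decide) (by rw [hα]; decide +kernel)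
  have hz : ∀ i, i % 2 ≠ p → hitNum B s i = 0 := fun i hi => hitNum_parity h hi
  interval_cases p
  · have z1 := hz 1 (by decide)
    have z3 := hz 3 (by decide)
    have z5 := hz 5 (by decide)
    have z7 := hz 7 (by decide)
    generalize s.card = c at *
    interval_cases c <;> simp [sum_range_succ, Nat.choose, z1, z3, z5, z7] at e0 e1 e2 e3 e4 ⊢ <;>
      omega
  · have z0 := hz 0 (by decide)
    have z2 := hz 2 (by decide)
    have z4 := hz 4 (by decide)
    have z6 := hz 6 (by decide)
    generalize s.card = c at *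
    interval_cases c <;> simp [sum_range_succ, Nat.choose, z0, z2, z4, z6] at e0 e1 e2 e3 e4 ⊢ <;>
      omega

/-- Every S(4,7,23) is the standard one. -/
theorem exists_famImg_blocks23 (hα : Fintype.card α = 23) (hB : IsSteinerSystem 4 7 B) :
    ∃ h : Pt23 ≃ α, B = famImg h blocks23 := by
  classical
  let F : Set (Finset (Option α)) := (fun b => insertNone b) '' B
  let C := famSpan F
  have hγ : Fintype.card (Option α) = 24 := by rw [Fintype.card_option, hα]
  have hF8 : ∀ c ∈ F, c.card = 8 := by
    rintro _ ⟨b, hb, rfl⟩; rw [card_insertNone, hB.1 b hb]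
  have heven : ∀ c ∈ F, ∀ d ∈ F, Even (c ∩ d).card := by
    rintro _ ⟨b, hb, rfl⟩ _ ⟨c, hc, rfl⟩
    rw [card_insertNone_inter, eraseNone_insertNone, if_pos (none_mem_insertNone)]
    rcases eq_or_ne b c with rfl | hne
    · rw [inter_self, hB.1 b hb]; decide
    · rcases inter_23 hα hB hb hc hne with e | e <;> rw [e] <;> decide
  have hD : ∀ v ∈ dualSpace C, (support₂ v).card = 0 ∨ 8 ≤ (support₂ v).card := by
    intro v hv
    rw [mem_dual_famSpan] at hv
    by_contra h
    push Not at h
    have hc := card_eq_eraseNone_add (support₂ v)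
    have hb : ∀ b ∈ B, ((eraseNone (support₂ v) ∩ b).card + if none ∈ support₂ v then 1 else 0) % 2
        = 0 := fun b hb => by
      rw [← Nat.even_iff, inter_comm, ← card_insertNone_inter]
      exact hv _ ⟨b, hb, rfl⟩
    split_ifs at hc hb with hn
    · rcases parity_set_23 hα hB (s := eraseNone (support₂ v)) (by omega) (p := 1) (by decide)
        (fun b hb' => by have := hb b hb'; omega) with ⟨e, -⟩ | ⟨-, e⟩ <;> omega
    · rcases parity_set_23 hα hB (s := eraseNone (support₂ v)) (by omega) (p := 0) (by decide)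
        (fun b hb' => by have := hb b hb'; omega) with ⟨-, e⟩ | ⟨e, -⟩ <;> omega
  have hle : C ≤ dualSpace C := famSpan_le_dual heven
  have hdim : Module.finrank (ZMod 2) C = 12 := by
    have h1 := finrank_dualSpace C
    have h2 := finrank_le_of_minWeight _ hγ hD
    have h3 := Submodule.finrank_mono hle
    rw [hγ] at h1
    omega
  obtain ⟨e, he⟩ := code_unique C hγ hdim
    (four_dvd_famSpan heven fun b hb => by rw [hF8 b hb]; decide)
    (fun w hw h4 => by rcases hD w (hle hw) with e | e <;> omega)
  obtain ⟨g, hg⟩ : ∃ g : M24, g • (none : GolayPt) = e.symm none := by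
    haveI := M24_multiplyPretransitive
    haveI : MulAction.IsPretransitive M24 GolayPt :=
      MulAction.isPretransitive_of_is_two_pretransitive
        (h2 := MulAction.isMultiplyPretransitive_of_le (n := 5) (by decide) (by
          rw [Nat.card_eq_fintype_card]; exact (by decide : 5 ≤ Fintype.card GolayPt)))
    exact MulAction.exists_smul_eq M24 none (e.symm none)
  let e' : GolayPt ≃ Option α := (g : Equiv.Perm GolayPt).trans e
  have hnone : e' none = none := by
    show e (g • (none : GolayPt)) = none
    rw [hg, Equiv.apply_symm_apply]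
  have hblock : ∀ b ∈ B, (insertNone b).image e'.symm ∈ octads := by
    intro b hb
    have hFb : insertNone b ∈ F := ⟨b, hb, rfl⟩
    have h1 : (insertNone b).image e.symm ∈ octads := by
      have hw := (he (indWord (insertNone b))).mpr (Submodule.subset_span ⟨_, hFb, rfl⟩)
      refine ⟨⟨_, hw, ?_⟩, by rw [card_image_of_injective _ e.symm.injective, hF8 _ hFb]⟩
      ext p
      simp [support₂, indWord, Equiv.symm_apply_eq]
    have h2 := smul_mem_octads (g⁻¹).2 h1
    rw [smul_finset_eq_image, image_image] at h2
    exact h2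
  let h : Pt23 ≃ α := (e'.subtypeEquiv (p := fun p => p ≠ none) (q := fun o => o ≠ none)
      (fun p => not_congr (by rw [← e'.injective.eq_iff, hnone]))).trans
    ((Equiv.subtypeEquivRight (fun o => Option.isSome_iff_ne_none.symm)).trans
      (Equiv.optionIsSomeEquiv α))
  refine ⟨h, ?_⟩
  have hsome : ∀ q : Pt23, some (h q) = e' (q : GolayPt) := fun q => by
    simp [h]
  have hinv : famImg h.symm B = blocks23 := by
    refine eq_famImg_of_maps h.symm.injective (fun b hb => ?_) ?_
    · refine ⟨_, hblock b hb, ?_, ?_⟩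
      · rw [mem_image]
        exact ⟨none, none_mem_insertNone, by rw [Equiv.symm_apply_eq, hnone]⟩
      · ext q
        simp only [mem_image, mem_subtype]
        constructor
        · rintro ⟨a, ha, rfl⟩
          refine ⟨some a, some_mem_insertNone.mpr ha, ?_⟩
          rw [Equiv.symm_apply_eq, ← hsome, Equiv.apply_symm_apply]
        · rintro ⟨o, ho, hoe⟩
          rw [Equiv.symm_apply_eq, ← hsome] at hoe
          subst hoe
          exact ⟨h q, some_mem_insertNone.mp ho, h.symm_apply_apply q⟩
    · rw [ncard_23 hα hB, ncard_23 card_Pt23 steiner_blocks23]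
  rw [← hinv, famImg_famImg, Equiv.self_comp_symm, famImg_id]

/-- The point stabiliser of `M24` is the automorphism group of the standard S(4,7,23). -/
theorem exists_equiv_aut23 :
    ∃ f : MulAction.stabilizer M24 (none : GolayPt) ≃* setSystemAut blocks23,
      ∀ σ (p : Pt23), (((f σ : Equiv.Perm Pt23) p : Pt23) : GolayPt)
        = (σ : M24) • (p : GolayPt) := by
  classical
  have hinv : ∀ σ : MulAction.stabilizer M24 (none : GolayPt), ∀ p : GolayPt,
      ((σ : M24) : Equiv.Perm GolayPt) p ≠ none ↔ p ≠ none := by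
    intro σ p
    have h0 : ((σ : M24) : Equiv.Perm GolayPt) none = none := σ.2
    exact ⟨fun h e => h (e ▸ h0), fun h e => h (((σ : M24) : Equiv.Perm GolayPt).injective (e.trans h0.symm))⟩
  let res : MulAction.stabilizer M24 (none : GolayPt) →* Equiv.Perm Pt23 :=
    { toFun := fun σ => ((σ : M24) : Equiv.Perm GolayPt).subtypePerm (fun p => hinv σ p)
      map_one' := by ext p; rfl
      map_mul' := fun σ τ => by ext p; rfl }
  have hcoe : ∀ σ p, ((res σ p : Pt23) : GolayPt) = (σ : M24) • (p : GolayPt) := fun σ p => rfl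
  have hres : Function.Injective res := by
    intro σ τ he
    apply Subtype.ext
    apply Subtype.ext
    refine Equiv.ext fun p => ?_
    rcases eq_or_ne p none with rfl | hp
    · exact (σ.2 : (σ : M24) • (none : GolayPt) = none).trans τ.2.symm
    · exact congrArg (fun π : Equiv.Perm Pt23 => ((π ⟨p, hp⟩ : Pt23) : GolayPt)) he
  have hrange : res.range = setSystemAut blocks23 := by
    refine le_antisymm ?_ ?_
    · rintro _ ⟨σ, rfl⟩
      rw [MulAction.mem_stabilizer_iff, smul_eq_famImg]
      refine eq_famImg_of_maps (res σ).injective ?_ le_rfl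
      rintro _ ⟨o, ho, hno, rfl⟩
      refine ⟨((σ : M24) : Equiv.Perm GolayPt) • o, smul_mem_octads (σ : M24).2 ho, ?_, ?_⟩
      · have hs : ((σ : M24) : Equiv.Perm GolayPt).symm none = none :=
          (Equiv.symm_apply_eq _).mpr
            (σ.2 : ((σ : M24) : Equiv.Perm GolayPt) none = none).symm
        rw [mem_smul_finset_iff, hs]
        exact hno
      · ext q
        simp only [mem_image, mem_subtype, mem_smul_finset_iff]
        constructor
        · rintro ⟨r, hr, rfl⟩
          rwa [hcoe, show (σ : M24) • (r : GolayPt) = ((σ : M24) : Equiv.Perm GolayPt) r from rfl,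
            Equiv.symm_apply_apply]
        · intro hq
          have hne : ((σ : M24) : Equiv.Perm GolayPt).symm (q : GolayPt) ≠ none := fun e =>
            q.2 (((Equiv.symm_apply_eq _).mp e).trans σ.2)
          exact ⟨⟨_, hne⟩, hq, Subtype.ext (Equiv.apply_symm_apply _ _)⟩
    · intro τ hτ
      let σ : Equiv.Perm GolayPt := Equiv.Perm.ofSubtype τ
      have h0 : σ none = none := Equiv.Perm.ofSubtype_apply_of_not_mem τ (by simp)
      rw [MulAction.mem_stabilizer_iff, smul_eq_famImg] at hτ
      have hσ : σ ∈ M24 := by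
        refine mem_M24_of_gens gens23 gens23_span fun m hm => comp_symm_mem_of_image_octad ?_
        obtain ⟨hc, h8, h23⟩ := gens23_facts m hm
        have hb : Finset.subtype (fun a => a ≠ none) (setOf24 m) ∈ blocks23 :=
          ⟨_, setOf24_mem_octads hc h8, mem_setOf24.mpr h23, rfl⟩
        have hb' : (Finset.subtype (fun a => a ≠ none) (setOf24 m)).image τ ∈ blocks23 := by
          rw [← hτ]; exact ⟨_, hb, rfl⟩
        obtain ⟨o, ho, hno, hoe⟩ := hb'
        have : (setOf24 m).image σ = o := by
          ext p
          rw [mem_image]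
          rcases eq_or_ne p none with rfl | hp
          · exact ⟨fun _ => hno, fun _ => ⟨none, mem_setOf24.mpr h23, h0⟩⟩
          · have hmem := congrArg (fun s => (⟨p, hp⟩ : Pt23) ∈ s) hoe
            simp only [mem_image, mem_subtype, eq_iff_iff] at hmem
            rw [← hmem]
            constructor
            · rintro ⟨r, hr, hre⟩
              have hr0 : r ≠ none := fun e => hp (by rw [← hre, e, h0])
              refine ⟨⟨r, hr0⟩, hr, Subtype.ext ?_⟩
              show ((τ ⟨r, hr0⟩ : Pt23) : GolayPt) = p
              rw [← hre, Equiv.Perm.ofSubtype_apply_of_mem τ hr0]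
            · rintro ⟨r, hr, hre⟩
              refine ⟨r, hr, ?_⟩
              rw [Equiv.Perm.ofSubtype_apply_of_mem τ r.2, hre]
        rw [this]
        exact ho
      refine ⟨⟨⟨σ, hσ⟩, h0⟩, Equiv.ext fun p => Subtype.ext ?_⟩
      show σ (p : GolayPt) = (τ p : Pt23)
      exact Equiv.Perm.ofSubtype_apply_of_mem τ p.2
  refine ⟨(MonoidHom.ofInjective hres).trans (MulEquiv.subgroupCongr hrange), fun σ p => ?_⟩
  exact hcoe σ p

theorem multiplyPretransitive_blocks23 :
    MulAction.IsMultiplyPretransitive (setSystemAut blocks23) Pt23 4 := by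
  obtain ⟨f, hf⟩ := exists_equiv_aut23
  rw [MulAction.isMultiplyPretransitive_iff]
  intro x y
  have hinj : ∀ x : Fin 4 ↪ Pt23, Function.Injective (Fin.cons none (fun i => ((x i : Pt23) : GolayPt)) : Fin 5 → GolayPt) :=
    fun x => Fin.cons_injective_iff.mpr ⟨fun ⟨i, hi⟩ => (x i).2 hi,
      Subtype.val_injective.comp x.injective⟩
  obtain ⟨g, hg⟩ := MulAction.isMultiplyPretransitive_iff.mp M24_multiplyPretransitive
    ⟨_, hinj x⟩ ⟨_, hinj y⟩
  have h0 : g • (none : GolayPt) = none := DFunLike.congr_fun hg 0
  refine ⟨f ⟨g, h0⟩, DFunLike.ext _ _ fun i => Subtype.ext ?_⟩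
  show (((f ⟨g, h0⟩ : Equiv.Perm Pt23) (x i) : Pt23) : GolayPt) = _
  rw [hf]
  exact DFunLike.congr_fun hg i.succ

end Cfsg.Agent.Lib.Design
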