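import Cfsg.Agent.Lib.Compute.GolayFacts
import Cfsg.Agent.Lib.Design.Steiner

/-!
# Uniqueness of the Steiner system S(5,8,24)

Fix a block `O`, six of its points and a point `x` outside.  The fifteen blocks through `x` and four
of the six points determine the other fifteen points; with `O` they generate an 11-dimensional
code, and one more block separating the last two points of `O` pins the code down.
-/

namespace Cfsg.Agent.Lib.Design

open Cfsg Finset Cfsg.Agent.Lib.Compute

/-- The first block of the frame. -/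
def octMask24 : ℕ := 0x149f

/-- Eleven independent blocks of the frame. -/
def subGens : List ℕ :=
  [0x149f, 0x82402f, 0xc0237, 0x1108a7, 0x21007b, 0x4820ab, 0x8081b3, 0x50803d, 0x401ed,
   0x2060b5, 0x293e]

/-- The fifteen four-point subsets of the six base points. -/
def quadMasks : List ℕ :=
  [0xf, 0x17, 0x87, 0x1b, 0x8b, 0x93, 0x1d, 0x8d, 0x95, 0x99, 0x1e, 0x8e, 0x96, 0x9a, 0x9c]

/-- For each four-point subset, the standard octad through it and the point 5. -/
def quadBlocks : List (ℕ × ℕ) :=
  [(0xf, 0x82402f), (0x17, 0xc0237), (0x87, 0x1108a7), (0x1b, 0x21007b), (0x8b, 0x4820ab),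
   (0x93, 0x8081b3), (0x1d, 0x50803d), (0x8d, 0x401ed), (0x95, 0x2060b5), (0x99, 0x20ab9),
   (0x1e, 0x293e), (0x8e, 0x2082ae), (0x96, 0x4200f6), (0x9a, 0x1440ba), (0x9c, 0x8900bc)]

/-- For each of the other fifteen points, two of its three four-point subsets. -/
def pointQuads : List (ℕ × ℕ × ℕ) :=
  [(6, 0x1b, 0x8d), (8, 0x93, 0x8d), (9, 0x17, 0x99), (11, 0x87, 0x99), (13, 0x8b, 0x95),
   (14, 0xf, 0x95), (15, 0x93, 0x1d), (16, 0x87, 0x1b), (17, 0xf, 0x99), (18, 0x17, 0x8d),
   (19, 0x17, 0x8b), (20, 0x87, 0x1d), (21, 0x1b, 0x95), (22, 0x8b, 0x1d), (23, 0xf, 0x93)]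

/-- Echelon basis of the code words not separating the points 10 and 12. -/
def subBasis : List (ℕ × ℕ) :=
  [(0x804a96, 23), (0x400a4f, 22), (0x20498b, 21), (0x104157, 20), (0x803da, 19), (0x401ed, 18),
   (0x20ab9, 17), (0x149f0, 16), (0xcb25, 15), (0x293e, 13), (0x149f, 12)]

/-- Echelon basis of its dual. -/
def subDual : List (ℕ × ℕ) :=
  [(0x800c75, 23), (0x400a4f, 22), (0x200f68, 21), (0x10072b, 20), (0x80345, 19), (0x40172, 18),
   (0x20a26, 17), (0x10f13, 16), (0x8d59, 15), (0x467c, 14), (0x293e, 13), (0x1400, 12),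
   (0x9f, 7)]

/-- Its members isolating the non-pivot positions of the dual. -/
def subIso : List (ℕ × ℕ) :=
  [(0xd98081, 0), (0x572082, 1), (0xca6084, 2), (0x70e088, 3), (0x85e090, 4), (0xb66020, 5),
   (0xecc040, 6), (0x3da100, 8), (0x7b4200, 9), (0xb1d400, 10), (0xe3a800, 11)]

/-- Code words isolating the non-pivot positions of `golayBasis`. -/
def codeIso : List (ℕ × ℕ) :=
  [(0xc75001, 0), (0x49f002, 1), (0xd4b004, 2), (0x6e3008, 3), (0x9b3010, 4), (0xb66020, 5),
   (0xecc040, 6), (0x1ed080, 7), (0x3da100, 8), (0x7b4200, 9), (0xb1d400, 10), (0xe3a800, 11)]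

/-! ### linear algebra on masks -/

/-- Two masks meet in an even number of points. -/
def EvenMeet (a b : ℕ) : Prop := Even (setOf24 a ∩ setOf24 b).card

theorem setOf24_xor (a b : ℕ) : setOf24 (a ^^^ b) = symmDiff (setOf24 a) (setOf24 b) := by
  ext p
  simp only [mem_setOf24, mem_symmDiff, Nat.testBit_xor]
  cases a.testBit (enc p) <;> cases b.testBit (enc p) <;> simp

theorem EvenMeet.symm {a b : ℕ} (h : EvenMeet a b) : EvenMeet b a := by
  rwa [EvenMeet, inter_comm]

theorem EvenMeet.xor {a b u : ℕ} (ha : EvenMeet a u) (hb : EvenMeet b u) :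
    EvenMeet (a ^^^ b) u := by
  rw [EvenMeet, setOf24_xor]
  exact even_card_symmDiff_inter _ _ _ ha hb

theorem evenMeet_zero (u : ℕ) : EvenMeet 0 u := by
  have : setOf24 0 = ∅ := by ext p; simp [mem_setOf24]
  rw [EvenMeet, this, empty_inter, card_empty]
  exact Even.zero

theorem evenMeet_span : ∀ {L : List ℕ} {u : ℕ}, (∀ b ∈ L, EvenMeet b u) →
    ∀ m ∈ spanList L, EvenMeet m u := by
  intro L
  induction L with
  | nil =>
    intro u _ m hm
    simp only [spanList, List.mem_singleton] at hm
    subst hm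
    exact evenMeet_zero u
  | cons b L ih =>
    intro u h m hm
    simp only [spanList, List.mem_append, List.mem_map] at hm
    have hL : ∀ c ∈ L, EvenMeet c u := fun c hc => h c (List.mem_cons_of_mem _ hc)
    rcases hm with hm | ⟨m', hm', rfl⟩
    · exact ih hL m hm
    · exact (h b (List.mem_cons_self)).xor (ih hL m' hm')

theorem red_split : ∀ (l : List (ℕ × ℕ)) (m : ℕ),
    ∃ s ∈ spanList (l.map Prod.fst), red l m = s ^^^ m := by
  intro l
  induction l with
  | nil => intro m; exact ⟨0, by simp [spanList], by simp [red]⟩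
  | cons x l ih =>
    obtain ⟨b, p⟩ := x
    intro m
    simp only [List.map_cons, spanList, List.mem_append, List.mem_map, red]
    split
    · obtain ⟨s, hs, he⟩ := ih (b ^^^ m)
      exact ⟨b ^^^ s, Or.inr ⟨s, hs, rfl⟩, by rw [he, ← Nat.xor_assoc, Nat.xor_comm s b]⟩
    · obtain ⟨s, hs, he⟩ := ih m
      exact ⟨s, Or.inl hs, he⟩

/-- Echelon shape of a list of vectors with pivots. -/
def echOk : List (ℕ × ℕ) → Bool
  | [] => true
  | (b, p) :: l => decide (b < 2 ^ 24) && b.testBit p && l.all (fun x => !x.1.testBit p) && echOk l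

theorem red_testBit : ∀ (l : List (ℕ × ℕ)) (m p : ℕ), (∀ x ∈ l, x.1.testBit p = false) →
    (red l m).testBit p = m.testBit p := by
  intro l
  induction l with
  | nil => intro m p _; rfl
  | cons x l ih =>
    obtain ⟨b, q⟩ := x
    intro m p h
    simp only [red]
    rw [ih _ _ fun y hy => h y (List.mem_cons_of_mem _ hy)]
    split
    · rw [Nat.testBit_xor, show b.testBit p = false from h (b, q) List.mem_cons_self, Bool.false_xor]
    · rfl

theorem red_echelon : ∀ {l : List (ℕ × ℕ)}, echOk l = true → ∀ {m : ℕ}, m < 2 ^ 24 →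
    red l m < 2 ^ 24 ∧ ∀ x ∈ l, (red l m).testBit x.2 = false := by
  intro l
  induction l with
  | nil => intro _ m hm; exact ⟨hm, fun x hx => absurd hx List.not_mem_nil⟩
  | cons x l ih =>
    obtain ⟨b, p⟩ := x
    intro h m hm
    simp only [echOk, Bool.and_eq_true, decide_eq_true_eq, List.all_eq_true,
      Bool.not_eq_true'] at h
    obtain ⟨⟨⟨hb, hbp⟩, hl⟩, hrest⟩ := h
    simp only [red]
    have hm' : (if m.testBit p then b ^^^ m else m) < 2 ^ 24 := by
      split
      · exact Nat.xor_lt_two_pow hb hm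
      · exact hm
    obtain ⟨h1, h2⟩ := ih hrest hm'
    refine ⟨h1, fun y hy => ?_⟩
    rcases List.mem_cons.mp hy with rfl | hy
    · show (red l _).testBit p = false
      rw [red_testBit l _ p fun z hz => hl z hz]
      by_cases hp : m.testBit p
      · rw [if_pos hp, Nat.testBit_xor, hbp, hp]; rfl
      · rw [if_neg hp]; simpa using hp
    · exact h2 y hy

/-- `iso` isolates every position that is not a pivot of `l`. -/
def isoOk (l iso : List (ℕ × ℕ)) : Bool :=
  (List.range 24).all fun j => (l.any fun x => x.2 == j) || iso.any fun u => (u.2 == j) &&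
    (List.range 24).all fun i => (l.any fun x => x.2 == i) || (u.1.testBit i == (i == j))

theorem mem_span_of_evenMeet {l iso : List (ℕ × ℕ)} (he : echOk l = true)
    (hiso : isoOk l iso = true) (horth : ∀ b ∈ l.map Prod.fst, ∀ u ∈ iso, EvenMeet b u.1)
    {m : ℕ} (hm : m < 2 ^ 24) (h : ∀ u ∈ iso, EvenMeet m u.1) : m ∈ spanList (l.map Prod.fst) := by
  refine red_eq_zero l ?_
  obtain ⟨hlt, hpiv⟩ := red_echelon he hm
  refine Nat.eq_of_testBit_eq fun j => ?_
  rw [Nat.zero_testBit]
  by_cases hj : j < 24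
  · simp only [isoOk, List.all_eq_true, List.mem_range, Bool.or_eq_true, List.any_eq_true,
      Bool.and_eq_true, beq_iff_eq] at hiso
    rcases hiso j hj with ⟨x, hx, rfl⟩ | ⟨u, hu, hju, hall⟩
    · exact hpiv x hx
    · by_contra hb
      rw [Bool.not_eq_false] at hb
      obtain ⟨s, hs, hse⟩ := red_split l m
      have hev : EvenMeet (red l m) u.1 := by
        rw [hse]
        exact (evenMeet_span (fun b hb => horth b hb u hu) s hs).xor (h u hu)
      have hnp : ∀ x ∈ l, x.2 ≠ j := fun x hx e => by
        have := hpiv x hx; rw [e, hb] at this; exact absurd this (by simp)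
      have hone : setOf24 (red l m) ∩ setOf24 u.1 = {enc.symm ⟨j, hj⟩} := by
        ext p
        simp only [mem_inter, mem_setOf24, mem_singleton]
        constructor
        · rintro ⟨h1, h2⟩
          rcases hall (enc p) (enc p).isLt with ⟨x, hx, hxe⟩ | e
          · have := hpiv x hx
            rw [hxe, h1] at this
            exact absurd this (by simp)
          · rw [h2, eq_comm, beq_iff_eq] at e
            rw [Equiv.eq_symm_apply]
            exact Fin.ext e
        · rintro rfl
          rw [Equiv.apply_symm_apply]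
          refine ⟨hb, ?_⟩
          rcases hall j hj with ⟨x, hx, hxe⟩ | e
          · exact absurd hxe (hnp x hx)
          · simpa using e
      rw [EvenMeet, hone, card_singleton] at hev
      exact absurd hev (by decide)
  · exact Nat.testBit_lt_two_pow (lt_of_lt_of_le hlt (Nat.pow_le_pow_right (by decide) (by omega)))

theorem evenMeet_of_pop {a b : ℕ} (h : pop (a &&& b) % 2 = 0) : EvenMeet a b := by
  rw [EvenMeet, ← card_setOf24 (a &&& b)] at *
  have : setOf24 (a &&& b) = setOf24 a ∩ setOf24 b := by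
    ext p
    rw [mem_inter, mem_setOf24, mem_setOf24, mem_setOf24, Nat.testBit_land, Bool.and_eq_true]
  rw [this] at h
  exact Nat.even_iff.mpr h

theorem exists_mask (s : Finset GolayPt) : ∃ m < 2 ^ 24, setOf24 m = s := by
  induction s using Finset.induction with
  | empty => exact ⟨0, by norm_num, by ext p; simp [mem_setOf24]⟩
  | insert a s _ ih =>
    obtain ⟨m, hm, rfl⟩ := ih
    refine ⟨m ||| 1 <<< (enc a : ℕ), Nat.or_lt_two_pow hm ?_, ?_⟩
    · rw [Nat.one_shiftLeft]
      exact Nat.pow_lt_pow_right (by decide) (enc a).isLt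
    · ext p
      rw [mem_setOf24, mem_insert, mem_setOf24, testBit_lor_one_shiftLeft, Bool.or_eq_true,
        decide_eq_true_eq, Fin.val_inj, enc.injective.eq_iff]
      tauto

/-! ### frames -/

variable {α : Type*} [Fintype α] [DecidableEq α] {B : Set (Finset α)}

/-- The image of a mask under a labelling. -/
def maskImg (f : GolayPt → α) (m : ℕ) : Finset α := (setOf24 m).image f

theorem mem_maskImg {f : GolayPt → α} {m : ℕ} {a : α} :
    a ∈ maskImg f m ↔ ∃ i : Fin 24, m.testBit i = true ∧ f (enc.symm i) = a := by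
  simp only [maskImg, mem_image, mem_setOf24]
  constructor
  · rintro ⟨p, hp, rfl⟩; exact ⟨enc p, hp, by simp⟩
  · rintro ⟨i, hi, rfl⟩; exact ⟨enc.symm i, by simpa using hi, rfl⟩

theorem card_maskImg {f : GolayPt → α} (hf : Function.Injective f) (m : ℕ) :
    (maskImg f m).card = pop m := by
  rw [maskImg, card_image_of_injective _ hf, card_setOf24]

theorem maskImg_land {f : GolayPt → α} (hf : Function.Injective f) (a b : ℕ) :
    maskImg f (a &&& b) = maskImg f a ∩ maskImg f b := by
  rw [maskImg, maskImg, maskImg, ← image_inter _ _ hf]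
  congr 1
  ext p
  rw [mem_inter, mem_setOf24, mem_setOf24, mem_setOf24, Nat.testBit_land, Bool.and_eq_true]

theorem exists_first_frame (hα : Fintype.card α = 24) (hB : IsSteinerSystem 5 8 B) :
    ∃ f : GolayPt ≃ α, maskImg f octMask24 ∈ B := by
  obtain ⟨b, hb⟩ : B.Nonempty := Set.nonempty_of_ncard_ne_zero fun h0 => by
    have := block_count hB
    rw [hα, h0, zero_mul] at this
    exact absurd this (by decide +kernel)
  let f₀ : GolayPt ≃ α := Fintype.equivOfCardEq (by rw [hα]; rfl)
  have hb' : (b.map f₀.symm.toEmbedding).card = (setOf24 octMask24).card := by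
    rw [card_map, hB.1 b hb, card_setOf24]; decide +kernel
  let π : Equiv.Perm GolayPt := (Finset.equivOfCardEq hb'.symm).extendSubtype
  refine ⟨π.trans f₀, ?_⟩
  have : maskImg (π.trans f₀) octMask24 = b := by
    refine eq_of_subset_of_card_le (fun a ha => ?_) ?_
    · obtain ⟨p, hp, rfl⟩ := mem_image.mp ha
      have := (Finset.equivOfCardEq hb'.symm).extendSubtype_mem p hp
      obtain ⟨c, hc, hce⟩ := mem_map.mp this
      have he : f₀ (π p) = c := by
        show f₀ _ = c
        rw [← hce]
        exact f₀.apply_symm_apply c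
      show f₀ (π p) ∈ b
      rw [he]
      exact hc
    · rw [card_maskImg (Equiv.injective _), hB.1 b hb]; decide +kernel
  rw [this]
  exact hb

theorem quad_facts : ∀ P ∈ quadMasks, pop (P ||| 1 <<< 5) = 5 ∧ pop P = 4 ∧ P &&& octMask24 = P ∧
    (P ||| 1 <<< 5) &&& octMask24 = P := by decide +kernel

theorem quad_pairs : ∀ P ∈ quadMasks, ∀ Q ∈ quadMasks, P ≠ Q →
    (pop (P &&& Q) = 3 ∨ (pop (P &&& Q) = 2 ∧ (P ^^^ Q) ∈ quadMasks)) ∧
      pop ((P ||| 1 <<< 5) &&& (Q ||| 1 <<< 5)) = pop (P &&& Q) + 1 := by decide +kernel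

theorem pointQuads_facts : ∀ x ∈ pointQuads, x.2.1 ∈ quadMasks ∧ x.2.2 ∈ quadMasks ∧
    x.2.1 ≠ x.2.2 ∧ pop (x.2.1 &&& x.2.2) = 2 ∧
    (∀ e ∈ quadBlocks, (e.2.testBit x.1 = true ∧
        (e.1 = x.2.1 ∨ e.1 = x.2.2 ∨ e.1 = x.2.1 ^^^ x.2.2)) ∨
      (e.2.testBit x.1 = false ∧ e.1 ≠ x.2.1 ∧ e.1 ≠ x.2.2 ∧
        (pop (e.1 &&& x.2.1) = 3 ∨ pop (e.1 &&& x.2.2) = 3))) := by decide +kernel

theorem pointQuads_cover : ∀ i : Fin 24,
    (octMask24 ||| 1 <<< 5).testBit i = true ∨ ∃ x ∈ pointQuads, x.1 = (i : ℕ) := by decide +kernel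

theorem pointQuads_outside : ∀ x ∈ pointQuads, x.1 < 24 ∧
    (octMask24 ||| 1 <<< 5).testBit x.1 = false := by decide +kernel

theorem pointQuads_separated : ∀ x ∈ pointQuads, ∀ y ∈ pointQuads, x.1 ≠ y.1 →
    ∃ e ∈ quadBlocks, e.2.testBit x.1 ≠ e.2.testBit y.1 := by decide +kernel

theorem quadBlocks_facts : ∀ e ∈ quadBlocks, e.1 ∈ quadMasks ∧ pop e.2 = 8 ∧
    inCode e.2 = true ∧ e.2 < 2 ^ 24 ∧
    (∀ i : Fin 24, (octMask24 ||| 1 <<< 5).testBit i = true →
      e.2.testBit i = (e.1 ||| 1 <<< 5).testBit i) := by decide +kernel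

theorem quadBlocks_complete : ∀ P ∈ quadMasks, ∃ e ∈ quadBlocks, e.1 = P := by decide +kernel

/-- A labelling in which the fifteen standard octads are blocks. -/
theorem exists_frame (hα : Fintype.card α = 24) (hB : IsSteinerSystem 5 8 B) :
    ∃ e : GolayPt ≃ α, maskImg e octMask24 ∈ B ∧ ∀ x ∈ quadBlocks, maskImg e x.2 ∈ B := by
  classical
  obtain ⟨f, hO⟩ := exists_first_frame hα hB
  have hf : Function.Injective f := f.injective
  -- the blocks
  have hK : ∀ P, ∃ k, P ∈ quadMasks → k ∈ B ∧ maskImg f (P ||| 1 <<< 5) ⊆ k := by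
    intro P
    by_cases hP : P ∈ quadMasks
    · obtain ⟨k, hk, -⟩ := hB.2 (maskImg f (P ||| 1 <<< 5))
        (by rw [card_maskImg hf]; exact (quad_facts P hP).1)
      exact ⟨k, fun _ => hk⟩
    · exact ⟨∅, fun h => absurd h hP⟩
  choose K hKs using hK
  let base := maskImg f (octMask24 ||| 1 <<< 5)
  have hx5 : f (enc.symm 5) ∉ maskImg f octMask24 := by
    rw [mem_maskImg]
    rintro ⟨i, hi, he⟩
    have := enc.symm.injective (hf he)
    subst this
    exact absurd hi (by decide +kernel)
  have hxK : ∀ P ∈ quadMasks, f (enc.symm 5) ∈ K P := fun P hP => (hKs P hP).2 <| by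
    rw [mem_maskImg]
    refine ⟨5, ?_, rfl⟩
    rw [testBit_lor_one_shiftLeft]
    simp
  have hKO : ∀ P ∈ quadMasks, K P ∩ maskImg f octMask24 = maskImg f P := by
    intro P hP
    obtain ⟨-, h4, hPO, -⟩ := quad_facts P hP
    have hsub : maskImg f P ⊆ K P ∩ maskImg f octMask24 := by
      intro a ha
      obtain ⟨i, hi, rfl⟩ := mem_maskImg.mp ha
      rw [mem_inter, mem_maskImg]
      refine ⟨(hKs P hP).2 (mem_maskImg.mpr ⟨i, by rw [testBit_lor_one_shiftLeft, hi]; rfl, rfl⟩), i, ?_, rfl⟩
      rw [← hPO, Nat.testBit_land, Bool.and_eq_true] at hi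
      exact hi.2
    refine (eq_of_subset_of_card_le hsub ?_).symm
    rw [card_maskImg hf, h4]
    have := card_inter_lt hB (hKs P hP).1 hO (fun e => hx5 (e ▸ hxK P hP))
    omega
  have hbaseK : ∀ P ∈ quadMasks, K P ∩ base = maskImg f (P ||| 1 <<< 5) := by
    intro P hP
    refine subset_antisymm (fun a ha => ?_) ?_
    · obtain ⟨hak, hab⟩ := mem_inter.mp ha
      obtain ⟨i, hi, rfl⟩ := mem_maskImg.mp hab
      rw [testBit_lor_one_shiftLeft, Bool.or_eq_true] at hi
      rcases hi with hi | hi
      · have : f (enc.symm i) ∈ maskImg f P := by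
          rw [← hKO P hP, mem_inter]
          exact ⟨hak, mem_maskImg.mpr ⟨i, hi, rfl⟩⟩
        obtain ⟨j, hj, he⟩ := mem_maskImg.mp this
        exact mem_maskImg.mpr ⟨j, by rw [testBit_lor_one_shiftLeft, hj]; rfl, he⟩
      · exact mem_maskImg.mpr ⟨i, by rw [testBit_lor_one_shiftLeft, hi, Bool.or_true], rfl⟩
    · refine subset_inter (hKs P hP).2 ?_
      intro a ha
      obtain ⟨i, hi, rfl⟩ := mem_maskImg.mp ha
      refine mem_maskImg.mpr ⟨i, ?_, rfl⟩
      rw [testBit_lor_one_shiftLeft, Bool.or_eq_true] at hi ⊢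
      refine hi.imp_left fun hi => ?_
      rw [← (quad_facts P hP).2.2.1, Nat.testBit_land, Bool.and_eq_true] at hi
      exact hi.2
  have hKne : ∀ P ∈ quadMasks, ∀ Q ∈ quadMasks, P ≠ Q → K P ≠ K Q := by
    intro P hP Q hQ hne he
    have h1 : maskImg f P = maskImg f Q := by rw [← hKO P hP, ← hKO Q hQ, he]
    have h2 : maskImg f (P &&& Q) = maskImg f P := by rw [maskImg_land hf, ← h1, inter_self]
    have h3 := congrArg Finset.card h2
    rw [card_maskImg hf, card_maskImg hf, (quad_facts P hP).2.1] at h3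
    rcases (quad_pairs P hP Q hQ hne).1 with e | ⟨e, -⟩ <;> omega
  -- common part of two blocks
  have hpair : ∀ P ∈ quadMasks, ∀ Q ∈ quadMasks, P ≠ Q →
      ((K P ∩ K Q) \ base).card = (if pop (P &&& Q) = 3 then 0 else 1) ∧ (K P ∩ K Q).card = 4 := by
    intro P hP Q hQ hne
    have hcap : (K P ∩ K Q) ∩ base = maskImg f ((P ||| 1 <<< 5) &&& (Q ||| 1 <<< 5)) := by
      rw [maskImg_land hf, ← hbaseK P hP, ← hbaseK Q hQ]
      ext a; simp only [mem_inter]; tauto
    have hc := card_sdiff_add_card_inter (K P ∩ K Q) base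
    rw [hcap, card_maskImg hf, (quad_pairs P hP Q hQ hne).2] at hc
    rcases (quad_pairs P hP Q hQ hne).1 with e | ⟨e, -⟩ <;>
      rcases inter_24 hα hB (hKs P hP).1 (hKs Q hQ).1 (hKne P hP Q hQ hne) with h | h | h <;>
      refine ⟨?_, by omega⟩ <;> split_ifs <;> omega
  -- a point common to two disjoint pairs lies on the third
  have hthird : ∀ P ∈ quadMasks, ∀ Q ∈ quadMasks, P ≠ Q → pop (P &&& Q) = 2 →
      ∀ y ∈ (K P ∩ K Q) \ base, y ∈ K (P ^^^ Q) := by
    intro P hP Q hQ hne h2 y hy
    obtain ⟨hR⟩ : Nonempty ((P ^^^ Q) ∈ quadMasks) := by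
      rcases (quad_pairs P hP Q hQ hne).1 with e | ⟨-, e⟩
      · omega
      · exact ⟨e⟩
    obtain ⟨hRP, hand⟩ : P ^^^ Q ≠ P ∧ pop ((P ^^^ Q) &&& P) ≠ 3 := by
      have h : ∀ P ∈ quadMasks, ∀ Q ∈ quadMasks, pop (P &&& Q) = 2 →
          P ^^^ Q ≠ P ∧ pop ((P ^^^ Q) &&& P) ≠ 3 := by decide +kernel
      exact h P hP Q hQ h2
    have hL : symmDiff (K P) (K Q) ∈ B :=
      symmDiff_mem_24 hα hB (hKs P hP).1 (hKs Q hQ).1 (hpair P hP Q hQ hne).2
    have hLR : symmDiff (K P) (K Q) ∩ K (P ^^^ Q) = maskImg f (P ^^^ Q) := by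
      have hsub : maskImg f (P ^^^ Q) ⊆ symmDiff (K P) (K Q) ∩ K (P ^^^ Q) := by
        intro a ha
        have haK : a ∈ K (P ^^^ Q) := by
          have : a ∈ K (P ^^^ Q) ∩ maskImg f octMask24 := by rw [hKO _ hR]; exact ha
          exact (mem_inter.mp this).1
        refine mem_inter.mpr ⟨?_, haK⟩
        obtain ⟨i, hi, rfl⟩ := mem_maskImg.mp ha
        have haO : f (enc.symm i) ∈ maskImg f octMask24 := by
          refine mem_maskImg.mpr ⟨i, ?_, rfl⟩
          rw [← (quad_facts _ hR).2.2.1, Nat.testBit_land, Bool.and_eq_true] at hi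
          exact hi.2
        have hiff : ∀ S ∈ quadMasks, (f (enc.symm i) ∈ K S ↔ S.testBit i = true) := fun S hS => by
          constructor
          · intro h
            have : f (enc.symm i) ∈ maskImg f S := by
              rw [← hKO S hS]; exact mem_inter.mpr ⟨h, haO⟩
            obtain ⟨j, hj, he⟩ := mem_maskImg.mp this
            rwa [← enc.symm.injective (hf he)]
          · intro h
            exact (hKs S hS).2 (mem_maskImg.mpr ⟨i, by rw [testBit_lor_one_shiftLeft, h]; rfl, rfl⟩)
        rw [mem_symmDiff, hiff P hP, hiff Q hQ]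
        rw [Nat.testBit_xor] at hi
        revert hi
        cases P.testBit i <;> cases Q.testBit i <;> simp
      refine (eq_of_subset_of_card_le hsub ?_).symm
      rw [card_maskImg hf, (quad_facts _ hR).2.1]
      have := card_inter_lt hB hL (hKs _ hR).1 (fun e => by
        have hx := hxK _ hR
        rw [← e, mem_symmDiff] at hx
        rcases hx with ⟨-, h⟩ | ⟨-, h⟩
        · exact h (hxK Q hQ)
        · exact h (hxK P hP))
      omega
    have hone := (hpair _ hR P hP hRP).1
    rw [if_neg hand] at hone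
    obtain ⟨z, hz⟩ := card_eq_one.mp hone
    have hz' : z ∈ (K (P ^^^ Q) ∩ K P) \ base := by rw [hz]; exact mem_singleton_self z
    simp only [mem_sdiff, mem_inter] at hz'
    have hzQ : z ∈ K Q := by
      by_contra hzQ
      have hmem : z ∈ symmDiff (K P) (K Q) ∩ K (P ^^^ Q) := by
        rw [mem_inter, mem_symmDiff]; exact ⟨Or.inl ⟨hz'.1.2, hzQ⟩, hz'.1.1⟩
      rw [hLR] at hmem
      refine hz'.2 ?_
      obtain ⟨i, hi, rfl⟩ := mem_maskImg.mp hmem
      refine mem_maskImg.mpr ⟨i, ?_, rfl⟩
      rw [← (quad_facts _ hR).2.2.1, Nat.testBit_land, Bool.and_eq_true] at hi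
      rw [testBit_lor_one_shiftLeft, hi.2]; rfl
    have h1 := (hpair P hP Q hQ hne).1
    rw [h2] at h1
    have hzy : z = y := card_le_one.mp (le_of_eq h1) z
      (by simp only [mem_sdiff, mem_inter]; exact ⟨⟨hz'.1.2, hzQ⟩, hz'.2⟩) y hy
    rw [← hzy]
    exact hz'.1.1
  -- define the other fifteen points
  have hpick : ∀ p : GolayPt, ∃ a : α, ((octMask24 ||| 1 <<< 5).testBit (enc p) = true → a = f p) ∧
      ∀ x ∈ pointQuads, x.1 = (enc p : ℕ) → a ∈ (K x.2.1 ∩ K x.2.2) \ base := by
    intro p
    rcases pointQuads_cover (enc p) with h | ⟨x, hx, he⟩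
    · refine ⟨f p, fun _ => rfl, fun y hy hye => ?_⟩
      have := (pointQuads_outside y hy).2
      rw [hye, h] at this
      exact absurd this (by simp)
    · obtain ⟨hP, hQ, hne, h2, -⟩ := pointQuads_facts x hx
      have hc := (hpair _ hP _ hQ hne).1
      rw [h2] at hc
      obtain ⟨a, ha⟩ := card_eq_one.mp hc
      refine ⟨a, fun h => ?_, fun y hy hye => ?_⟩
      · have := (pointQuads_outside x hx).2
        rw [he, h] at this
        exact absurd this (by simp)
      · have huniq : ∀ x ∈ pointQuads, ∀ y ∈ pointQuads, x.1 = y.1 → x = y := by decide +kernel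
        obtain rfl := huniq y hy x hx (hye.trans he.symm)
        rw [ha]; exact mem_singleton_self a
  choose g hgb hgo using hpick
  have hmemblock : ∀ p : GolayPt, ∀ e ∈ quadBlocks,
      g p ∈ K e.1 ↔ e.2.testBit (enc p) = true := by
    intro p e he
    obtain ⟨heP, -, -, -, hagree⟩ := quadBlocks_facts e he
    rcases pointQuads_cover (enc p) with h | ⟨x, hx, hxe⟩
    · rw [hgb p h, hagree _ h]
      have hpb : f p ∈ base := mem_maskImg.mpr ⟨enc p, h, by simp⟩
      constructor
      · intro hk
        have : f p ∈ maskImg f (e.1 ||| 1 <<< 5) := by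
          rw [← hbaseK _ heP]; exact mem_inter.mpr ⟨hk, hpb⟩
        obtain ⟨j, hj, hje⟩ := mem_maskImg.mp this
        rwa [← hf hje, Equiv.apply_symm_apply]
      · intro hk
        exact (hKs _ heP).2 (mem_maskImg.mpr ⟨enc p, hk, by simp⟩)
    · obtain ⟨hP, hQ, hne, h2, hinc⟩ := pointQuads_facts x hx
      have hg := hgo p x hx hxe
      have hg' := hg
      simp only [mem_sdiff, mem_inter] at hg'
      rw [← hxe]
      rcases hinc e he with ⟨hbit, hcase⟩ | ⟨hbit, hn1, hn2, h3⟩
      · simp only [hbit, iff_true]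
        rcases hcase with h | h | h <;> rw [h]
        · exact hg'.1.1
        · exact hg'.1.2
        · exact hthird _ hP _ hQ hne h2 _ hg
      · simp only [hbit, Bool.false_eq_true, iff_false]
        intro hk
        rcases h3 with h3 | h3
        · have hc := (hpair _ heP _ hP hn1).1
          rw [if_pos h3, card_eq_zero, eq_empty_iff_forall_notMem] at hc
          exact hc (g p) (by simp only [mem_sdiff, mem_inter]; exact ⟨⟨hk, hg'.1.1⟩, hg'.2⟩)
        · have hc := (hpair _ heP _ hQ hn2).1
          rw [if_pos h3, card_eq_zero, eq_empty_iff_forall_notMem] at hc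
          exact hc (g p) (by simp only [mem_sdiff, mem_inter]; exact ⟨⟨hk, hg'.1.2⟩, hg'.2⟩)
  have hginj : Function.Injective g := by
    intro p q hpq
    rcases pointQuads_cover (enc p) with h | ⟨x, hx, hxe⟩ <;>
      rcases pointQuads_cover (enc q) with h' | ⟨y, hy, hye⟩
    · rw [hgb p h, hgb q h'] at hpq
      exact hf hpq
    · have := (mem_sdiff.mp (hgo q y hy hye)).2
      rw [← hpq, hgb p h] at this
      exact absurd (mem_maskImg.mpr ⟨enc p, h, by simp⟩) this
    · have := (mem_sdiff.mp (hgo p x hx hxe)).2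
      rw [hpq, hgb q h'] at this
      exact absurd (mem_maskImg.mpr ⟨enc q, h', by simp⟩) this
    · by_contra hne
      obtain ⟨e, he, hsep⟩ := pointQuads_separated x hx y hy fun e => hne
        (enc.injective (Fin.ext (by omega)))
      rw [hxe, hye] at hsep
      refine hsep (Bool.eq_iff_iff.mpr ?_)
      rw [← hmemblock p e he, ← hmemblock q e he, hpq]
  have hcard : Fintype.card GolayPt = Fintype.card α := by rw [hα]; rfl
  refine ⟨Equiv.ofBijective g ((Fintype.bijective_iff_injective_and_card g).mpr ⟨hginj, hcard⟩),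
    ?_, fun e he => ?_⟩
  · have : maskImg g octMask24 = maskImg f octMask24 := by
      refine image_congr fun p hp => hgb p ?_
      rw [testBit_lor_one_shiftLeft, mem_setOf24.mp hp]; rfl
    show maskImg g octMask24 ∈ B
    rw [this]
    exact hO
  · obtain ⟨heP, h8, -⟩ := quadBlocks_facts e he
    have : maskImg g e.2 = K e.1 := by
      refine eq_of_subset_of_card_le (fun a ha => ?_) ?_
      · obtain ⟨p, hp, rfl⟩ := mem_image.mp ha
        exact (hmemblock p e he).mpr (mem_setOf24.mp hp)
      · rw [card_maskImg hginj, h8, hB.1 _ (hKs _ heP).1]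
    show maskImg g e.2 ∈ B
    rw [this]
    exact (hKs _ heP).1

/-! ### the uniqueness theorem -/

/-- Exchange of the positions 10 and 12 in a mask. -/
def swapMask (m : ℕ) : ℕ :=
  bif m.testBit 10 == m.testBit 12 then m else m ^^^ 5120

theorem swapMask_mem (m : ℕ) (p : GolayPt) :
    (p ∈ setOf24 (swapMask m)) ↔
      Equiv.swap (enc.symm 10) (enc.symm 12) p ∈ setOf24 m := by
  have h5120 : ∀ i : Fin 24, Nat.testBit 5120 i = decide (i = 10 ∨ i = 12) := by decide +kernel
  have hsw : enc (Equiv.swap (enc.symm 10) (enc.symm 12) p) = Equiv.swap 10 12 (enc p) := by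
    have := enc.injective.swap_apply (enc.symm 10) (enc.symm 12) p
    rw [Equiv.apply_symm_apply, Equiv.apply_symm_apply] at this
    exact this.symm
  rw [mem_setOf24, mem_setOf24, hsw]
  generalize enc p = i
  unfold swapMask
  by_cases h10 : i = 10
  · subst h10
    rw [Equiv.swap_apply_left]
    cases ha : m.testBit 10 <;> cases hb : m.testBit 12 <;>
      simp_all [Nat.testBit_xor] <;> decide +kernel
  by_cases h12 : i = 12
  · subst h12
    rw [Equiv.swap_apply_right]
    cases ha : m.testBit 10 <;> cases hb : m.testBit 12 <;>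
      simp_all [Nat.testBit_xor] <;> decide +kernel
  rw [Equiv.swap_apply_of_ne_of_ne h10 h12]
  cases m.testBit 10 == m.testBit 12
  · simp [Nat.testBit_xor, h5120 i, h10, h12]
  · rfl

theorem echOk_subDual : echOk subDual = true := by decide +kernel
theorem isoOk_subDual : isoOk subDual subIso = true := by decide +kernel
theorem echOk_golay : echOk golayBasis = true := by decide +kernel
theorem isoOk_golay : isoOk golayBasis codeIso = true := by decide +kernel

theorem subDual_orth : ∀ b ∈ subDual.map Prod.fst, ∀ u ∈ subIso, pop (b &&& u.1) % 2 = 0 := by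
  decide +kernel

theorem codeIso_inCode : ∀ u ∈ codeIso, inCode u.1 = true := by decide +kernel

theorem subIso_span : ∀ u ∈ subIso, red subBasis u.1 = 0 := by decide +kernel

theorem subBasis_gen : ∀ b ∈ subBasis.map Prod.fst, b ∈ spanList subGens := by decide +kernel

theorem subGens_blocks : ∀ u ∈ subGens, u = octMask24 ∨ ∃ x ∈ quadBlocks, x.2 = u := by decide +kernel

theorem frame_masks_fixed : swapMask octMask24 = octMask24 ∧
    ∀ x ∈ quadBlocks, swapMask x.2 = x.2 := by decide +kernel

theorem separator_cases : ((spanList (subDual.map Prod.fst)).all fun m =>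
    (pop m != 8) || (m.testBit 10 == m.testBit 12) || inCode m || inCode (swapMask m)) = true := by
  decide +kernel

theorem code_nonseparating : (codeList.all fun c =>
    (c.testBit 10 != c.testBit 12) || (red subBasis c == 0)) = true := by decide +kernel

theorem zero_mem_spanList : ∀ L : List ℕ, 0 ∈ spanList L := by
  intro L
  induction L with
  | nil => simp [spanList]
  | cons b L ih => simp only [spanList, List.mem_append]; exact Or.inl ih

theorem xor_mem_spanList : ∀ (L : List ℕ) {a b : ℕ}, a ∈ spanList L → b ∈ spanList L →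
    a ^^^ b ∈ spanList L := by
  intro L
  induction L with
  | nil =>
    intro a b ha hb
    simp only [spanList, List.mem_singleton] at ha hb ⊢
    subst ha hb; rfl
  | cons c L ih =>
    intro a b ha hb
    simp only [spanList, List.mem_append, List.mem_map] at ha hb ⊢
    rcases ha with ha | ⟨a', ha', rfl⟩ <;> rcases hb with hb | ⟨b', hb', rfl⟩
    · exact Or.inl (ih ha hb)
    · exact Or.inr ⟨a ^^^ b', ih ha hb', by rw [← Nat.xor_assoc, ← Nat.xor_assoc, Nat.xor_comm c a]⟩
    · exact Or.inr ⟨a' ^^^ b, ih ha' hb, (Nat.xor_assoc c a' b).symm⟩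
    · refine Or.inl ?_
      have : (c ^^^ a') ^^^ (c ^^^ b') = a' ^^^ b' := by
        rw [Nat.xor_comm c a', Nat.xor_assoc, ← Nat.xor_assoc c c b', Nat.xor_self, Nat.zero_xor]
      rw [this]
      exact ih ha' hb'

theorem spanList_mono {L M : List ℕ} (h : ∀ b ∈ L, b ∈ spanList M) :
    ∀ m ∈ spanList L, m ∈ spanList M := by
  induction L with
  | nil =>
    intro m hm
    simp only [spanList, List.mem_singleton] at hm
    subst hm
    exact zero_mem_spanList M
  | cons b L ih =>
    intro m hm
    have hL := ih fun c hc => h c (List.mem_cons_of_mem _ hc)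
    simp only [spanList, List.mem_append, List.mem_map] at hm
    rcases hm with hm | ⟨m', hm', rfl⟩
    · exact hL m hm
    · exact xor_mem_spanList M (h b List.mem_cons_self) (hL m' hm')

theorem xor_mem_codeList {a b : ℕ} (ha : a ∈ codeList) (hb : b ∈ codeList) :
    a ^^^ b ∈ codeList := by
  rw [codeList_eq] at *
  exact xor_mem_spanList _ ha hb

theorem swapMask_testBit (m : ℕ) :
    (swapMask m).testBit 10 = m.testBit 12 ∧ (swapMask m).testBit 12 = m.testBit 10 := by
  have h1 : Nat.testBit 5120 10 = true := by decide +kernel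
  have h2 : Nat.testBit 5120 12 = true := by decide +kernel
  unfold swapMask
  cases ha : m.testBit 10 <;> cases hb : m.testBit 12 <;> simp [Nat.testBit_xor, ha, hb, h1, h2]

/-- **Uniqueness of S(5,8,24)**: some labelling makes the blocks exactly the octads. -/
theorem exists_octad_labelling (hα : Fintype.card α = 24) (hB : IsSteinerSystem 5 8 B) :
    ∃ e : GolayPt ≃ α, B = (fun o => o.image e) '' octads := by
  classical
  obtain ⟨e₀, hO, hQ⟩ := exists_frame hα hB
  have hgen : ∀ e : GolayPt ≃ α, maskImg e octMask24 ∈ B → (∀ x ∈ quadBlocks, maskImg e x.2 ∈ B) →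
      ∀ m < 2 ^ 24, maskImg e m ∈ B → ∀ u ∈ spanList subGens, EvenMeet m u := by
    intro e hO hQ m _ hm u hu
    refine EvenMeet.symm (evenMeet_span (fun g hg => ?_) u hu)
    have hgB : maskImg e g ∈ B := by
      rcases subGens_blocks g hg with rfl | ⟨x, hx, rfl⟩
      · exact hO
      · exact hQ x hx
    have := inter_even_24 hα hB hgB hm
    rw [maskImg, maskImg, ← image_inter _ _ e.injective, card_image_of_injective _ e.injective] at this
    exact this
  have hdual : ∀ e : GolayPt ≃ α, maskImg e octMask24 ∈ B → (∀ x ∈ quadBlocks, maskImg e x.2 ∈ B) →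
      ∀ m < 2 ^ 24, maskImg e m ∈ B → m ∈ spanList (subDual.map Prod.fst) := by
    intro e hO hQ m hlt hm
    refine mem_span_of_evenMeet echOk_subDual isoOk_subDual
      (fun b hb u hu => evenMeet_of_pop (subDual_orth b hb u hu)) hlt fun u hu =>
      hgen e hO hQ m hlt hm _ ?_
    exact spanList_mono subBasis_gen _ (red_eq_zero _ (subIso_span u hu))
  -- a separating block
  obtain ⟨k, hk, hkm⟩ : ∃ k ∈ containing B {e₀ (enc.symm 10)}, e₀ (enc.symm 12) ∉ k := by
    by_contra h
    push Not at h
    have h1 := containing_eq hB (card_singleton (e₀ (enc.symm 10))) (by decide) (m := 253)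
      (by decide) (by rw [hα]; decide +kernel)
    have hne : e₀ (enc.symm 10) ≠ e₀ (enc.symm 12) := e₀.injective.ne (by decide +kernel)
    have h2 := containing_eq hB (card_pair hne) (by decide) (m := 77)
      (by decide) (by rw [hα]; decide +kernel)
    have : containing B {e₀ (enc.symm 10)} ⊆ containing B {e₀ (enc.symm 10), e₀ (enc.symm 12)} := by
      intro b hb
      have hb' := mem_containing.mp hb
      exact mem_containing.mpr ⟨hb'.1, insert_subset (singleton_subset_iff.mp hb'.2)
        (singleton_subset_iff.mpr (h b hb))⟩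
    have := card_le_card this
    omega
  rw [mem_containing, singleton_subset_iff] at hk
  obtain ⟨mk, hmk, hmks⟩ := exists_mask (k.image e₀.symm)
  have hkimg : maskImg e₀ mk = k := by
    rw [maskImg, hmks, image_image]
    simp
  have hb10 : mk.testBit 10 = true := by
    have : enc.symm 10 ∈ setOf24 mk := by rw [hmks, mem_image]; exact ⟨_, hk.2, by simp⟩
    simpa [mem_setOf24] using this
  have hb12 : mk.testBit 12 = false := by
    have : enc.symm 12 ∉ setOf24 mk := by
      rw [hmks, mem_image]
      rintro ⟨a, ha, he⟩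
      rw [Equiv.symm_apply_eq] at he
      exact hkm (he ▸ ha)
    simpa [mem_setOf24] using this
  -- choose the labelling
  obtain ⟨e, hOe, hQe, K, hK, hKc, hKsep⟩ : ∃ e : GolayPt ≃ α, maskImg e octMask24 ∈ B ∧
      (∀ x ∈ quadBlocks, maskImg e x.2 ∈ B) ∧ ∃ K, maskImg e K ∈ B ∧ inCode K = true ∧
        K.testBit 10 ≠ K.testBit 12 := by
    have h := List.all_eq_true.mp separator_cases mk
      (hdual e₀ hO hQ mk hmk (hkimg ▸ hk.1))
    have h8 : pop mk = 8 := by rw [← card_maskImg e₀.injective, hkimg, hB.1 k hk.1]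
    simp only [h8, hb10, hb12, bne_self_eq_false, Bool.false_or, Bool.or_eq_true] at h
    rcases h with (h | h) | h
    · exact absurd h (by simp)
    · exact ⟨e₀, hO, hQ, mk, hkimg ▸ hk.1, h, by rw [hb10, hb12]; simp⟩
    · let s : Equiv.Perm GolayPt := Equiv.swap (enc.symm 10) (enc.symm 12)
      have himg : ∀ m, maskImg (s.trans e₀) (swapMask m) = maskImg e₀ m := by
        intro m
        ext a
        simp only [maskImg, mem_image, swapMask_mem, Equiv.trans_apply, s]
        constructor
        · rintro ⟨p, hp, rfl⟩; exact ⟨_, hp, rfl⟩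
        · rintro ⟨p, hp, rfl⟩
          exact ⟨Equiv.swap (enc.symm 10) (enc.symm 12) p, by rwa [Equiv.swap_apply_self],
            by rw [Equiv.swap_apply_self]⟩
      refine ⟨s.trans e₀, ?_, fun x hx => ?_, swapMask mk, ?_, h, ?_⟩
      · rw [← frame_masks_fixed.1, himg]; exact hO
      · rw [← frame_masks_fixed.2 x hx, himg]; exact hQ x hx
      · rw [himg, hkimg]; exact hk.1
      · rw [(swapMask_testBit mk).1, (swapMask_testBit mk).2, hb10, hb12]; simp
  -- every block is an octad
  have hK' := mem_codeList_of_inCode hKc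
  have hsub : B ⊆ (fun o => o.image e) '' octads := by
    intro b hb
    obtain ⟨m, hm, hms⟩ := exists_mask (b.image e.symm)
    have hbimg : maskImg e m = b := by rw [maskImg, hms, image_image]; simp
    have hmB : maskImg e m ∈ B := hbimg ▸ hb
    have hKm : EvenMeet K m := by
      have := inter_even_24 hα hB hK hmB
      rw [maskImg, maskImg, ← image_inter _ _ e.injective, card_image_of_injective _ e.injective]
        at this
      exact this
    have hall : ∀ c ∈ codeList, EvenMeet m c := by
      intro c hc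
      have key : ∀ c ∈ codeList, c.testBit 10 = c.testBit 12 → EvenMeet m c := by
        intro c hc hbit
        have := List.all_eq_true.mp code_nonseparating c hc
        simp only [hbit, bne_self_eq_false, Bool.false_or, beq_iff_eq] at this
        exact hgen e hOe hQe m hm hmB c (spanList_mono subBasis_gen _ (red_eq_zero _ this))
      by_cases hbit : c.testBit 10 = c.testBit 12
      · exact key c hc hbit
      · have h2 : (c ^^^ K).testBit 10 = (c ^^^ K).testBit 12 := by
          rw [Nat.testBit_xor, Nat.testBit_xor]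
          revert hbit hKsep
          cases c.testBit 10 <;> cases c.testBit 12 <;> cases K.testBit 10 <;>
            cases K.testBit 12 <;> decide
        have h3 := (key _ (xor_mem_codeList hc hK') h2).symm.xor hKm
        rw [Nat.xor_assoc, Nat.xor_self, Nat.xor_zero] at h3
        exact h3.symm
    have horth : ∀ b' ∈ golayBasis.map Prod.fst, ∀ u ∈ codeIso, pop (b' &&& u.1) % 2 = 0 := by
      decide +kernel
    have hmem := mem_span_of_evenMeet echOk_golay isoOk_golay
      (fun b' hb' u hu => evenMeet_of_pop (horth b' hb' u hu)) hm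
      (fun u hu => hall _ (mem_codeList_of_inCode (codeIso_inCode u hu)))
    rw [← codeList_eq] at hmem
    refine ⟨setOf24 m, ⟨⟨_, mem_golayCode_iff.mpr ⟨m, hmem, rfl⟩, support₂_wordOf m⟩, ?_⟩, hbimg⟩
    rw [card_setOf24, ← card_maskImg e.injective, hbimg, hB.1 b hb]
  refine ⟨e, Set.eq_of_subset_of_ncard_le hsub ?_ (Set.toFinite _)⟩
  have hcount : B.ncard = 759 := by
    have h := block_count hB
    rw [hα, show Nat.choose 8 5 = 56 from rfl,
      show Nat.choose 24 5 = 42504 by decide +kernel] at h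
    omega
  rw [hcount]
  exact le_trans (Set.ncard_image_le (Set.toFinite _)) (le_of_eq ncard_octads)

end Cfsg.Agent.Lib.Design
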