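import Cfsg.Agent.Lib.Design.Unique22
import Cfsg.Agent.Lib.Design.Graphs22
import Cfsg.Agent.Lib.Design.GQTwoTwo

/-!
# Uniqueness of the strongly regular graph with parameters (77, 16, 0, 4)

Seen from a vertex, the 60 distant vertices fall into 15 classes of four, and the classes form a
strongly regular graph with parameters (15, 6, 1, 3).  Its six five-cocliques give the six
21-cocliques through the vertex, and the 22 cocliques are the points of an S(3,6,22).
-/

set_option autoImplicit false

namespace Cfsg.Agent.Lib.Design.SRG77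

open Cfsg Finset

variable {V : Type*} [Fintype V] [DecidableEq V] {G : SimpleGraph V} [DecidableRel G.Adj]

variable (G) in
/-- The adjacency indicator. -/
def adjI (u v : V) : ℤ := if G.Adj u v then 1 else 0

theorem adjI_comm (u v : V) : adjI G u v = adjI G v u := by simp [adjI, G.adj_comm]

theorem adjI_nonneg (u v : V) : 0 ≤ adjI G u v := by rw [adjI]; split_ifs <;> simp

theorem adjI_mul_self (u v : V) : adjI G u v * adjI G u v = adjI G u v := by
  rw [adjI]; split_ifs <;> simp

theorem sum_adjI (hG : G.IsSRGWith 77 16 0 4) (u : V) : ∑ w, adjI G u w = 16 := by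
  have h : (univ.filter fun w => G.Adj u w).card = 16 := by
    rw [← hG.regular u, SimpleGraph.degree, SimpleGraph.neighborFinset_eq_filter]
  simp only [adjI, sum_boole, h, Nat.cast_ofNat]

theorem sum_adjI_mul (hG : G.IsSRGWith 77 16 0 4) (u v : V) :
    ∑ w, adjI G u w * adjI G w v = 4 + 12 * (if u = v then 1 else 0) - 4 * adjI G u v := by
  rcases eq_or_ne u v with rfl | hne
  · rw [sum_congr rfl (g := fun w => adjI G u w), sum_adjI hG]
    · simp [adjI]
    · intro w _; rw [adjI_comm w u, adjI_mul_self]
  · have e : Fintype.card (G.commonNeighbors u v) =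
        (univ.filter fun w => G.Adj u w ∧ G.Adj v w).card :=
      Fintype.card_subtype (fun w => G.Adj u w ∧ G.Adj v w)
    have e' : ∀ w, adjI G u w * adjI G w v = if G.Adj u w ∧ G.Adj v w then 1 else 0 := fun w => by
      simp only [adjI, G.adj_comm v w]; split_ifs <;> simp_all
    rw [sum_congr rfl (fun w (_ : w ∈ univ) => e' w), sum_boole, ← e, if_neg hne, adjI]
    split_ifs with h
    · rw [hG.of_adj u v h]; rfl
    · rw [hG.of_not_adj hne h]; rfl

theorem no_triangle (hG : G.IsSRGWith 77 16 0 4) {u v w : V} (huv : G.Adj u v) (hvw : G.Adj v w) :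
    ¬ G.Adj u w := fun huw => by
  have h := sum_adjI_mul hG u w
  have h1 : adjI G u v * adjI G v w ≤ ∑ t, adjI G u t * adjI G t w :=
    single_le_sum (f := fun t => adjI G u t * adjI G t w)
      (fun t _ => mul_nonneg (adjI_nonneg _ _) (adjI_nonneg _ _)) (mem_univ v)
  simp only [adjI, huv, hvw, huw, huw.ne, if_true, if_false] at h h1
  omega

variable (G) in
/-- The neighbours of `x`. -/
abbrev Nbr (x : V) := {p : V // G.Adj x p}

variable (G) in
/-- The vertices at distance two from `x`. -/
abbrev Far (x : V) := {y : V // y ≠ x ∧ ¬ G.Adj x y}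

theorem sum_split (x : V) (f : V → ℤ) :
    ∑ v, f v = f x + ∑ p : Nbr G x, f p + ∑ y : Far G x, f y := by
  rw [← sum_subtype (univ.filter fun p => G.Adj x p) (by simp) f,
    ← sum_subtype (univ.filter fun y => y ≠ x ∧ ¬ G.Adj x y) (by simp) f,
    add_assoc, ← sum_union, ← sum_insert]
  · congr 1
    ext u; simp only [mem_univ, mem_insert, mem_union, mem_filter, true_and, true_iff]; tauto
  · simp
  · rw [disjoint_filter]; tauto

open Matrix in
/-- The kernel on the vertices far from `x` and the facts about it that are used. -/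
theorem far_kernel (hG : G.IsSRGWith 77 16 0 4) (x : V) :
    ∃ M : Far G x → Far G x → ℤ, Fintype.card (Far G x) = 60 ∧ (∀ y, M y y = 4) ∧
      (∀ y z, M y z = M z y) ∧ (∀ y z, G.Adj y.1 z.1 → M y z = -2) ∧
      (∀ y, ∑ z, M y z = 0) ∧ (∀ y z, ∑ w, M y w * M z w = 48 * M y z) ∧
      (∀ y z, M y z = 12 * (if y = z then 1 else 0) - 6 * adjI G y.1 z.1 + 4
        - 3 * ∑ p : Nbr G x, adjI G y.1 p.1 * adjI G z.1 p.1) := by
  let C : Matrix (Far G x) (Far G x) ℤ := of fun y z => adjI G y.1 z.1
  let B : Matrix (Far G x) (Nbr G x) ℤ := of fun y p => adjI G y.1 p.1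
  let J : Matrix (Far G x) (Far G x) ℤ := of fun _ _ => 1
  let J' : Matrix (Far G x) (Nbr G x) ℤ := of fun _ _ => 1
  let JP : Matrix (Nbr G x) (Nbr G x) ℤ := of fun _ _ => 1
  have hxy : ∀ y : Far G x, adjI G x y.1 = 0 := fun y => by simp [adjI, y.2.2]
  have hxp : ∀ p : Nbr G x, adjI G x p.1 = 1 := fun p => by simp [adjI, p.2]
  have hpp : ∀ p q : Nbr G x, adjI G p.1 q.1 = 0 := fun p q => by
    simp [adjI, no_triangle hG p.2.symm q.2]
  have cP : Fintype.card (Nbr G x) = 16 := by
    rw [Fintype.card_subtype, ← hG.regular x, SimpleGraph.degree,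
      SimpleGraph.neighborFinset_eq_filter]
  have cY : Fintype.card (Far G x) = 60 := by
    have h := sum_split (G := G) x fun _ => 1
    simp [hG.card, cP] at h
    omega
  have rowB : ∀ y : Far G x, ∑ p : Nbr G x, adjI G y.1 p.1 = 4 := fun y => by
    have h := sum_adjI_mul hG x y.1
    rw [sum_split (G := G) x, hxy, if_neg (Ne.symm y.2.1)] at h
    have e : ∀ p : Nbr G x, adjI G x p.1 * adjI G p.1 y.1 = adjI G y.1 p.1 := fun p => by
      rw [hxp, one_mul, adjI_comm]
    simp only [e, hxy, zero_mul, sum_const_zero, mul_zero, add_zero, zero_add, sub_zero] at h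
    linarith
  have colB : ∀ p : Nbr G x, ∑ y : Far G x, adjI G y.1 p.1 = 15 := fun p => by
    have h := sum_adjI hG p.1
    rw [sum_split (G := G) x, adjI_comm p.1 x, hxp, sum_eq_zero (fun q (_ : q ∈ univ) => hpp p q),
      sum_congr rfl (fun y (_ : y ∈ (univ : Finset (Far G x))) => adjI_comm p.1 y.1)] at h
    linarith
  have rowC : ∀ y : Far G x, ∑ z : Far G x, adjI G y.1 z.1 = 12 := fun y => by
    have h := sum_adjI hG y.1
    rw [sum_split (G := G) x, adjI_comm y.1 x, hxy, rowB] at h
    linarith
  have hJJ : J * J = (60 : ℤ) • J := by ext y z; simp [J, Matrix.mul_apply, cY]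
  have hCJ : C * J = (12 : ℤ) • J := by
    ext y z; simp [C, J, Matrix.mul_apply, rowC]
  have hJC : J * C = (12 : ℤ) • J := by
    ext y z; simp [C, J, Matrix.mul_apply]
    rw [← rowC z]; exact sum_congr rfl fun w _ => adjI_comm _ _
  have hJB : J' * Bᵀ = (4 : ℤ) • J := by ext y z; simp [J', B, J, Matrix.mul_apply, rowB]
  have hBJ : B * JP = (4 : ℤ) • J' := by ext y z; simp [JP, B, J', Matrix.mul_apply, rowB]
  have hCB : C * B = (4 : ℤ) • J' - (4 : ℤ) • B := by
    ext y p
    have h := sum_adjI_mul hG y.1 p.1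
    rw [sum_split (G := G) x, adjI_comm y.1 x, hxy, if_neg (show y.1 ≠ p.1 from fun e => y.2.2 (by rw [e]; exact p.2))] at h
    simp only [hpp, mul_zero, zero_mul, sum_const_zero, add_zero, zero_add] at h
    simp [C, B, J', Matrix.mul_apply, h]
  have hBB : Bᵀ * B = (12 : ℤ) • (1 : Matrix (Nbr G x) (Nbr G x) ℤ) + (3 : ℤ) • JP := by
    ext p q
    have h := sum_adjI_mul hG p.1 q.1
    rw [sum_split (G := G) x, adjI_comm p.1 x] at h
    simp only [hxp, hpp, zero_mul, mul_zero, sum_const_zero, add_zero, sub_zero, mul_one,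
      Subtype.coe_inj] at h
    have e : ∑ y : Far G x, adjI G y.1 p.1 * adjI G y.1 q.1
        = 3 + 12 * (if p = q then (1 : ℤ) else 0) := by
      rw [sum_congr rfl (g := fun y : Far G x => adjI G p.1 y.1 * adjI G y.1 q.1)
        (fun y _ => by rw [adjI_comm p.1])]
      linarith
    simp only [B, JP, Matrix.mul_apply, transpose_apply, of_apply, Matrix.add_apply,
      Matrix.smul_apply, Matrix.one_apply, smul_eq_mul]
    linarith
  have hCC : C * C = (12 : ℤ) • (1 : Matrix (Far G x) (Far G x) ℤ) - (4 : ℤ) • C + (4 : ℤ) • J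
      - B * Bᵀ := by
    ext y z
    have h := sum_adjI_mul hG y.1 z.1
    rw [sum_split (G := G) x, adjI_comm y.1 x, hxy] at h
    have e : ∀ p : Nbr G x, adjI G y.1 p.1 * adjI G p.1 z.1 = adjI G y.1 p.1 * adjI G z.1 p.1 :=
      fun p => by rw [adjI_comm p.1]
    simp only [e, zero_mul, zero_add, Subtype.coe_inj] at h
    simp only [C, B, J, Matrix.mul_apply, transpose_apply, of_apply, Matrix.sub_apply,
      Matrix.add_apply, Matrix.smul_apply, Matrix.one_apply, smul_eq_mul]
    linarith
  set K := B * Bᵀ with hK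
  have hKt : Kᵀ = K := by rw [hK, transpose_mul, transpose_transpose]
  have hCt : Cᵀ = C := by ext y z; simp [C, adjI_comm]
  have hJt : Jᵀ = J := by ext y z; simp [J]
  have hCK : C * K = (16 : ℤ) • J - (4 : ℤ) • K := by
    rw [hK, ← Matrix.mul_assoc, hCB, Matrix.sub_mul, Matrix.smul_mul, Matrix.smul_mul, hJB, smul_smul]
    rfl
  have hKC : K * C = (16 : ℤ) • J - (4 : ℤ) • K := by
    have h := congrArg transpose hCK
    rwa [transpose_mul, transpose_sub, transpose_smul, transpose_smul, hKt, hCt, hJt] at h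
  have hKK : K * K = (12 : ℤ) • K + (48 : ℤ) • J := by
    rw [hK, Matrix.mul_assoc, ← Matrix.mul_assoc Bᵀ, hBB, Matrix.add_mul, Matrix.mul_add,
      Matrix.smul_mul, Matrix.smul_mul, Matrix.one_mul, Matrix.mul_smul, Matrix.mul_smul,
      ← Matrix.mul_assoc B JP, hBJ, Matrix.smul_mul, hJB, smul_smul, smul_smul]
    rfl
  have hKJ : K * J = (60 : ℤ) • J := by
    ext y z
    rw [hK, Matrix.mul_assoc]
    simp [B, J, Matrix.mul_apply, colB, ← sum_mul, rowB]
  have hJK : J * K = (60 : ℤ) • J := by
    have h := congrArg transpose hKJ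
    rwa [transpose_mul, transpose_smul, hKt, hJt] at h
  let M : Matrix (Far G x) (Far G x) ℤ :=
    (12 : ℤ) • 1 - (6 : ℤ) • C + (4 : ℤ) • J - (3 : ℤ) • K
  have hMJ : M * J = 0 := by
    simp only [M, sub_mul, add_mul, smul_mul_assoc, one_mul, hJJ, hCJ, hKJ, smul_smul]
    module
  have hMM : M * M = (48 : ℤ) • M := by
    simp only [M, sub_mul, add_mul, mul_sub, mul_add, smul_mul_assoc, mul_smul_comm, smul_smul,
      one_mul, mul_one, hJJ, hCJ, hJC, hKJ, hJK, hCC, hCK, hKC, hKK, smul_sub, smul_add]
    module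
  have hent : ∀ y z, M y z = 12 * (if y = z then 1 else 0) - 6 * adjI G y.1 z.1 + 4
      - 3 * ∑ p : Nbr G x, adjI G y.1 p.1 * adjI G z.1 p.1 := fun y z => by
    simp only [M, C, J, hK, B, Matrix.mul_apply, transpose_apply, of_apply, Matrix.sub_apply,
      Matrix.add_apply, Matrix.smul_apply, Matrix.one_apply, smul_eq_mul]
    ring
  have hMt : ∀ y z, M y z = M z y := fun y z => by
    rw [hent, hent, adjI_comm y.1 z.1]
    simp only [eq_comm (a := y) (b := z), mul_comm (adjI G y.1 _)]
  refine ⟨M, cY, fun y => ?_, hMt, fun y z h => ?_, fun y => ?_, fun y z => ?_, hent⟩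
  · rw [hent, if_pos rfl, sum_congr rfl (fun p _ => adjI_mul_self y.1 p.1), rowB]
    simp [adjI]
  · rw [hent, if_neg (fun e => h.ne (congrArg Subtype.val e)), sum_eq_zero]
    · simp [adjI, h]
    · intro p _
      simp only [adjI]
      split_ifs with h1 h2 <;> simp
      exact no_triangle hG h.symm h1 h2
  · have h := congrFun (congrFun hMJ y) y
    simpa [Matrix.mul_apply, J] using h
  · have h := congrFun (congrFun hMM y) z
    rw [Matrix.mul_apply, Matrix.smul_apply, smul_eq_mul] at h
    rw [← h]
    exact sum_congr rfl fun w _ => by rw [hMt z w]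

variable (G) in
/-- The cocliques of 21 vertices. -/
def cocliques : Finset (Finset V) :=
  (univ : Finset V).powerset.filter fun C => C.card = 21 ∧ ∀ u ∈ C, ∀ v ∈ C, ¬ G.Adj u v

theorem mem_cocliques {C : Finset V} :
    C ∈ cocliques G ↔ C.card = 21 ∧ ∀ u ∈ C, ∀ v ∈ C, ¬ G.Adj u v := by simp [cocliques]

/-- A vertex off a 21-coclique has six neighbours in it. -/
theorem coclique_nbrs (hG : G.IsSRGWith 77 16 0 4) {C : Finset V} (hC : C ∈ cocliques G) {v : V}
    (hv : v ∉ C) : ∑ u ∈ C, adjI G u v = 6 := by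
  obtain ⟨hc, hind⟩ := mem_cocliques.1 hC
  let n : V → ℤ := fun w => ∑ u ∈ C, adjI G u w
  have hin : ∀ w ∈ C, n w = 0 := fun w hw => sum_eq_zero fun u hu => by simp [adjI, hind u hu w hw]
  have h1 : ∑ w, n w = 336 := by
    simp only [n]
    rw [sum_comm, sum_congr rfl (fun u _ => sum_adjI hG u), sum_const, hc]
    rfl
  have h2 : ∑ w, n w * n w = 2016 := by
    simp only [n, sum_mul_sum]
    rw [sum_comm, sum_congr rfl (g := fun _ => (96 : ℤ)), sum_const, hc]
    · rfl
    · intro u hu
      rw [sum_comm, sum_congr rfl (g := fun u' => (4 : ℤ) + 12 * (if u = u' then 1 else 0))]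
      · rw [sum_add_distrib, sum_const, hc, ← mul_sum, sum_ite_eq, if_pos hu]; rfl
      · intro u' hu'
        rw [sum_congr rfl (g := fun w => adjI G u w * adjI G w u') (fun w _ => by rw [adjI_comm u']),
          sum_adjI_mul hG]
        simp [adjI, hind u hu u' hu']
  have hout : ∑ w ∈ Cᶜ, (n w - 6) * (n w - 6) = 0 := by
    have htot : ∑ w, (n w - 6) * (n w - 6) = 756 := by
      simp only [sub_mul, mul_sub, sum_sub_distrib, ← mul_sum, ← sum_mul, sum_const, h1, h2,
        card_univ, hG.card]
      norm_num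
    rw [← sum_compl_add_sum C, sum_congr rfl (s₁ := C) (g := fun _ => (36 : ℤ))
      (fun w hw => by rw [hin w hw]; norm_num), sum_const, hc] at htot
    norm_num at htot
    linarith
  have h := (sum_eq_zero_iff_of_nonneg fun z _ => mul_self_nonneg _).1 hout v (mem_compl.2 hv)
  show n v = 6
  linarith [mul_self_eq_zero.1 h]

set_option maxHeartbeats 1000000 in
/-- The cocliques through one and two vertices. -/
theorem coclique_counts (hG : G.IsSRGWith 77 16 0 4) (x : V) :
    ((cocliques G).filter fun C => x ∈ C).card = 6 ∧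
      ∀ y, x ≠ y → ((cocliques G).filter fun C => x ∈ C ∧ y ∈ C).card = if G.Adj x y then 0 else 2 := by
  classical
  obtain ⟨M, cY, hdiag, hsymm, hadj, hsum, hsq, hent⟩ := far_kernel hG x
  -- entries and equal rows
  have habs : ∀ y z, -4 ≤ M y z ∧ M y z ≤ 4 ∧ (M y z = 4 → M y = M z) := by
    intro y z
    have hp : ∑ w, (M y w + M z w) * (M y w + M z w) = 384 + 96 * M y z := by
      simp only [add_mul, mul_add, sum_add_distrib, hsq, hdiag, hsymm z y]; ring
    have hm : ∑ w, (M y w - M z w) * (M y w - M z w) = 384 - 96 * M y z := by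
      simp only [sub_mul, mul_sub, sum_sub_distrib, hsq, hdiag, hsymm z y]; ring
    have hp' : (0 : ℤ) ≤ ∑ w, (M y w + M z w) * (M y w + M z w) := sum_nonneg fun _ _ => mul_self_nonneg _
    have hm' : (0 : ℤ) ≤ ∑ w, (M y w - M z w) * (M y w - M z w) := sum_nonneg fun _ _ => mul_self_nonneg _
    refine ⟨by linarith, by linarith, fun e => funext fun w => ?_⟩
    rw [e] at hm
    have h := (sum_eq_zero_iff_of_nonneg fun z _ => mul_self_nonneg _).1 hm w (mem_univ w)
    linarith [mul_self_eq_zero.1 h]
  have hrow : ∀ y z, M y = M z ↔ M y z = 4 := fun y z =>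
    ⟨fun e => by rw [e, hdiag], (habs y z).2.2⟩
  have hval : ∀ y z, M y z = 4 ∨ M y z = 1 ∨ M y z = -2 := by
    intro y z
    by_cases e : y = z
    · subst e; exact Or.inl (hdiag y)
    by_cases ha : G.Adj y.1 z.1
    · exact Or.inr (Or.inr (hadj y z ha))
    have h1 := hent y z
    rw [if_neg e, adjI, if_neg ha] at h1
    have h2 : 0 ≤ ∑ p : Nbr G x, adjI G y.1 p.1 * adjI G z.1 p.1 :=
      sum_nonneg fun p _ => mul_nonneg (adjI_nonneg _ _) (adjI_nonneg _ _)
    have h3 := habs y z
    omega
  let f4 : Far G x → Far G x → ℤ := fun y w => if M y w = 4 then 1 else 0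
  let f2 : Far G x → Far G x → ℤ := fun y w => if M y w = -2 then 1 else 0
  have hfour : ∀ y, ∑ w, f4 y w = 4 := by
    intro y
    have e : ∀ w, 18 * f4 y w = M y w * M y w + M y w - 2 := fun w => by
      rcases hval y w with h | h | h <;> simp [f4, h]
    have h := sum_congr rfl (fun w (_ : w ∈ (univ : Finset (Far G x))) => e w)
    rw [← mul_sum, sum_sub_distrib, sum_add_distrib, hsq, hdiag, hsum, sum_const, card_univ, cY] at h
    norm_num at h
    linarith
  have htwo : ∀ y, ∑ w, f2 y w = 24 := by
    intro y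
    have e : ∀ w, 18 * f2 y w = M y w * M y w - 5 * M y w + 4 := fun w => by
      rcases hval y w with h | h | h <;> simp [f2, h]
    have h := sum_congr rfl (fun w (_ : w ∈ (univ : Finset (Far G x))) => e w)
    rw [← mul_sum, sum_add_distrib, sum_sub_distrib, ← mul_sum, hsq, hdiag, hsum, sum_const,
      card_univ, cY] at h
    norm_num at h
    linarith
  have hmixed : ∀ y z, ∑ w, M y w * f4 z w = 4 * M y z := by
    intro y z
    have e : ∀ w, M y w * f4 z w = M y z * f4 z w := fun w => by
      by_cases h : M z w = 4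
      · rw [hsymm y w, ← congrFun ((hrow z w).2 h) y, hsymm z y]
      · simp [f4, h]
    rw [sum_congr rfl fun w _ => e w, ← mul_sum, hfour, mul_comm]
  have h44 : ∀ y z, ∑ w, f4 y w * f4 z w = if M y z = 4 then 4 else 0 := by
    intro y z
    split_ifs with h
    · rw [sum_congr rfl (g := fun w => f4 z w), hfour]
      intro w _
      simp only [f4, (habs y z).2.2 h]
      split_ifs <;> simp
    · refine sum_eq_zero fun w _ => ?_
      simp only [f4]
      split_ifs with h1 h2 <;> simp
      exact h ((hrow y z).1 (((hrow y w).2 h1).trans ((hrow z w).2 h2).symm))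
  have hcommon : ∀ y z, 9 * ∑ w, f2 y w * f2 z w = 84 + 24 * M y z + (if M y z = 4 then 36 else 0) := by
    intro y z
    have e : ∀ u w, 3 * f2 u w = 1 - M u w + 3 * f4 u w := fun u w => by
      rcases hval u w with h | h | h <;> simp [f2, f4, h]
    have e' : ∀ w, 9 * (f2 y w * f2 z w) = 1 - M y w - M z w + 3 * f4 y w + 3 * f4 z w + M y w * M z w
        - 3 * (M y w * f4 z w) - 3 * (M z w * f4 y w) + 9 * (f4 y w * f4 z w) := fun w => by
      linear_combination (3 * f2 z w) * e y w + (1 - M y w + 3 * f4 y w) * e z w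
    rw [mul_sum, sum_congr rfl fun w _ => e' w]
    simp only [sum_add_distrib, sum_sub_distrib, ← mul_sum, hsum, hfour, hsq, hmixed, hsymm z y, h44,
      sum_const, card_univ, cY]
    split_ifs with h
    · rw [h]; norm_num
    · norm_num; ring
  -- classes
  let Rows : Finset (Far G x → ℤ) := univ.image M
  let cl : Far G x → {r // r ∈ Rows} := fun y => ⟨M y, mem_image_of_mem M (mem_univ y)⟩
  have hcl : ∀ y z, cl y = cl z ↔ M y z = 4 := fun y z => by rw [← hrow]; exact Subtype.ext_iff
  have hclsurj : ∀ q, ∃ y, cl y = q := by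
    rintro ⟨r, hr⟩
    obtain ⟨y, -, rfl⟩ := mem_image.1 hr
    exact ⟨y, rfl⟩
  have hfib : ∀ q, (univ.filter fun y => cl y = q).card = 4 := by
    intro q
    obtain ⟨y, rfl⟩ := hclsurj q
    have h := hfour y
    simp only [f4, sum_boole] at h
    have h' : (univ.filter fun w => M y w = 4).card = 4 := by exact_mod_cast h
    rw [← h']
    congr 1
    ext w
    simp [hcl, hsymm w y]
  have hsat : ∀ S : Finset {r // r ∈ Rows}, (univ.filter fun y => cl y ∈ S).card = 4 * S.card := by
    intro S
    rw [card_eq_sum_card_fiberwise (s := univ.filter fun y => cl y ∈ S) (f := cl) (t := S)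
      (fun y hy => mem_coe.2 (mem_filter.1 (mem_coe.1 hy)).2),
      sum_congr rfl (g := fun _ => 4), sum_const, smul_eq_mul, mul_comm]
    intro q hq
    rw [← hfib q, filter_filter]
    congr 1
    ext y
    simp only [mem_filter, mem_univ, true_and]
    exact ⟨fun h => h.2, fun h => ⟨h ▸ hq, h⟩⟩
  let R : {r // r ∈ Rows} → {r // r ∈ Rows} → Prop := fun q q' => ∑ w, q.1 w * q'.1 w = -96
  have hR : ∀ y z, R (cl y) (cl z) ↔ M y z = -2 := fun y z => by
    show ∑ w, M y w * M z w = -96 ↔ _
    rw [hsq]; omega
  have hnb : ∀ y, (univ.filter fun z => cl z ∈ GQ22.nb R (cl y)) = univ.filter fun z => M y z = -2 := by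
    intro y
    ext z
    simp [GQ22.mem_nb, hR]
  have hpar : GQ22.Params R := by
    refine ⟨?_, ?_, ?_, ?_, ?_, ?_⟩
    · have h := hsat univ
      simp only [mem_univ, filter_true, card_univ, cY] at h
      omega
    · intro a b h
      show ∑ w, b.1 w * a.1 w = -96
      rw [← h]; exact sum_congr rfl fun w _ => mul_comm _ _
    · intro a ha
      obtain ⟨y, rfl⟩ := hclsurj a
      rw [hR, hdiag] at ha
      omega
    · intro a
      obtain ⟨y, rfl⟩ := hclsurj a
      have h := htwo y
      simp only [f2, sum_boole] at h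
      have h' : (univ.filter fun w => M y w = -2).card = 24 := by exact_mod_cast h
      rw [← hnb, hsat] at h'
      omega
    all_goals
      intro a b
      obtain ⟨y, rfl⟩ := hclsurj a
      obtain ⟨z, rfl⟩ := hclsurj b
      have h := hcommon y z
      have e : ∑ w, f2 y w * f2 z w = (4 * (GQ22.nb R (cl y) ∩ GQ22.nb R (cl z)).card : ℕ) := by
        have e0 : ∀ w, f2 y w * f2 z w =
            if cl w ∈ GQ22.nb R (cl y) ∩ GQ22.nb R (cl z) then 1 else 0 := fun w => by
          simp only [f2, mem_inter, GQ22.mem_nb, hR]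
          by_cases h1 : M y w = -2 <;> by_cases h2 : M z w = -2 <;> simp [h1, h2]
        rw [sum_congr rfl fun w _ => e0 w, sum_boole, hsat]
      rw [e] at h
    · intro hab
      rw [hR] at hab
      rw [hab, if_neg (by norm_num)] at h
      omega
    · intro hne hab
      rw [hR] at hab
      rw [ne_eq, hcl] at hne
      have := hval y z
      rw [if_neg hne] at h
      omega
  -- cocliques through `x` and five-cocliques of classes
  let D : Finset {r // r ∈ Rows} → Finset (Far G x) := fun s => univ.filter fun y => cl y ∈ s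
  let F : Finset {r // r ∈ Rows} → Finset V := fun s =>
    insert x ((D s).map (Function.Embedding.subtype _))
  have memF : ∀ {s} {y : Far G x}, y.1 ∈ F s ↔ cl y ∈ s := by
    intro s y
    simp [F, D, y.2.1, y.2.2]
  have hFco : ∀ s ∈ GQ22.fives R, F s ∈ cocliques G ∧ x ∈ F s := by
    intro s hs
    obtain ⟨h5, hind⟩ := GQ22.mem_fives.1 hs
    refine ⟨mem_cocliques.2 ⟨?_, ?_⟩, mem_insert_self _ _⟩
    · rw [card_insert_of_notMem (by simp), card_map, hsat, h5]
    · intro u hu v hv huv
      simp only [F, mem_insert, mem_map, Function.Embedding.coe_subtype] at hu hv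
      rcases hu with rfl | ⟨y, hy, rfl⟩ <;> rcases hv with rfl | ⟨z, hz, rfl⟩
      · exact huv.ne rfl
      · exact z.2.2 huv
      · exact y.2.2 huv.symm
      · exact hind _ (mem_filter.1 hy).2 _ (mem_filter.1 hz).2 ((hR y z).2 (hadj y z huv))
  have hFinj : Set.InjOn F (GQ22.fives R : Set (Finset {r // r ∈ Rows})) := by
    intro s _ t _ e
    ext q
    obtain ⟨y, rfl⟩ := hclsurj q
    rw [← memF, ← memF, e]
  have hFsurj : (cocliques G).filter (fun C => x ∈ C) = (GQ22.fives R).image F := by
    refine Subset.antisymm (fun C hC => ?_) ?_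
    swap
    · intro C hC
      obtain ⟨s, hs, rfl⟩ := mem_image.1 hC
      exact mem_filter.2 (hFco s hs)
    rw [mem_filter] at hC
    obtain ⟨hC, hxC⟩ := hC
    obtain ⟨hc, hind⟩ := mem_cocliques.1 hC
    let E : Finset (Far G x) := univ.filter fun y => y.1 ∈ C
    have eC : C = insert x (E.map (Function.Embedding.subtype _)) := by
      ext u
      simp only [E, mem_insert, mem_map, mem_filter, mem_univ, true_and, Function.Embedding.coe_subtype]
      constructor
      · intro hu
        by_cases e : u = x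
        · exact Or.inl e
        · exact Or.inr ⟨⟨u, e, hind x hxC u hu⟩, hu, rfl⟩
      · rintro (rfl | ⟨y, hy, rfl⟩)
        · exact hxC
        · exact hy
    have cE : E.card = 20 := by
      rw [eC, card_insert_of_notMem (by simp), card_map] at hc
      omega
    have h5 : ∀ p : Nbr G x, ∑ z ∈ E, adjI G z.1 p.1 = 5 := by
      intro p
      have h := coclique_nbrs hG hC (v := p.1) (fun hp => hind x hxC p.1 hp p.2)
      rw [eC, sum_insert (by simp), sum_map] at h
      have e : adjI G x p.1 = 1 := by simp [adjI, p.2]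
      rw [e] at h
      have h' : (1 : ℤ) + ∑ z ∈ E, adjI G z.1 p.1 = 6 := h
      linarith
    have hE : ∀ y ∈ E, ∀ z, (M y z = 4 → z ∈ E) ∧ (z ∈ E → M y z ≠ -2) := by
      intro y hy
      have hK : ∑ z ∈ E, ∑ p : Nbr G x, adjI G y.1 p.1 * adjI G z.1 p.1 = 20 := by
        rw [sum_comm, sum_congr rfl (g := fun p : Nbr G x => adjI G y.1 p.1 * 5)]
        · rw [← sum_mul]
          have h := hent y y
          rw [hdiag, if_pos rfl, adjI, if_neg (G.irrefl),
            sum_congr rfl (fun (p : Nbr G x) _ => adjI_mul_self y.1 p.1)] at h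
          linarith
        · intro p _
          rw [← mul_sum, h5]
      have hS : ∑ z ∈ E, M y z = 32 := by
        rw [sum_congr rfl (g := fun z => 12 * (if y = z then 1 else 0) + 4
          - 3 * ∑ p : Nbr G x, adjI G y.1 p.1 * adjI G z.1 p.1)]
        · rw [sum_sub_distrib, sum_add_distrib, ← mul_sum, ← mul_sum, sum_ite_eq, if_pos hy, hK,
            sum_const, cE]
          norm_num
        · intro z hz
          rw [hent, adjI, if_neg (hind _ (mem_filter.1 hy).2 _ (mem_filter.1 hz).2)]
          ring
      have hle : ∀ z, M y z - 1 ≤ 3 * f4 y z := fun z => by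
        rcases hval y z with h | h | h <;> simp [f4, h]
      have hle4 : ∑ z ∈ E, f4 y z ≤ 4 := by
        rw [← hfour y]
        exact sum_le_univ_sum_of_nonneg fun z => by simp only [f4]; split_ifs <;> simp
      have heq : ∀ z ∈ E, M y z - 1 = 3 * f4 y z := by
        have h : ∑ z ∈ E, (M y z - 1) = ∑ z ∈ E, 3 * f4 y z := by
          refine le_antisymm (sum_le_sum fun z _ => hle z) ?_
          rw [sum_sub_distrib, hS, sum_const, cE, ← mul_sum]
          norm_num
          linarith
        exact (sum_eq_sum_iff_of_le fun z _ => hle z).1 h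
      intro z
      refine ⟨fun hz => ?_, fun hz h => ?_⟩
      · by_contra hzE
        have h := sum_congr rfl heq
        rw [sum_sub_distrib, hS, sum_const, cE, ← mul_sum] at h
        have h' : ∑ w ∈ E, f4 y w + f4 y z ≤ 4 := by
          rw [← hfour y, add_comm, ← sum_insert hzE]
          exact sum_le_univ_sum_of_nonneg fun z => by simp only [f4]; split_ifs <;> simp
        simp only [f4, hz, if_true] at h'
        simp only [f4] at h
        rw [← mul_one (3 : ℤ), nsmul_one] at h
        push_cast at h
        linarith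
      · have := heq z hz
        simp [f4, h] at this
    refine mem_image.2 ⟨E.image cl, GQ22.mem_fives.2 ⟨?_, ?_⟩, ?_⟩
    · have e : (univ.filter fun y => cl y ∈ E.image cl) = E := by
        ext z
        simp only [mem_filter, mem_univ, true_and, mem_image]
        exact ⟨fun ⟨y, hy, e⟩ => (hE y hy z).1 ((hcl y z).1 e), fun hz => ⟨z, hz, rfl⟩⟩
      have h := hsat (E.image cl)
      rw [e, cE] at h
      omega
    · intro a ha b hb
      obtain ⟨y, hy, rfl⟩ := mem_image.1 ha
      obtain ⟨z, hz, rfl⟩ := mem_image.1 hb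
      rw [hR]
      exact (hE y hy z).2 hz
    · rw [eC]
      simp only [F, D]
      congr 2
      ext z
      simp only [mem_filter, mem_univ, true_and, mem_image]
      exact ⟨fun ⟨y, hy, e⟩ => (hE y hy z).1 ((hcl y z).1 e), fun hz => ⟨z, hz, rfl⟩⟩
  refine ⟨by rw [hFsurj, card_image_of_injOn hFinj, GQ22.card_fives hpar], fun y hxy => ?_⟩
  rw [← filter_filter, hFsurj]
  split_ifs with ha
  · rw [card_eq_zero, filter_eq_empty_iff]
    intro C hC hyC
    obtain ⟨s, hs, rfl⟩ := mem_image.1 hC
    exact (mem_cocliques.1 (hFco s hs).1).2 x (hFco s hs).2 y hyC ha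
  · let y' : Far G x := ⟨y, Ne.symm hxy, ha⟩
    rw [filter_image, card_image_of_injOn (hFinj.mono fun s hs => (mem_filter.1 hs).1),
      ← GQ22.card_fives_through hpar (cl y')]
    congr 1
    ext s
    simp only [mem_filter]
    rw [← memF (y := y')]

/-- The graph is the block graph of S(3,6,22). -/
theorem exists_iso_blockGraph (hG : G.IsSRGWith 77 16 0 4) :
    Nonempty (G ≃g blockGraph blocks22) := by
  classical
  let α := {C : Finset V // C ∈ cocliques G}
  have hcnt : ∀ (P : Finset V → Prop) [DecidablePred P],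
      (univ.filter fun C : α => P C.1).card = ((cocliques G).filter P).card := by
    intro P _
    rw [← card_map (Function.Embedding.subtype _)]
    congr 1
    ext C
    simp [α, and_comm]
  have hco : (cocliques G).card = 22 := by
    have e : ∀ C ∈ cocliques G, (21 : ℕ) = ∑ v : V, if v ∈ C then 1 else 0 := fun C hC => by
      rw [← card_filter, ← (mem_cocliques.1 hC).1]; congr 1; ext; simp
    have h := sum_congr rfl e
    rw [sum_const, sum_comm, sum_congr rfl (s₁ := (univ : Finset V)) (g := fun _ => 6), sum_const,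
      card_univ, hG.card, smul_eq_mul, smul_eq_mul] at h
    · omega
    · intro v _
      rw [← card_filter, (coclique_counts hG v).1]
  have hα : Fintype.card α = 22 := by rw [Fintype.card_coe]; exact hco
  let blk : V → Finset α := fun v => univ.filter fun C => v ∈ C.1
  have memblk : ∀ {v : V} {C : α}, C ∈ blk v ↔ v ∈ C.1 := by simp [blk]
  have hb6 : ∀ v, (blk v).card = 6 := fun v => by
    rw [← (coclique_counts hG v).1, ← hcnt]
  have hmeet : ∀ u v, (blk u ∩ blk v).card = if u = v then 6 else if G.Adj u v then 0 else 2 := by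
    intro u v
    split_ifs with h1 h2
    · rw [h1, inter_self, hb6]
    all_goals
      have h := (coclique_counts hG u).2 v h1
      simp only [h2, if_true, if_false] at h
      rw [← h, ← hcnt]
      congr 1
      ext C
      simp [memblk]
  have hinj : Function.Injective blk := by
    intro u v e
    by_contra hne
    have h := hmeet u v
    rw [if_neg hne, e, inter_self, hb6] at h
    split_ifs at h <;> omega
  let B : Set (Finset α) := ((univ : Finset V).image blk : Finset (Finset α))
  have hBst : IsSteinerSystem 3 6 B := by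
    refine ⟨fun b hb => ?_, fun s hs => ?_⟩
    · obtain ⟨v, -, rfl⟩ := mem_image.1 (mem_coe.1 hb)
      exact hb6 v
    · have hdisj : ((univ : Finset V) : Set V).PairwiseDisjoint fun v => (blk v).powersetCard 3 := by
        intro u _ v _ hne
        rw [Function.onFun, disjoint_left]
        intro t ht ht'
        rw [mem_powersetCard] at ht ht'
        have h := card_le_card (subset_inter ht.1 ht'.1)
        rw [hmeet, if_neg hne] at h
        split_ifs at h <;> omega
      have hall : (univ : Finset V).biUnion (fun v => (blk v).powersetCard 3) =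
          (univ : Finset α).powersetCard 3 := by
        refine eq_of_subset_of_card_le (fun t ht => ?_) ?_
        · obtain ⟨v, -, ht⟩ := mem_biUnion.1 ht
          exact mem_powersetCard.2 ⟨subset_univ _, (mem_powersetCard.1 ht).2⟩
        · rw [card_biUnion hdisj, card_powersetCard, card_univ, hα,
            sum_congr rfl (g := fun _ => 20) (fun v _ => by rw [card_powersetCard, hb6]; rfl),
            sum_const, card_univ, hG.card]
          decide
      have hs' : s ∈ (univ : Finset V).biUnion (fun v => (blk v).powersetCard 3) :=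
        hall ▸ mem_powersetCard.2 ⟨subset_univ s, hs⟩
      obtain ⟨v, hv, hsv⟩ := mem_biUnion.1 hs'
      refine ⟨blk v, ⟨mem_coe.2 (mem_image_of_mem _ hv), (mem_powersetCard.1 hsv).1⟩, ?_⟩
      rintro b ⟨hb, hsb⟩
      obtain ⟨u, hu, rfl⟩ := mem_image.1 (mem_coe.1 hb)
      rw [show u = v by
        by_contra hne
        exact disjoint_left.1 (hdisj (mem_coe.2 hu) (mem_coe.2 hv) hne)
          (mem_powersetCard.2 ⟨hsb, hs⟩) hsv]
  obtain ⟨h, hB⟩ := exists_famImg_blocks22 hα hBst
  have hblock : ∀ b : blocks22, ∃ v, blk v = (b : Finset Pt22).image h := by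
    intro b
    have : (b : Finset Pt22).image h ∈ B := hB ▸ ⟨b, b.2, rfl⟩
    obtain ⟨v, -, e⟩ := mem_image.1 (mem_coe.1 this)
    exact ⟨v, e⟩
  choose pick hpick using hblock
  have hbij : Function.Bijective pick := by
    refine ⟨fun b c e => Subtype.ext (image_injective h.injective ?_), fun v => ?_⟩
    · rw [← hpick, ← hpick, e]
    · have hv : blk v ∈ famImg h blocks22 := hB ▸ mem_coe.2 (mem_image_of_mem blk (mem_univ v))
      obtain ⟨b, hb, e⟩ := hv
      refine ⟨⟨b, hb⟩, hinj ?_⟩
      rw [hpick]
      exact e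
  have hne : ∀ b ∈ blocks22, b.card ≠ 0 := fun b hb => by rw [steiner_blocks22.1 b hb]; decide
  have hadj : ∀ b c, G.Adj (pick b) (pick c) ↔ (blockGraph blocks22).Adj b c := by
    intro b c
    rw [blockGraph_adj hne, ← disjoint_image h.injective, ← hpick, ← hpick,
      disjoint_iff_inter_eq_empty, ← card_eq_zero, hmeet]
    split_ifs with h1 h2
    · simp [h1]
    · simp [h2]
    · simp [h2]
  exact ⟨(⟨Equiv.ofBijective pick hbij, fun {a b} => hadj a b⟩ : blockGraph blocks22 ≃g G).symm⟩

end Cfsg.Agent.Lib.Design.SRG77
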