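import Cfsg.Agent.Lib.Design.Unique22
import Cfsg.Agent.Lib.Design.Graphs22

/-!
# Uniqueness of the strongly regular graph with parameters (100, 22, 0, 6)

The neighbours of a vertex are 22 points and every other vertex picks 6 of them.  Moments show that
two of these 77 six-sets meet in no point when the vertices are adjacent and in two points
otherwise, so they form an S(3,6,22) and the graph is its point-block graph.
-/

namespace Cfsg.Agent.Lib.Design

open Cfsg Finset

variable {V : Type*} [Fintype V] [DecidableEq V] {G : SimpleGraph V} [DecidableRel G.Adj]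

/-- Common neighbours counted in the universe. -/
theorem srg_common (hG : G.IsSRGWith 100 22 0 6) {x y : V} (hne : x ≠ y) :
    (univ.filter fun u => G.Adj x u ∧ G.Adj y u).card = if G.Adj x y then 0 else 6 := by
  have e : Fintype.card (G.commonNeighbors x y) = (univ.filter fun u => G.Adj x u ∧ G.Adj y u).card :=
    Fintype.card_subtype (fun u => G.Adj x u ∧ G.Adj y u)
  rw [← e]
  split_ifs with h
  · exact hG.of_adj x y h
  · exact hG.of_not_adj hne h

theorem srg_degree (hG : G.IsSRGWith 100 22 0 6) (x : V) : (univ.filter fun u => G.Adj x u).card = 22 := by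
  rw [← hG.regular x, SimpleGraph.degree, SimpleGraph.neighborFinset_eq_filter]

theorem srg_no_triangle (hG : G.IsSRGWith 100 22 0 6) {x y z : V} (hxy : G.Adj x y) (hxz : G.Adj x z) :
    ¬ G.Adj y z := fun hyz => by
  have h := srg_common hG hxy.ne
  rw [if_pos hxy, card_eq_zero, filter_eq_empty_iff] at h
  exact h (mem_univ z) ⟨hxz, hyz⟩

/-- The point-block picture of the graph at a given vertex. -/
theorem exists_iso_pointBlock_at (hG : G.IsSRGWith 100 22 0 6) (v0 : V) :
    ∃ e : G ≃g pointBlockGraph blocks22, e v0 = none := by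
  classical
  let N := univ.filter fun u => G.Adj v0 u
  let M := univ.filter fun u => u ≠ v0 ∧ ¬ G.Adj v0 u
  have hN : N.card = 22 := srg_degree hG v0
  have hM : M.card = 77 := by
    have h : (univ : Finset V) = insert v0 (N ∪ M) := by
      ext u
      simp only [N, M, mem_univ, mem_insert, mem_union, mem_filter, true_and, true_iff]
      tauto
    have hd : Disjoint N M := by
      simp only [N, M, disjoint_filter]
      tauto
    have hc := congrArg card h
    rw [card_univ, hG.card, card_insert_of_notMem (by simp [N, M]), card_union_of_disjoint hd, hN] at hc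
    omega
  have memN : ∀ {u}, u ∈ N ↔ G.Adj v0 u := by simp [N]
  have memM : ∀ {u}, u ∈ M ↔ u ≠ v0 ∧ ¬ G.Adj v0 u := by simp [M]
  let α := {u : V // G.Adj v0 u}
  have hα : Fintype.card α = 22 := by rw [Fintype.card_subtype]; exact hN
  let blk : V → Finset α := fun x => univ.filter fun p => G.Adj x p.1
  have memblk : ∀ {x : V} {p : α}, p ∈ blk x ↔ G.Adj x p.1 := by simp [blk]
  have hb6 : ∀ x ∈ M, (blk x).card = 6 := by
    intro x hx
    have h := srg_common hG (memM.1 hx).1.symm
    rw [if_neg (memM.1 hx).2] at h
    rw [← h, ← card_map (Function.Embedding.subtype _)]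
    congr 1
    ext u
    simp only [blk, mem_map, mem_filter, mem_univ, true_and, Function.Embedding.coe_subtype]
    exact ⟨fun ⟨⟨p, hp⟩, h1, e⟩ => e ▸ ⟨hp, h1⟩, fun ⟨h1, h2⟩ => ⟨⟨u, h1⟩, h2, rfl⟩⟩
  have hp21 : ∀ p : α, (M.filter fun y => p ∈ blk y).card = 21 := by
    intro p
    have h : (univ.filter fun u => G.Adj p.1 u) = insert v0 (M.filter fun y => p ∈ blk y) := by
      ext u
      simp only [mem_filter, mem_univ, true_and, mem_insert, memM, memblk]
      constructor
      · intro hu
        by_cases hu0 : u = v0
        · exact Or.inl hu0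
        · exact Or.inr ⟨⟨hu0, fun h => srg_no_triangle hG p.2.symm hu h⟩, hu.symm⟩
      · rintro (rfl | ⟨-, h⟩)
        · exact p.2.symm
        · exact h.symm
    have hc := srg_degree hG p.1
    rw [h, card_insert_of_notMem (by simp [memM])] at hc
    omega
  have hpq : ∀ p q : α, p ≠ q → (M.filter fun y => p ∈ blk y ∧ q ∈ blk y).card = 5 := by
    intro p q hne
    have hna : ¬ G.Adj p.1 q.1 := srg_no_triangle hG p.2 q.2
    have h := srg_common hG (Subtype.coe_injective.ne hne)
    rw [if_neg hna] at h
    have e : (univ.filter fun u => G.Adj p.1 u ∧ G.Adj q.1 u) =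
        insert v0 (M.filter fun y => p ∈ blk y ∧ q ∈ blk y) := by
      ext u
      simp only [mem_filter, mem_univ, true_and, mem_insert, memM, memblk]
      constructor
      · rintro ⟨hu, hu'⟩
        by_cases hu0 : u = v0
        · exact Or.inl hu0
        · exact Or.inr ⟨⟨hu0, fun h => srg_no_triangle hG p.2.symm hu h⟩, hu.symm, hu'.symm⟩
      · rintro (rfl | ⟨-, h1, h2⟩)
        · exact ⟨p.2.symm, q.2.symm⟩
        · exact ⟨h1.symm, h2.symm⟩
    rw [e, card_insert_of_notMem (by simp [memM])] at h
    omega
  have hmeet : ∀ x ∈ M, ∀ y ∈ M, (blk x ∩ blk y).card =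
      if y = x then 6 else if G.Adj x y then 0 else 2 := by
    intro x hx
    let f : V → ℤ := fun y => ((blk x ∩ blk y).card : ℤ)
    have s1 : ∑ y ∈ M, f y = 126 := by
      have : ∑ y ∈ M, (blk x ∩ blk y).card = 126 := by
        simp only [← filter_mem_eq_inter, card_filter]
        rw [sum_comm, sum_congr rfl (g := fun _ => 21), sum_const, hb6 x hx, smul_eq_mul]
        intro p _
        rw [← card_filter, hp21]
      show ∑ y ∈ M, ((blk x ∩ blk y).card : ℤ) = 126
      exact_mod_cast this
    have s2 : ∑ y ∈ M, f y * f y = 276 := by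
      have : ∑ y ∈ M, (blk x ∩ blk y).card * (blk x ∩ blk y).card = 276 := by
        have e : ∀ y, (blk x ∩ blk y).card * (blk x ∩ blk y).card =
            ((blk x ×ˢ blk x).filter fun e => e.1 ∈ blk y ∧ e.2 ∈ blk y).card := fun y => by
          rw [← card_product]
          congr 1
          ext e
          simp only [mem_product, mem_inter, mem_filter]
          tauto
        simp only [e, card_filter]
        rw [sum_comm, sum_congr rfl (g := fun e : α × α => if e.1 = e.2 then 21 else 5),
          sum_product]
        · rw [sum_congr rfl (g := fun _ => 46), sum_const, hb6 x hx, smul_eq_mul]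
          intro p hp
          rw [sum_ite, sum_const, sum_const, filter_eq, if_pos hp, card_singleton,
            filter_ne, card_erase_of_mem hp, hb6 x hx]
          rfl
        · intro e _
          rw [← card_filter]
          split_ifs with h
          · rw [← hp21 e.1, h]
            congr 1
            ext y
            simp
          · rw [← hpq e.1 e.2 h]
      show ∑ y ∈ M, ((blk x ∩ blk y).card : ℤ) * ((blk x ∩ blk y).card : ℤ) = 276
      exact_mod_cast this
    let A := M.filter fun y => G.Adj x y
    have hA : A.card = 16 := by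
      have h : (univ.filter fun u => G.Adj x u) =
          A ∪ (blk x).map (Function.Embedding.subtype _) := by
        ext u
        simp only [A, mem_filter, mem_univ, true_and, mem_union, memM, mem_map, memblk,
          Function.Embedding.coe_subtype]
        constructor
        · intro hu
          by_cases h0 : G.Adj v0 u
          · exact Or.inr ⟨⟨u, h0⟩, hu, rfl⟩
          · exact Or.inl ⟨⟨fun e => (memM.1 hx).2 (e ▸ hu).symm, h0⟩, hu⟩
        · rintro (⟨-, h⟩ | ⟨p, h, rfl⟩) <;> exact h
      have hd : Disjoint A ((blk x).map (Function.Embedding.subtype _)) := by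
        rw [disjoint_left]
        intro u hu hu'
        obtain ⟨p, -, rfl⟩ := mem_map.1 hu'
        exact (memM.1 (mem_filter.1 hu).1).2 p.2
      have hc := srg_degree hG x
      rw [h, card_union_of_disjoint hd, card_map, hb6 x hx] at hc
      omega
    have hA0 : ∀ y ∈ A, (blk x ∩ blk y).card = 0 := by
      intro y hy
      rw [card_eq_zero, eq_empty_iff_forall_notMem]
      intro p hp
      rw [mem_inter, memblk, memblk] at hp
      exact srg_no_triangle hG hp.1.symm hp.2.symm (mem_filter.1 hy).2
    have hxA : x ∉ A := by simp [A]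
    have hsub : insert x A ⊆ M := insert_subset hx (filter_subset _ _)
    have hrest : ∑ y ∈ M \ insert x A, (f y - 2) * (f y - 2) = 0 := by
      have htot : ∑ y ∈ M, (f y - 2) * (f y - 2) = 80 := by
        simp only [sub_mul, mul_sub, sum_sub_distrib, ← mul_sum, ← sum_mul, sum_const, s1, s2, hM]
        norm_num
      rw [← sum_sdiff hsub, sum_insert hxA, sum_congr rfl (s₁ := A) (g := fun _ => (4 : ℤ))
        (fun y hy => by simp [f, hA0 y hy]), sum_const, hA] at htot
      simp only [f, inter_self, hb6 x hx] at htot ⊢
      norm_num at htot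
      linarith
    intro y hy
    split_ifs with h1 h2
    · subst h1; rw [inter_self, hb6 y hy]
    · exact hA0 y (mem_filter.2 ⟨hy, h2⟩)
    · have h := (sum_eq_zero_iff_of_nonneg fun z _ => mul_self_nonneg _).1 hrest y
        (by simp [A, hy, h1, h2])
      have : ((blk x ∩ blk y).card : ℤ) = 2 := by
        show f y = 2
        linarith [mul_self_eq_zero.1 h]
      exact_mod_cast this
  have hinj : ∀ x ∈ M, ∀ y ∈ M, blk x = blk y → x = y := by
    intro x hx y hy e
    by_contra hne
    have h := hmeet x hx y hy
    rw [if_neg (Ne.symm hne), ← e, inter_self, hb6 x hx] at h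
    split_ifs at h <;> omega
  let B : Set (Finset α) := (M.image blk : Finset (Finset α))
  have hBst : IsSteinerSystem 3 6 B := by
    refine ⟨fun b hb => ?_, fun s hs => ?_⟩
    · obtain ⟨x, hx, rfl⟩ := mem_image.1 (mem_coe.1 hb)
      exact hb6 x hx
    · have hdisj : (M : Set V).PairwiseDisjoint fun x => (blk x).powersetCard 3 := by
        intro x hx y hy hne
        rw [Function.onFun, disjoint_left]
        intro t ht ht'
        rw [mem_powersetCard] at ht ht'
        have h := card_le_card (subset_inter ht.1 ht'.1)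
        rw [hmeet x hx y hy, if_neg (Ne.symm hne)] at h
        split_ifs at h <;> omega
      have hall : M.biUnion (fun x => (blk x).powersetCard 3) = (univ : Finset α).powersetCard 3 := by
        refine eq_of_subset_of_card_le (fun t ht => ?_) ?_
        · obtain ⟨x, -, ht⟩ := mem_biUnion.1 ht
          exact mem_powersetCard.2 ⟨subset_univ _, (mem_powersetCard.1 ht).2⟩
        · rw [card_biUnion hdisj, card_powersetCard, card_univ, hα,
            sum_congr rfl (g := fun _ => 20) (fun x hx => by rw [card_powersetCard, hb6 x hx]; rfl),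
            sum_const, hM]
          decide
      have hs' : s ∈ M.biUnion (fun x => (blk x).powersetCard 3) :=
        hall ▸ mem_powersetCard.2 ⟨subset_univ s, hs⟩
      obtain ⟨x, hx, hsx⟩ := mem_biUnion.1 hs'
      refine ⟨blk x, ⟨mem_coe.2 (mem_image_of_mem _ hx), (mem_powersetCard.1 hsx).1⟩, ?_⟩
      rintro b ⟨hb, hsb⟩
      obtain ⟨y, hy, rfl⟩ := mem_image.1 (mem_coe.1 hb)
      rw [show y = x by
        by_contra hne
        exact disjoint_left.1 (hdisj hy hx hne) (mem_powersetCard.2 ⟨hsb, hs⟩) hsx]
  obtain ⟨h, hB⟩ := exists_famImg_blocks22 hα hBst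
  have hblock : ∀ b : blocks22, ∃ x ∈ M, blk x = (b : Finset Pt22).image h := by
    intro b
    have : (b : Finset Pt22).image h ∈ B := hB ▸ ⟨b, b.2, rfl⟩
    obtain ⟨x, hx, e⟩ := mem_image.1 (mem_coe.1 this)
    exact ⟨x, hx, e⟩
  choose pick hpickM hpick using hblock
  let φ : Option (Pt22 ⊕ blocks22) → V
    | none => v0
    | some (Sum.inl p) => (h p).1
    | some (Sum.inr b) => pick b
  have hφinj : Function.Injective φ := by
    rintro (_ | p | b) (_ | q | c) e <;> simp only [φ] at e
    · rfl
    · exact absurd e (h q).2.ne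
    · exact absurd e.symm (memM.1 (hpickM c)).1
    · exact absurd e.symm (h p).2.ne
    · rw [h.injective (Subtype.ext e)]
    · exact absurd (show G.Adj v0 (pick c) from e ▸ (h p).2) (memM.1 (hpickM c)).2
    · exact absurd e (memM.1 (hpickM b)).1
    · exact absurd (show G.Adj v0 (pick b) from e.symm ▸ (h q).2) (memM.1 (hpickM b)).2
    · have hb := congrArg blk e
      rw [hpick, hpick] at hb
      rw [Subtype.ext (image_injective h.injective hb)]
  have hφsurj : Function.Surjective φ := by
    intro v
    by_cases h0 : v = v0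
    · exact ⟨none, h0.symm⟩
    by_cases h1 : G.Adj v0 v
    · exact ⟨some (Sum.inl (h.symm ⟨v, h1⟩)), by simp [φ]⟩
    have hv : v ∈ M := memM.2 ⟨h0, h1⟩
    have hvB : blk v ∈ famImg h blocks22 := hB ▸ mem_coe.2 (mem_image_of_mem blk hv)
    obtain ⟨b, hb, e⟩ := hvB
    refine ⟨some (Sum.inr ⟨b, hb⟩), hinj _ (hpickM _) v hv ?_⟩
    rw [hpick]
    exact e
  have hne : ∀ b ∈ blocks22, b.card ≠ 0 := fun b hb => by rw [steiner_blocks22.1 b hb]; decide
  have hadj : ∀ a b, (pointBlockGraph blocks22).Adj a b ↔ G.Adj (φ a) (φ b) := by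
    have key : ∀ (p : Pt22) (b : blocks22), p ∈ (b : Finset Pt22) ↔ G.Adj (pick b) (h p).1 := by
      intro p b
      rw [← memblk, hpick, mem_image]
      exact ⟨fun hp => ⟨p, hp, rfl⟩, fun ⟨q, hq, e⟩ => h.injective e ▸ hq⟩
    rintro (_ | p | b) (_ | q | c) <;> simp only [φ]
    · simp
    · exact iff_of_true (pbg_none_inl q) (h q).2
    · exact iff_of_false (pbg_none_inr c) (memM.1 (hpickM c)).2
    · exact iff_of_true (pbg_none_inl p).symm (h p).2.symm
    · exact iff_of_false (pbg_inl_inl p q) (srg_no_triangle hG (h p).2 (h q).2)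
    · rw [pbg_inl_inr, key, G.adj_comm]
    · exact iff_of_false (fun e => pbg_none_inr b e.symm) (fun e => (memM.1 (hpickM b)).2 e.symm)
    · rw [(pointBlockGraph blocks22).adj_comm, pbg_inl_inr, key]
    · rw [pbg_inr_inr hne, ← disjoint_image h.injective, ← hpick b, ← hpick c,
        disjoint_iff_inter_eq_empty, ← card_eq_zero, hmeet _ (hpickM b) _ (hpickM c)]
      split_ifs with h1 h2
      · simp [h1]
      · simp [h2]
      · simp [h2]
  refine ⟨((⟨Equiv.ofBijective φ ⟨hφinj, hφsurj⟩, fun {a b} => (hadj a b).symm⟩ :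
    pointBlockGraph blocks22 ≃g G)).symm, ?_⟩
  exact (Equiv.ofBijective φ ⟨hφinj, hφsurj⟩).symm_apply_apply none

/-- The point-block picture of the graph. -/
theorem exists_iso_pointBlock (hG : G.IsSRGWith 100 22 0 6) :
    Nonempty (G ≃g pointBlockGraph blocks22) := by
  obtain ⟨v0⟩ : Nonempty V := Fintype.card_pos_iff.1 (by rw [hG.card]; norm_num)
  exact ⟨(exists_iso_pointBlock_at hG v0).choose⟩

end Cfsg.Agent.Lib.Design
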